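import Cfsg.Agent.H78.MTwelve.Main
import Cfsg.Agent.H55.SThree.Frame

/-! The table with exchanged factors excluded is that of the M12 involution centralizer. -/

set_option autoImplicit false
set_option maxRecDepth 20000

namespace H78.MTwelve

open H55.SThree (allL qL mulC)

def codeData : Nat := 523845158244581928372204395176757381097242030192166937785179053551283328853333823314036502710896754010771609210925261673993458607792965360385265494872082891455563085492598644515990525542177048797166131610642800494674559572383405252569084930525601491199994745348015388487007951457641143520239038946188855422621361110407611887919407696726647889973800765326189233598841649790298152716794004170535530133918758153829875740789426298397611740384029290505089768966742016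

/-- The code of a table element. -/
def codeOf (a : Fin 192) : Nat := (codeData >>> (8 * a.val)) &&& 255

theorem codeOf_lt : ∀ a : Fin 192, codeOf a ∈ allL := by decide +kernel

theorem codeOf_mul : ∀ a : Fin 192, ∀ b : Fin 192,
    mulC false false (codeOf a) (codeOf b) = codeOf (m a b) := by decide +kernel

theorem codeOf_surj : ∀ c ∈ allL, ∃ a : Fin 192, codeOf a = c := by decide +kernel

theorem codeOf_inj : ∀ a : Fin 192, ∀ b : Fin 192, codeOf a = codeOf b → a = b := by decide +kernel

theorem codeOf_one : codeOf 1 = 96 := by decide +kernel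

theorem codeOf_Q : ∀ a : Fin 192, codeOf a ∈ qL → typ a ≠ 4 := by decide +kernel

/-- In this table a conjugate of `s` in `Q` other than `s` gives one of two conclusions. -/
theorem pair_case {G : Type*} [Group G] [Finite G] {s : G} {Q : Subgroup G} {φ : ℕ → G}
    (F : H55.SThree.Frame s Q false false φ) (g : G) (hgQ : g * s * g⁻¹ ∈ Q)
    (hgs : g * s * g⁻¹ ≠ s) :
    (∃ (N : Subgroup G) (_ : N.Normal), IsMulCommutative N ∧ (∀ n ∈ N, n ^ 2 = 1) ∧ Nat.card N = 8 ∧
      Nonempty (G ⧸ N ≃* Matrix.ProjectiveSpecialLinearGroup (Fin 3) (ZMod 2))) ∨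
    Cfsg.Spor.IsoM12 G := by
  have ht : φ (codeOf 1) = s := by rw [codeOf_one, F.map_s]
  let E : Emb G :=
    { ι := fun a => φ (codeOf a)
      inj := fun a b h => codeOf_inj a b (F.inj _ (codeOf_lt a) _ (codeOf_lt b) h)
      hom := fun a b => by rw [← codeOf_mul, F.mul _ (codeOf_lt a) _ (codeOf_lt b)]
      range := fun x hx => by
        rw [ht] at hx
        obtain ⟨c, hc, rfl⟩ := F.surj x (Subgroup.mem_centralizer_singleton_iff.mpr hx)
        obtain ⟨a, rfl⟩ := codeOf_surj c hc
        exact ⟨a, rfl⟩ }
  obtain ⟨c, hc, hce⟩ := F.surj _ (F.Q_le hgQ)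
  obtain ⟨a, rfl⟩ := codeOf_surj c hc
  have hcl : E.Cl a := isConj_iff.mpr ⟨g, by
    show g * φ (codeOf 1) * g⁻¹ = φ (codeOf a)
    rw [ht, hce]⟩
  have haQ : codeOf a ∈ qL := (F.mem_Q _ hc).mp (hce ▸ hgQ)
  refine isoM12_or_normal_eight E ?_
  rcases E.cl_cases hcl with rfl | ⟨-, h⟩ | ⟨-, h⟩ | ⟨h, -⟩
  · exact absurd (hce.symm.trans ht) hgs
  · exact h
  · exact absurd h E.not_cl_x
  · exact absurd h (codeOf_Q a haQ)

end H78.MTwelve
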