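import Cfsg.Agent.H78.MTwelve.Facts

/-! Automorphisms of the centralizer of 2 compatible with fusion, by exhaustive search over images of
three generators. -/

set_option autoImplicit false
set_option maxRecDepth 20000

namespace H78.MTwelve

/-- The three generators of the centralizer of 2. -/
def genD : Fin 3 → Fin 192
  | 0 => 4
  | 1 => 8
  | 2 => 16

/-- Selection among three values. -/
def sel3 (p q r : Fin 192) : Fin 3 → Fin 192
  | 0 => p
  | 1 => q
  | 2 => r

/-- The image of `i < 32` under the homomorphism sending the generators to `p`, `q`, `r`. -/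
def img (p q r : Fin 192) (i : Nat) : Fin 192 :=
  (wordsD.getD i []).foldl (fun acc k => m acc (sel3 p q r k)) 0

theorem img_self : ∀ i : Fin 32, img 4 8 16 i.val = mk192 i.val := by decide +kernel

/-- A coarse order invariant. -/
def sig (a : Fin 192) : Bool × Bool := (decide (m a a = 0), decide (m (m a a) (m a a) = 0))

/-- Involution classes when the class of 16 is not fused to 1. -/
def clA (a : Fin 192) : Bool := typ a == 1 || typ a == 2

/-- Involution classes when the class of 16 is fused to 1. -/
def clB (a : Fin 192) : Bool := typ a == 1 || typ a == 2 || typ a == 4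

/-- Necessary conditions on the images of two generators. -/
def pairOK (cl : Fin 192 → Bool) (p q g h : Fin 192) : Bool :=
  sig (m p q) == sig (m g h) && cl (m p q) == cl (m g h)

/-- A candidate automorphism. -/
def candOK (cl : Fin 192 → Bool) (p q r : Fin 192) : Prop :=
  img p q r 1 = 2 ∧ img p q r 2 = 1 ∧
    ∀ i : Fin 32, cl (img p q r i.val) = cl (mk192 i.val)

instance (cl : Fin 192 → Bool) (p q r : Fin 192) : Decidable (candOK cl p q r) := by
  unfold candOK; infer_instance

/-- `Fin 32` inside the table. -/
def up (i : Fin 32) : Fin 192 := mk192 i.val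

/-- A restriction of an admissible image triple. -/
def firstOK (cl : Fin 192 → Bool) (p g : Fin 192) : Bool := sig p == sig g && cl p == cl g

theorem searchA : ∀ p : Fin 32, firstOK clA (up p) 4 = true →
    ∀ q : Fin 32, firstOK clA (up q) 8 = true → pairOK clA (up p) (up q) 4 8 = true →
    ∀ r : Fin 32, firstOK clA (up r) 16 = true → pairOK clA (up p) (up r) 4 16 = true →
      pairOK clA (up q) (up r) 8 16 = true →
      candOK clA (up p) (up q) (up r) → typ (img (up p) (up q) (up r) 14) = 4 := by
  decide +kernel

/-- The square of a candidate is inner. -/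
def sqInner (p q r : Fin 192) : Prop :=
  ∃ d : Fin 32, ∀ k : Fin 3, cj (up d) (genD k) = img p q r (img p q r (genD k).val).val

/-- The twisted cube of a candidate is inner. -/
def cubeInner (p q r : Fin 192) : Prop :=
  ∃ d : Fin 32, ∀ k : Fin 3, cj (up d) (genD k) =
    img p q r (cj 32 (img p q r (cj 32 (img p q r (cj 32 (genD k)).val)).val)).val

instance (p q r : Fin 192) : Decidable (sqInner p q r) := by unfold sqInner; infer_instance
instance (p q r : Fin 192) : Decidable (cubeInner p q r) := by unfold cubeInner; infer_instance

/-- The two models. -/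
def gam (k : Fin 2) (a : Fin 192) : Fin 192 := if k = 0 then al a else alTwo a

theorem searchB : ∀ p : Fin 32, firstOK clB (up p) 4 = true →
    ∀ q : Fin 32, firstOK clB (up q) 8 = true → pairOK clB (up p) (up q) 4 8 = true →
    ∀ r : Fin 32, firstOK clB (up r) 16 = true → pairOK clB (up p) (up r) 4 16 = true →
      pairOK clB (up q) (up r) 8 16 = true →
      candOK clB (up p) (up q) (up r) → sqInner (up p) (up q) (up r) →
      cubeInner (up p) (up q) (up r) →
      ∃ d : Fin 32, ∃ j : Fin 2, ∀ k : Fin 3,
        img (up p) (up q) (up r) (genD k).val = cj (up d) (gam j (genD k)) := by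
  decide +kernel

theorem sq_cands : ∀ c : Fin 32, (∀ k : Fin 3, cj (up c) (genD k) = al (al (genD k))) →
    al (up c) = up c → up c = 0 ∨ up c = 3 := by decide +kernel

/-- The twisted model automorphism. -/
def tw (a : Fin 192) : Fin 192 := al (cj 32 a)

theorem cube_cands : ∀ c : Fin 32, (∀ k : Fin 3, cj (up c) (genD k) = tw (tw (tw (genD k)))) →
    tw (up c) = up c → up c = 0 := by decide +kernel

end H78.MTwelve
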