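import Cfsg.Agent.H78.MTwelve.CertLive

set_option autoImplicit false

namespace H78.MTwelve

theorem cert_part0 : (List.range' 0 604).all (cert.checkFact parOf) = true := by decide +kernel

theorem cert_part1 : (List.range' 604 604).all (cert.checkFact parOf) = true := by decide +kernel

theorem cert_part2 : (List.range' 1208 604).all (cert.checkFact parOf) = true := by decide +kernel

theorem cert_part3 : (List.range' 1812 604).all (cert.checkFact parOf) = true := by decide +kernel

theorem cert_part4 : (List.range' 2416 604).all (cert.checkFact parOf) = true := by decide +kernel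

theorem cert_part5 : (List.range' 3020 604).all (cert.checkFact parOf) = true := by decide +kernel

theorem cert_part6 : (List.range' 3624 604).all (cert.checkFact parOf) = true := by decide +kernel

theorem cert_part7 : (List.range' 4228 604).all (cert.checkFact parOf) = true := by decide +kernel

theorem cert_part8 : (List.range' 4832 604).all (cert.checkFact parOf) = true := by decide +kernel

theorem cert_part9 : (List.range' 5436 604).all (cert.checkFact parOf) = true := by decide +kernel

theorem cert_part10 : (List.range' 6040 604).all (cert.checkFact parOf) = true := by decide +kernel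

theorem cert_part11 : (List.range' 6644 594).all (cert.checkFact parOf) = true := by decide +kernel

theorem cert_facts : (List.range cert.num).all (cert.checkFact parOf) = true := by
  rw [List.all_eq_true]
  intro k hk
  have hk' : k < 7238 := List.mem_range.mp hk
  rcases Nat.lt_or_ge k 604 with h | h0
  · exact List.all_eq_true.mp cert_part0 k (List.mem_range'_1.mpr ⟨by omega, by omega⟩)
  rcases Nat.lt_or_ge k 1208 with h | h1
  · exact List.all_eq_true.mp cert_part1 k (List.mem_range'_1.mpr ⟨by omega, by omega⟩)
  rcases Nat.lt_or_ge k 1812 with h | h2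
  · exact List.all_eq_true.mp cert_part2 k (List.mem_range'_1.mpr ⟨by omega, by omega⟩)
  rcases Nat.lt_or_ge k 2416 with h | h3
  · exact List.all_eq_true.mp cert_part3 k (List.mem_range'_1.mpr ⟨by omega, by omega⟩)
  rcases Nat.lt_or_ge k 3020 with h | h4
  · exact List.all_eq_true.mp cert_part4 k (List.mem_range'_1.mpr ⟨by omega, by omega⟩)
  rcases Nat.lt_or_ge k 3624 with h | h5
  · exact List.all_eq_true.mp cert_part5 k (List.mem_range'_1.mpr ⟨by omega, by omega⟩)
  rcases Nat.lt_or_ge k 4228 with h | h6
  · exact List.all_eq_true.mp cert_part6 k (List.mem_range'_1.mpr ⟨by omega, by omega⟩)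
  rcases Nat.lt_or_ge k 4832 with h | h7
  · exact List.all_eq_true.mp cert_part7 k (List.mem_range'_1.mpr ⟨by omega, by omega⟩)
  rcases Nat.lt_or_ge k 5436 with h | h8
  · exact List.all_eq_true.mp cert_part8 k (List.mem_range'_1.mpr ⟨by omega, by omega⟩)
  rcases Nat.lt_or_ge k 6040 with h | h9
  · exact List.all_eq_true.mp cert_part9 k (List.mem_range'_1.mpr ⟨by omega, by omega⟩)
  rcases Nat.lt_or_ge k 6644 with h | h10
  · exact List.all_eq_true.mp cert_part10 k (List.mem_range'_1.mpr ⟨by omega, by omega⟩)
  rcases Nat.lt_or_ge k 7238 with h | h11
  · exact List.all_eq_true.mp cert_part11 k (List.mem_range'_1.mpr ⟨by omega, by omega⟩)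
  omega

theorem cert_live : cert.live.length = 495 := by decide +kernel

end H78.MTwelve
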