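import Cfsg.Agent.H78.MTwelve.CertData

/-! A fast form of the closure check of the certificate. -/

set_option autoImplicit false
set_option maxRecDepth 10000

namespace H78.MTwelve

def liveTree : Tr :=
 (.node (.node (.node (.node (.node (.node (.node (.node (.node (.leaf 0)
 (.leaf 1))
 (.node (.leaf 2)
 (.leaf 3)))
 (.node (.node (.leaf 4)
 (.leaf 5))
 (.node (.leaf 6)
 (.leaf 7))))
 (.node (.node (.node (.leaf 9)
 (.leaf 10))
 (.node (.leaf 11)
 (.leaf 12)))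
 (.node (.node (.leaf 13)
 (.leaf 14))
 (.node (.leaf 15)
 (.leaf 16)))))
 (.node (.node (.node (.node (.leaf 17)
 (.leaf 18))
 (.node (.leaf 19)
 (.leaf 20)))
 (.node (.node (.leaf 23)
 (.leaf 24))
 (.node (.leaf 25)
 (.leaf 26))))
 (.node (.node (.node (.leaf 27)
 (.leaf 28))
 (.node (.leaf 29)
 (.leaf 30)))
 (.node (.node (.leaf 31)
 (.leaf 32))
 (.node (.leaf 33)
 (.leaf 34))))))
 (.node (.node (.node (.node (.node (.leaf 35)
 (.leaf 36))
 (.node (.leaf 37)
 (.leaf 38)))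
 (.node (.node (.leaf 39)
 (.leaf 42))
 (.node (.leaf 43)
 (.leaf 44))))
 (.node (.node (.node (.leaf 45)
 (.leaf 46))
 (.node (.leaf 49)
 (.leaf 50)))
 (.node (.node (.leaf 51)
 (.leaf 52))
 (.node (.leaf 53)
 (.leaf 54)))))
 (.node (.node (.node (.node (.leaf 55)
 (.leaf 56))
 (.node (.leaf 58)
 (.leaf 60)))
 (.node (.node (.leaf 62)
 (.leaf 63))
 (.node (.leaf 66)
 (.leaf 67))))
 (.node (.node (.node (.leaf 69)
 (.leaf 72))
 (.node (.leaf 73)
 (.leaf 74)))
 (.node (.node (.leaf 75)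
 (.leaf 76))
 (.node (.leaf 78)
 (.leaf 80)))))))
 (.node (.node (.node (.node (.node (.node (.leaf 81)
 (.leaf 82))
 (.node (.leaf 83)
 (.leaf 84)))
 (.node (.node (.leaf 85)
 (.leaf 86))
 (.node (.leaf 87)
 (.leaf 88))))
 (.node (.node (.node (.leaf 89)
 (.leaf 90))
 (.node (.leaf 91)
 (.leaf 92)))
 (.node (.node (.leaf 93)
 (.leaf 94))
 (.node (.leaf 95)
 (.leaf 96)))))
 (.node (.node (.node (.node (.leaf 97)
 (.leaf 98))
 (.node (.leaf 99)
 (.leaf 100)))
 (.node (.node (.leaf 101)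
 (.leaf 103))
 (.node (.leaf 104)
 (.leaf 105))))
 (.node (.node (.node (.leaf 106)
 (.leaf 107))
 (.node (.leaf 108)
 (.leaf 112)))
 (.node (.node (.leaf 113)
 (.leaf 114))
 (.node (.leaf 115)
 (.leaf 117))))))
 (.node (.node (.node (.node (.node (.leaf 118)
 (.leaf 119))
 (.node (.leaf 121)
 (.leaf 137)))
 (.node (.node (.leaf 140)
 (.leaf 141))
 (.node (.leaf 142)
 (.leaf 143))))
 (.node (.node (.node (.leaf 145)
 (.leaf 146))
 (.node (.leaf 147)
 (.leaf 148)))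
 (.node (.node (.leaf 149)
 (.leaf 150))
 (.node (.leaf 151)
 (.leaf 152)))))
 (.node (.node (.node (.node (.leaf 153)
 (.leaf 155))
 (.node (.leaf 156)
 (.leaf 159)))
 (.node (.node (.leaf 162)
 (.leaf 163))
 (.node (.leaf 165)
 (.leaf 166))))
 (.node (.node (.node (.leaf 167)
 (.leaf 168))
 (.node (.leaf 169)
 (.leaf 170)))
 (.node (.node (.leaf 173)
 (.leaf 174))
 (.node (.leaf 175)
 (.leaf 176))))))))
 (.node (.node (.node (.node (.node (.node (.node (.leaf 179)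
 (.leaf 180))
 (.node (.leaf 182)
 (.leaf 184)))
 (.node (.node (.leaf 185)
 (.leaf 187))
 (.node (.leaf 188)
 (.leaf 190))))
 (.node (.node (.node (.leaf 191)
 (.leaf 192))
 (.node (.leaf 193)
 (.leaf 194)))
 (.node (.node (.leaf 195)
 (.leaf 196))
 (.node (.leaf 197)
 (.leaf 199)))))
 (.node (.node (.node (.node (.leaf 200)
 (.leaf 203))
 (.node (.leaf 204)
 (.leaf 205)))
 (.node (.node (.leaf 206)
 (.leaf 207))
 (.node (.leaf 208)
 (.leaf 209))))
 (.node (.node (.node (.leaf 210)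
 (.leaf 211))
 (.node (.leaf 212)
 (.leaf 213)))
 (.node (.node (.leaf 216)
 (.leaf 217))
 (.node (.leaf 218)
 (.leaf 219))))))
 (.node (.node (.node (.node (.node (.leaf 220)
 (.leaf 221))
 (.node (.leaf 224)
 (.leaf 225)))
 (.node (.node (.leaf 226)
 (.leaf 227))
 (.node (.leaf 228)
 (.leaf 229))))
 (.node (.node (.node (.leaf 230)
 (.leaf 231))
 (.node (.leaf 234)
 (.leaf 235)))
 (.node (.node (.leaf 236)
 (.leaf 237))
 (.node (.leaf 238)
 (.leaf 239)))))
 (.node (.node (.node (.node (.leaf 240)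
 (.leaf 243))
 (.node (.leaf 244)
 (.leaf 246)))
 (.node (.node (.leaf 247)
 (.leaf 250))
 (.node (.leaf 253)
 (.leaf 254))))
 (.node (.node (.node (.leaf 255)
 (.leaf 256))
 (.node (.leaf 257)
 (.leaf 258)))
 (.node (.node (.leaf 259)
 (.leaf 260))
 (.node (.leaf 261)
 (.leaf 262)))))))
 (.node (.node (.node (.node (.node (.node (.leaf 263)
 (.leaf 264))
 (.node (.leaf 265)
 (.leaf 266)))
 (.node (.node (.leaf 267)
 (.leaf 270))
 (.node (.leaf 271)
 (.leaf 273))))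
 (.node (.node (.node (.leaf 274)
 (.leaf 275))
 (.node (.leaf 276)
 (.leaf 277)))
 (.node (.node (.leaf 278)
 (.leaf 279))
 (.node (.leaf 280)
 (.leaf 281)))))
 (.node (.node (.node (.node (.leaf 282)
 (.leaf 283))
 (.node (.leaf 284)
 (.leaf 285)))
 (.node (.node (.leaf 286)
 (.leaf 287))
 (.node (.leaf 288)
 (.leaf 289))))
 (.node (.node (.node (.leaf 290)
 (.leaf 291))
 (.node (.leaf 292)
 (.leaf 293)))
 (.node (.node (.leaf 294)
 (.leaf 295))
 (.node (.leaf 297)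
 (.leaf 298))))))
 (.node (.node (.node (.node (.node (.leaf 299)
 (.leaf 300))
 (.node (.leaf 301)
 (.leaf 302)))
 (.node (.node (.leaf 303)
 (.leaf 306))
 (.node (.leaf 309)
 (.leaf 310))))
 (.node (.node (.node (.leaf 311)
 (.leaf 312))
 (.node (.leaf 314)
 (.leaf 315)))
 (.node (.node (.leaf 316)
 (.leaf 317))
 (.node (.leaf 318)
 (.leaf 319)))))
 (.node (.node (.node (.node (.leaf 320)
 (.leaf 321))
 (.node (.leaf 322)
 (.leaf 323)))
 (.node (.node (.leaf 324)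
 (.leaf 325))
 (.node (.leaf 326)
 (.leaf 327))))
 (.node (.node (.node (.leaf 328)
 (.leaf 329))
 (.node (.leaf 330)
 (.leaf 336)))
 (.node (.node (.leaf 339)
 (.leaf 341))
 (.node (.leaf 343)
 (.leaf 344)))))))))
 (.node (.node (.node (.node (.node (.node (.node (.node (.leaf 346)
 (.leaf 348))
 (.node (.leaf 353)
 (.leaf 355)))
 (.node (.node (.leaf 356)
 (.leaf 358))
 (.node (.leaf 367)
 (.leaf 368))))
 (.node (.node (.node (.leaf 369)
 (.leaf 370))
 (.node (.leaf 372)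
 (.leaf 373)))
 (.node (.node (.leaf 375)
 (.leaf 380))
 (.node (.leaf 385)
 (.leaf 387)))))
 (.node (.node (.node (.node (.leaf 388)
 (.leaf 390))
 (.node (.leaf 393)
 (.leaf 413)))
 (.node (.node (.leaf 414)
 (.leaf 415))
 (.node (.leaf 416)
 (.leaf 417))))
 (.node (.node (.node (.leaf 418)
 (.leaf 419))
 (.node (.leaf 420)
 (.leaf 421)))
 (.node (.node (.leaf 422)
 (.leaf 423))
 (.node (.leaf 424)
 (.leaf 426))))))
 (.node (.node (.node (.node (.node (.leaf 427)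
 (.leaf 429))
 (.node (.leaf 430)
 (.leaf 431)))
 (.node (.node (.leaf 432)
 (.leaf 433))
 (.node (.leaf 434)
 (.leaf 435))))
 (.node (.node (.node (.leaf 436)
 (.leaf 437))
 (.node (.leaf 438)
 (.leaf 439)))
 (.node (.node (.leaf 440)
 (.leaf 441))
 (.node (.leaf 442)
 (.leaf 443)))))
 (.node (.node (.node (.node (.leaf 444)
 (.leaf 445))
 (.node (.leaf 446)
 (.leaf 447)))
 (.node (.node (.leaf 449)
 (.leaf 450))
 (.node (.leaf 452)
 (.leaf 453))))
 (.node (.node (.node (.leaf 460)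
 (.leaf 462))
 (.node (.leaf 464)
 (.leaf 467)))
 (.node (.node (.leaf 468)
 (.leaf 469))
 (.node (.leaf 470)
 (.leaf 471)))))))
 (.node (.node (.node (.node (.node (.node (.leaf 472)
 (.leaf 473))
 (.node (.leaf 474)
 (.leaf 476)))
 (.node (.node (.leaf 477)
 (.leaf 478))
 (.node (.leaf 479)
 (.leaf 480))))
 (.node (.node (.node (.leaf 481)
 (.leaf 483))
 (.node (.leaf 484)
 (.leaf 489)))
 (.node (.node (.leaf 490)
 (.leaf 492))
 (.node (.leaf 495)
 (.leaf 496)))))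
 (.node (.node (.node (.node (.leaf 497)
 (.leaf 499))
 (.node (.leaf 500)
 (.leaf 502)))
 (.node (.node (.leaf 504)
 (.leaf 506))
 (.node (.leaf 507)
 (.leaf 517))))
 (.node (.node (.node (.leaf 522)
 (.leaf 523))
 (.node (.leaf 527)
 (.leaf 528)))
 (.node (.node (.leaf 530)
 (.leaf 531))
 (.node (.leaf 532)
 (.leaf 533))))))
 (.node (.node (.node (.node (.node (.leaf 534)
 (.leaf 538))
 (.node (.leaf 539)
 (.leaf 541)))
 (.node (.node (.leaf 545)
 (.leaf 548))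
 (.node (.leaf 549)
 (.leaf 550))))
 (.node (.node (.node (.leaf 551)
 (.leaf 552))
 (.node (.leaf 558)
 (.leaf 559)))
 (.node (.node (.leaf 560)
 (.leaf 561))
 (.node (.leaf 562)
 (.leaf 563)))))
 (.node (.node (.node (.node (.leaf 564)
 (.leaf 565))
 (.node (.leaf 566)
 (.leaf 567)))
 (.node (.node (.leaf 569)
 (.leaf 573))
 (.node (.leaf 574)
 (.leaf 575))))
 (.node (.node (.node (.leaf 578)
 (.leaf 586))
 (.node (.leaf 587)
 (.leaf 590)))
 (.node (.node (.leaf 591)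
 (.leaf 595))
 (.node (.leaf 596)
 (.leaf 597))))))))
 (.node (.node (.node (.node (.node (.node (.node (.leaf 598)
 (.leaf 599))
 (.node (.leaf 603)
 (.leaf 614)))
 (.node (.node (.leaf 618)
 (.leaf 619))
 (.node (.leaf 620)
 (.leaf 621))))
 (.node (.node (.node (.leaf 624)
 (.leaf 625))
 (.node (.leaf 626)
 (.leaf 627)))
 (.node (.node (.leaf 629)
 (.leaf 630))
 (.node (.leaf 631)
 (.leaf 632)))))
 (.node (.node (.node (.node (.leaf 633)
 (.leaf 634))
 (.node (.leaf 635)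
 (.leaf 636)))
 (.node (.node (.leaf 637)
 (.leaf 638))
 (.node (.leaf 642)
 (.leaf 643))))
 (.node (.node (.node (.leaf 644)
 (.leaf 645))
 (.node (.leaf 646)
 (.leaf 647)))
 (.node (.node (.leaf 648)
 (.leaf 649))
 (.node (.leaf 650)
 (.leaf 651))))))
 (.node (.node (.node (.node (.node (.leaf 652)
 (.leaf 657))
 (.node (.leaf 662)
 (.leaf 663)))
 (.node (.node (.leaf 665)
 (.leaf 672))
 (.node (.leaf 673)
 (.leaf 674))))
 (.node (.node (.node (.leaf 680)
 (.leaf 681))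
 (.node (.leaf 704)
 (.leaf 705)))
 (.node (.node (.leaf 706)
 (.leaf 709))
 (.node (.leaf 710)
 (.leaf 711)))))
 (.node (.node (.node (.node (.leaf 712)
 (.leaf 713))
 (.node (.leaf 714)
 (.leaf 717)))
 (.node (.node (.leaf 722)
 (.leaf 723))
 (.node (.leaf 731)
 (.leaf 734))))
 (.node (.node (.node (.leaf 737)
 (.leaf 738))
 (.node (.leaf 751)
 (.leaf 752)))
 (.node (.node (.leaf 753)
 (.leaf 754))
 (.node (.leaf 757)
 (.leaf 758)))))))
 (.node (.node (.node (.node (.node (.node (.leaf 760)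
 (.leaf 761))
 (.node (.leaf 762)
 (.leaf 764)))
 (.node (.node (.leaf 765)
 (.leaf 768))
 (.node (.leaf 769)
 (.leaf 777))))
 (.node (.node (.node (.leaf 783)
 (.leaf 784))
 (.node (.leaf 795)
 (.leaf 796)))
 (.node (.node (.leaf 799)
 (.leaf 800))
 (.node (.leaf 814)
 (.leaf 818)))))
 (.node (.node (.node (.node (.leaf 819)
 (.leaf 820))
 (.node (.leaf 821)
 (.leaf 825)))
 (.node (.node (.leaf 827)
 (.leaf 830))
 (.node (.leaf 832)
 (.leaf 833))))
 (.node (.node (.node (.leaf 842)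
 (.leaf 844))
 (.node (.leaf 847)
 (.leaf 864)))
 (.node (.node (.leaf 893)
 (.leaf 894))
 (.node (.leaf 899)
 (.leaf 900))))))
 (.node (.node (.node (.node (.node (.leaf 906)
 (.leaf 907))
 (.node (.leaf 948)
 (.leaf 957)))
 (.node (.node (.leaf 958)
 (.leaf 964))
 (.node (.leaf 965)
 (.leaf 980))))
 (.node (.node (.node (.leaf 981)
 (.leaf 985))
 (.node (.leaf 986)
 (.leaf 1038)))
 (.node (.node (.leaf 1039)
 (.leaf 1084))
 (.node (.leaf 1091)
 (.leaf 0)))))
 (.leaf 0))))))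

def posTree : Tr :=
 (.node (.node (.node (.node (.node (.node (.node (.node (.node (.node (.node (.leaf 0)
 (.leaf 1))
 (.node (.leaf 2)
 (.leaf 3)))
 (.node (.node (.leaf 4)
 (.leaf 5))
 (.node (.leaf 6)
 (.leaf 7))))
 (.node (.node (.node (.leaf 0)
 (.leaf 8))
 (.node (.leaf 9)
 (.leaf 10)))
 (.node (.node (.leaf 11)
 (.leaf 12))
 (.node (.leaf 13)
 (.leaf 14)))))
 (.node (.node (.node (.node (.leaf 15)
 (.leaf 16))
 (.node (.leaf 17)
 (.leaf 18)))
 (.node (.node (.leaf 19)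
 (.leaf 0))
 (.node (.leaf 0)
 (.leaf 20))))
 (.node (.node (.node (.leaf 21)
 (.leaf 22))
 (.node (.leaf 23)
 (.leaf 24)))
 (.node (.node (.leaf 25)
 (.leaf 26))
 (.node (.leaf 27)
 (.leaf 28))))))
 (.node (.node (.node (.node (.node (.leaf 29)
 (.leaf 30))
 (.node (.leaf 31)
 (.leaf 32)))
 (.node (.node (.leaf 33)
 (.leaf 34))
 (.node (.leaf 35)
 (.leaf 36))))
 (.node (.node (.leaf 0)
 (.node (.leaf 37)
 (.leaf 38)))
 (.node (.node (.leaf 39)
 (.leaf 40))
 (.node (.leaf 41)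
 (.leaf 0)))))
 (.node (.node (.node (.node (.leaf 0)
 (.leaf 42))
 (.node (.leaf 43)
 (.leaf 44)))
 (.node (.node (.leaf 45)
 (.leaf 46))
 (.node (.leaf 47)
 (.leaf 48))))
 (.node (.node (.node (.leaf 49)
 (.leaf 0))
 (.node (.leaf 50)
 (.leaf 0)))
 (.node (.node (.leaf 51)
 (.leaf 0))
 (.node (.leaf 52)
 (.leaf 53)))))))
 (.node (.node (.node (.node (.node (.leaf 0)
 (.node (.leaf 54)
 (.leaf 55)))
 (.node (.node (.leaf 0)
 (.leaf 56))
 (.leaf 0)))
 (.node (.node (.node (.leaf 57)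
 (.leaf 58))
 (.node (.leaf 59)
 (.leaf 60)))
 (.node (.node (.leaf 61)
 (.leaf 0))
 (.node (.leaf 62)
 (.leaf 0)))))
 (.node (.node (.node (.node (.leaf 63)
 (.leaf 64))
 (.node (.leaf 65)
 (.leaf 66)))
 (.node (.node (.leaf 67)
 (.leaf 68))
 (.node (.leaf 69)
 (.leaf 70))))
 (.node (.node (.node (.leaf 71)
 (.leaf 72))
 (.node (.leaf 73)
 (.leaf 74)))
 (.node (.node (.leaf 75)
 (.leaf 76))
 (.node (.leaf 77)
 (.leaf 78))))))
 (.node (.node (.node (.node (.node (.leaf 79)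
 (.leaf 80))
 (.node (.leaf 81)
 (.leaf 82)))
 (.node (.node (.leaf 83)
 (.leaf 84))
 (.node (.leaf 0)
 (.leaf 85))))
 (.node (.node (.node (.leaf 86)
 (.leaf 87))
 (.node (.leaf 88)
 (.leaf 89)))
 (.node (.node (.leaf 90)
 (.leaf 0))
 (.leaf 0))))
 (.node (.node (.node (.node (.leaf 91)
 (.leaf 92))
 (.node (.leaf 93)
 (.leaf 94)))
 (.node (.node (.leaf 0)
 (.leaf 95))
 (.node (.leaf 96)
 (.leaf 97))))
 (.node (.node (.node (.leaf 0)
 (.leaf 98))
 (.leaf 0))
 (.leaf 0))))))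
 (.node (.node (.node (.node (.leaf 0)
 (.node (.node (.node (.leaf 0)
 (.leaf 99))
 (.leaf 0))
 (.node (.node (.leaf 100)
 (.leaf 101))
 (.node (.leaf 102)
 (.leaf 103)))))
 (.node (.node (.node (.node (.leaf 0)
 (.leaf 104))
 (.node (.leaf 105)
 (.leaf 106)))
 (.node (.node (.leaf 107)
 (.leaf 108))
 (.node (.leaf 109)
 (.leaf 110))))
 (.node (.node (.node (.leaf 111)
 (.leaf 112))
 (.node (.leaf 0)
 (.leaf 113)))
 (.node (.node (.leaf 114)
 (.leaf 0))
 (.node (.leaf 0)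
 (.leaf 115))))))
 (.node (.node (.node (.node (.leaf 0)
 (.node (.leaf 116)
 (.leaf 117)))
 (.node (.node (.leaf 0)
 (.leaf 118))
 (.node (.leaf 119)
 (.leaf 120))))
 (.node (.node (.node (.leaf 121)
 (.leaf 122))
 (.node (.leaf 123)
 (.leaf 0)))
 (.node (.node (.leaf 0)
 (.leaf 124))
 (.node (.leaf 125)
 (.leaf 126)))))
 (.node (.node (.node (.node (.leaf 127)
 (.leaf 0))
 (.node (.leaf 0)
 (.leaf 128)))
 (.node (.node (.leaf 129)
 (.leaf 0))
 (.node (.leaf 130)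
 (.leaf 0))))
 (.node (.node (.node (.leaf 131)
 (.leaf 132))
 (.node (.leaf 0)
 (.leaf 133)))
 (.node (.node (.leaf 134)
 (.leaf 0))
 (.node (.leaf 135)
 (.leaf 136)))))))
 (.node (.node (.node (.node (.node (.node (.leaf 137)
 (.leaf 138))
 (.node (.leaf 139)
 (.leaf 140)))
 (.node (.node (.leaf 141)
 (.leaf 142))
 (.node (.leaf 0)
 (.leaf 143))))
 (.node (.node (.node (.leaf 144)
 (.leaf 0))
 (.node (.leaf 0)
 (.leaf 145)))
 (.node (.node (.leaf 146)
 (.leaf 147))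
 (.node (.leaf 148)
 (.leaf 149)))))
 (.node (.node (.node (.node (.leaf 150)
 (.leaf 151))
 (.node (.leaf 152)
 (.leaf 153)))
 (.node (.node (.leaf 154)
 (.leaf 155))
 (.leaf 0)))
 (.node (.node (.node (.leaf 156)
 (.leaf 157))
 (.node (.leaf 158)
 (.leaf 159)))
 (.node (.node (.leaf 160)
 (.leaf 161))
 (.leaf 0)))))
 (.node (.node (.node (.node (.node (.leaf 162)
 (.leaf 163))
 (.node (.leaf 164)
 (.leaf 165)))
 (.node (.node (.leaf 166)
 (.leaf 167))
 (.node (.leaf 168)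
 (.leaf 169))))
 (.node (.node (.leaf 0)
 (.node (.leaf 170)
 (.leaf 171)))
 (.node (.node (.leaf 172)
 (.leaf 173))
 (.node (.leaf 174)
 (.leaf 175)))))
 (.node (.node (.node (.node (.leaf 176)
 (.leaf 0))
 (.node (.leaf 0)
 (.leaf 177)))
 (.node (.node (.leaf 178)
 (.leaf 0))
 (.node (.leaf 179)
 (.leaf 180))))
 (.node (.node (.leaf 0)
 (.node (.leaf 181)
 (.leaf 0)))
 (.node (.node (.leaf 0)
 (.leaf 182))
 (.node (.leaf 183)
 (.leaf 184)))))))))
 (.node (.node (.node (.node (.node (.node (.node (.node (.leaf 185)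
 (.leaf 186))
 (.node (.leaf 187)
 (.leaf 188)))
 (.node (.node (.leaf 189)
 (.leaf 190))
 (.node (.leaf 191)
 (.leaf 192))))
 (.node (.node (.node (.leaf 193)
 (.leaf 194))
 (.node (.leaf 195)
 (.leaf 196)))
 (.node (.leaf 0)
 (.node (.leaf 197)
 (.leaf 198)))))
 (.node (.node (.node (.node (.leaf 0)
 (.leaf 199))
 (.node (.leaf 200)
 (.leaf 201)))
 (.node (.node (.leaf 202)
 (.leaf 203))
 (.node (.leaf 204)
 (.leaf 205))))
 (.node (.node (.node (.leaf 206)
 (.leaf 207))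
 (.node (.leaf 208)
 (.leaf 209)))
 (.node (.node (.leaf 210)
 (.leaf 211))
 (.node (.leaf 212)
 (.leaf 213))))))
 (.node (.node (.node (.node (.node (.leaf 214)
 (.leaf 215))
 (.node (.leaf 216)
 (.leaf 217)))
 (.node (.node (.leaf 218)
 (.leaf 219))
 (.node (.leaf 220)
 (.leaf 221))))
 (.node (.node (.node (.leaf 0)
 (.leaf 222))
 (.node (.leaf 223)
 (.leaf 224)))
 (.node (.node (.leaf 225)
 (.leaf 226))
 (.node (.leaf 227)
 (.leaf 228)))))
 (.node (.node (.node (.leaf 0)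
 (.node (.leaf 229)
 (.leaf 0)))
 (.node (.node (.leaf 0)
 (.leaf 230))
 (.node (.leaf 231)
 (.leaf 232))))
 (.node (.node (.node (.leaf 233)
 (.leaf 0))
 (.node (.leaf 234)
 (.leaf 235)))
 (.node (.node (.leaf 236)
 (.leaf 237))
 (.node (.leaf 238)
 (.leaf 239)))))))
 (.node (.node (.node (.node (.node (.node (.leaf 240)
 (.leaf 241))
 (.node (.leaf 242)
 (.leaf 243)))
 (.node (.node (.leaf 244)
 (.leaf 245))
 (.node (.leaf 246)
 (.leaf 247))))
 (.node (.node (.node (.leaf 248)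
 (.leaf 249))
 (.node (.leaf 250)
 (.leaf 0)))
 (.leaf 0)))
 (.node (.node (.node (.node (.leaf 251)
 (.leaf 0))
 (.node (.leaf 0)
 (.leaf 252)))
 (.node (.node (.leaf 0)
 (.leaf 253))
 (.node (.leaf 0)
 (.leaf 254))))
 (.node (.node (.node (.leaf 255)
 (.leaf 0))
 (.node (.leaf 256)
 (.leaf 0)))
 (.node (.node (.leaf 257)
 (.leaf 0))
 (.leaf 0)))))
 (.node (.node (.node (.node (.node (.leaf 0)
 (.leaf 258))
 (.node (.leaf 0)
 (.leaf 259)))
 (.node (.node (.leaf 260)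
 (.leaf 0))
 (.node (.leaf 261)
 (.leaf 0))))
 (.node (.leaf 0)
 (.node (.leaf 0)
 (.node (.leaf 0)
 (.leaf 262)))))
 (.node (.node (.node (.node (.leaf 263)
 (.leaf 264))
 (.node (.leaf 265)
 (.leaf 0)))
 (.node (.node (.leaf 266)
 (.leaf 267))
 (.node (.leaf 0)
 (.leaf 268))))
 (.node (.leaf 0)
 (.node (.node (.leaf 269)
 (.leaf 0))
 (.leaf 0)))))))
 (.node (.node (.node (.node (.node (.node (.node (.leaf 0)
 (.leaf 270))
 (.node (.leaf 0)
 (.leaf 271)))
 (.node (.node (.leaf 272)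
 (.leaf 0))
 (.node (.leaf 273)
 (.leaf 0))))
 (.node (.node (.node (.leaf 0)
 (.leaf 274))
 (.leaf 0))
 (.leaf 0)))
 (.node (.leaf 0)
 (.node (.leaf 0)
 (.node (.node (.leaf 0)
 (.leaf 275))
 (.node (.leaf 276)
 (.leaf 277))))))
 (.node (.node (.node (.node (.node (.leaf 278)
 (.leaf 279))
 (.node (.leaf 280)
 (.leaf 281)))
 (.node (.node (.leaf 282)
 (.leaf 283))
 (.node (.leaf 284)
 (.leaf 285))))
 (.node (.node (.node (.leaf 286)
 (.leaf 0))
 (.node (.leaf 287)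
 (.leaf 288)))
 (.node (.node (.leaf 0)
 (.leaf 289))
 (.node (.leaf 290)
 (.leaf 291)))))
 (.node (.node (.node (.node (.leaf 292)
 (.leaf 293))
 (.node (.leaf 294)
 (.leaf 295)))
 (.node (.node (.leaf 296)
 (.leaf 297))
 (.node (.leaf 298)
 (.leaf 299))))
 (.node (.node (.node (.leaf 300)
 (.leaf 301))
 (.node (.leaf 302)
 (.leaf 303)))
 (.node (.node (.leaf 304)
 (.leaf 305))
 (.node (.leaf 306)
 (.leaf 307)))))))
 (.node (.node (.node (.node (.node (.node (.leaf 0)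
 (.leaf 308))
 (.node (.leaf 309)
 (.leaf 0)))
 (.node (.node (.leaf 310)
 (.leaf 311))
 (.leaf 0)))
 (.node (.leaf 0)
 (.node (.node (.leaf 312)
 (.leaf 0))
 (.node (.leaf 313)
 (.leaf 0)))))
 (.node (.node (.node (.node (.leaf 314)
 (.leaf 0))
 (.node (.leaf 0)
 (.leaf 315)))
 (.node (.node (.leaf 316)
 (.leaf 317))
 (.node (.leaf 318)
 (.leaf 319))))
 (.node (.node (.node (.leaf 320)
 (.leaf 321))
 (.node (.leaf 322)
 (.leaf 0)))
 (.node (.node (.leaf 323)
 (.leaf 324))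
 (.node (.leaf 325)
 (.leaf 326))))))
 (.node (.node (.node (.node (.node (.leaf 327)
 (.leaf 328))
 (.node (.leaf 0)
 (.leaf 329)))
 (.node (.node (.leaf 330)
 (.leaf 0))
 (.leaf 0)))
 (.node (.node (.node (.leaf 0)
 (.leaf 331))
 (.node (.leaf 332)
 (.leaf 0)))
 (.node (.node (.leaf 333)
 (.leaf 0))
 (.node (.leaf 0)
 (.leaf 334)))))
 (.node (.node (.node (.node (.leaf 335)
 (.leaf 336))
 (.node (.leaf 0)
 (.leaf 337)))
 (.node (.node (.leaf 338)
 (.leaf 0))
 (.node (.leaf 339)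
 (.leaf 0))))
 (.node (.node (.node (.leaf 340)
 (.leaf 0))
 (.node (.leaf 341)
 (.leaf 342)))
 (.leaf 0))))))))
 (.node (.node (.node (.node (.node (.node (.node (.leaf 0)
 (.node (.node (.leaf 0)
 (.leaf 343))
 (.leaf 0)))
 (.node (.node (.leaf 0)
 (.node (.leaf 344)
 (.leaf 345)))
 (.node (.leaf 0)
 (.node (.leaf 0)
 (.leaf 346)))))
 (.node (.node (.node (.node (.leaf 347)
 (.leaf 0))
 (.node (.leaf 348)
 (.leaf 349)))
 (.node (.node (.leaf 350)
 (.leaf 351))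
 (.node (.leaf 352)
 (.leaf 0))))
 (.node (.node (.leaf 0)
 (.node (.leaf 353)
 (.leaf 354)))
 (.node (.node (.leaf 0)
 (.leaf 355))
 (.leaf 0)))))
 (.node (.node (.node (.node (.node (.leaf 0)
 (.leaf 356))
 (.leaf 0))
 (.node (.node (.leaf 357)
 (.leaf 358))
 (.node (.leaf 359)
 (.leaf 360))))
 (.node (.node (.node (.leaf 361)
 (.leaf 0))
 (.leaf 0))
 (.node (.leaf 0)
 (.node (.leaf 362)
 (.leaf 363)))))
 (.node (.node (.node (.node (.leaf 364)
 (.leaf 365))
 (.node (.leaf 366)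
 (.leaf 367)))
 (.node (.node (.leaf 368)
 (.leaf 369))
 (.node (.leaf 370)
 (.leaf 371))))
 (.node (.node (.node (.leaf 0)
 (.leaf 372))
 (.leaf 0))
 (.node (.node (.leaf 0)
 (.leaf 373))
 (.node (.leaf 374)
 (.leaf 375)))))))
 (.node (.node (.node (.node (.node (.leaf 0)
 (.node (.leaf 376)
 (.leaf 0)))
 (.leaf 0))
 (.node (.node (.leaf 0)
 (.node (.leaf 377)
 (.leaf 378)))
 (.node (.leaf 0)
 (.node (.leaf 379)
 (.leaf 380)))))
 (.node (.node (.node (.leaf 0)
 (.node (.leaf 0)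
 (.leaf 381)))
 (.node (.node (.leaf 382)
 (.leaf 383))
 (.node (.leaf 384)
 (.leaf 385))))
 (.node (.node (.leaf 0)
 (.node (.leaf 0)
 (.leaf 386)))
 (.leaf 0))))
 (.node (.node (.node (.leaf 0)
 (.node (.leaf 0)
 (.node (.leaf 387)
 (.leaf 0))))
 (.node (.node (.leaf 0)
 (.node (.leaf 388)
 (.leaf 389)))
 (.node (.node (.leaf 390)
 (.leaf 391))
 (.leaf 0))))
 (.node (.node (.node (.node (.leaf 392)
 (.leaf 393))
 (.node (.leaf 394)
 (.leaf 395)))
 (.node (.node (.leaf 0)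
 (.leaf 396))
 (.node (.leaf 397)
 (.leaf 398))))
 (.node (.node (.node (.leaf 399)
 (.leaf 400))
 (.node (.leaf 401)
 (.leaf 402)))
 (.node (.node (.leaf 403)
 (.leaf 404))
 (.node (.leaf 405)
 (.leaf 0))))))))
 (.node (.node (.node (.node (.node (.node (.leaf 0)
 (.node (.leaf 406)
 (.leaf 407)))
 (.node (.node (.leaf 408)
 (.leaf 409))
 (.node (.leaf 410)
 (.leaf 411))))
 (.node (.node (.node (.leaf 412)
 (.leaf 413))
 (.node (.leaf 414)
 (.leaf 415)))
 (.node (.node (.leaf 416)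
 (.leaf 0))
 (.leaf 0))))
 (.node (.node (.node (.node (.leaf 0)
 (.leaf 417))
 (.leaf 0))
 (.node (.leaf 0)
 (.node (.leaf 418)
 (.leaf 419))))
 (.node (.node (.node (.leaf 0)
 (.leaf 420))
 (.leaf 0))
 (.leaf 0))))
 (.node (.node (.node (.node (.node (.leaf 421)
 (.leaf 422))
 (.node (.leaf 423)
 (.leaf 0)))
 (.leaf 0))
 (.node (.node (.node (.leaf 424)
 (.leaf 425))
 (.leaf 0))
 (.leaf 0)))
 (.leaf 0)))
 (.node (.node (.node (.node (.node (.node (.leaf 426)
 (.leaf 427))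
 (.node (.leaf 428)
 (.leaf 0)))
 (.node (.node (.leaf 0)
 (.leaf 429))
 (.node (.leaf 430)
 (.leaf 431))))
 (.node (.node (.node (.leaf 432)
 (.leaf 433))
 (.node (.leaf 434)
 (.leaf 0)))
 (.node (.node (.leaf 0)
 (.leaf 435))
 (.leaf 0))))
 (.node (.node (.node (.leaf 0)
 (.node (.leaf 436)
 (.leaf 437)))
 (.leaf 0))
 (.node (.node (.leaf 0)
 (.node (.leaf 0)
 (.leaf 438)))
 (.node (.leaf 0)
 (.node (.leaf 439)
 (.leaf 0))))))
 (.node (.node (.node (.node (.node (.leaf 0)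
 (.leaf 440))
 (.node (.leaf 441)
 (.leaf 0)))
 (.leaf 0))
 (.node (.leaf 0)
 (.node (.leaf 0)
 (.node (.leaf 0)
 (.leaf 442)))))
 (.node (.node (.node (.node (.leaf 443)
 (.leaf 444))
 (.node (.leaf 445)
 (.leaf 0)))
 (.node (.node (.leaf 0)
 (.leaf 446))
 (.node (.leaf 447)
 (.leaf 0))))
 (.node (.node (.node (.leaf 448)
 (.leaf 449))
 (.node (.leaf 450)
 (.leaf 0)))
 (.node (.node (.leaf 451)
 (.leaf 452))
 (.leaf 0))))))))
 (.node (.node (.node (.node (.node (.node (.node (.node (.leaf 453)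
 (.leaf 454))
 (.leaf 0))
 (.leaf 0))
 (.node (.node (.node (.leaf 0)
 (.leaf 455))
 (.leaf 0))
 (.node (.leaf 0)
 (.node (.leaf 0)
 (.leaf 456)))))
 (.node (.node (.node (.node (.leaf 457)
 (.leaf 0))
 (.leaf 0))
 (.leaf 0))
 (.node (.node (.leaf 0)
 (.node (.leaf 0)
 (.leaf 458)))
 (.node (.node (.leaf 459)
 (.leaf 0))
 (.node (.leaf 0)
 (.leaf 460))))))
 (.node (.node (.node (.node (.node (.leaf 461)
 (.leaf 0))
 (.leaf 0))
 (.leaf 0))
 (.node (.leaf 0)
 (.node (.leaf 0)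
 (.node (.leaf 462)
 (.leaf 0)))))
 (.node (.node (.node (.leaf 0)
 (.node (.leaf 463)
 (.leaf 464)))
 (.node (.node (.leaf 465)
 (.leaf 466))
 (.leaf 0)))
 (.node (.node (.node (.leaf 0)
 (.leaf 467))
 (.node (.leaf 0)
 (.leaf 468)))
 (.node (.leaf 0)
 (.node (.leaf 469)
 (.leaf 0)))))))
 (.node (.node (.node (.node (.node (.node (.leaf 470)
 (.leaf 471))
 (.leaf 0))
 (.leaf 0))
 (.node (.node (.leaf 0)
 (.node (.leaf 472)
 (.leaf 0)))
 (.node (.node (.leaf 473)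
 (.leaf 0))
 (.node (.leaf 0)
 (.leaf 474)))))
 (.leaf 0))
 (.node (.node (.node (.node (.node (.leaf 475)
 (.leaf 0))
 (.leaf 0))
 (.leaf 0))
 (.leaf 0))
 (.node (.leaf 0)
 (.node (.leaf 0)
 (.node (.node (.leaf 0)
 (.leaf 476))
 (.node (.leaf 477)
 (.leaf 0))))))))
 (.node (.node (.node (.node (.node (.node (.leaf 0)
 (.node (.leaf 0)
 (.leaf 478)))
 (.node (.node (.leaf 479)
 (.leaf 0))
 (.leaf 0)))
 (.node (.node (.leaf 0)
 (.node (.leaf 480)
 (.leaf 481)))
 (.leaf 0)))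
 (.leaf 0))
 (.node (.leaf 0)
 (.node (.node (.leaf 0)
 (.node (.node (.leaf 482)
 (.leaf 0))
 (.leaf 0)))
 (.node (.leaf 0)
 (.node (.node (.leaf 0)
 (.leaf 483))
 (.node (.leaf 484)
 (.leaf 0)))))))
 (.node (.node (.node (.node (.leaf 0)
 (.node (.node (.leaf 485)
 (.leaf 486))
 (.leaf 0)))
 (.leaf 0))
 (.node (.node (.leaf 0)
 (.node (.node (.leaf 487)
 (.leaf 488))
 (.leaf 0)))
 (.node (.node (.node (.leaf 0)
 (.leaf 489))
 (.node (.leaf 490)
 (.leaf 0)))
 (.leaf 0))))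
 (.leaf 0))))))
 (.node (.node (.node (.node (.node (.node (.node (.leaf 0)
 (.node (.leaf 0)
 (.node (.leaf 0)
 (.node (.leaf 491)
 (.leaf 492)))))
 (.leaf 0))
 (.node (.leaf 0)
 (.node (.leaf 0)
 (.node (.leaf 0)
 (.node (.node (.leaf 493)
 (.leaf 0))
 (.leaf 0))))))
 (.node (.node (.node (.node (.node (.leaf 0)
 (.node (.leaf 0)
 (.leaf 494)))
 (.leaf 0))
 (.leaf 0))
 (.leaf 0))
 (.leaf 0)))
 (.leaf 0))
 (.leaf 0))
 (.leaf 0)))

/-- The live coset with a given position. -/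
def liveAt (i : Nat) : Nat := liveTree.get 9 i

/-- Whether a coset is live. -/
def isLive (c : Nat) : Bool := posTree.get 11 c < 495 && liveAt (posTree.get 11 c) == c

theorem live_eq : cert.live = (List.range 495).map liveAt := by decide +kernel

theorem mem_live_of_isLive {c : Nat} (h : isLive c = true) : c ∈ cert.live := by
  simp only [isLive, Bool.and_eq_true, decide_eq_true_eq, beq_iff_eq] at h
  rw [live_eq, List.mem_map]
  exact ⟨_, List.mem_range.mpr h.1, h.2⟩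

/-- The closure condition at one position. -/
def closeAt (t : Nat) : Bool :=
  let k := cert.close.get cert.cdepth t
  let n := cert.fact k
  k < cert.num && fI n == liveAt (t / 8) && fG n == t % 8 && isLive (fJ n)

theorem close_positions : (List.range 3960).all closeAt = true := by decide +kernel

theorem gens_eq : cert.gens = List.range 8 := by decide +kernel

theorem cert_close : cert.checkClose = true := by
  rw [Cert.checkClose, Bool.and_eq_true]
  refine ⟨by decide +kernel, List.all_eq_true.mpr fun t ht => ?_⟩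
  have hlen : cert.live.length = 495 := by rw [live_eq, List.length_map, List.length_range]
  rw [List.mem_range, hlen, gens_eq, List.length_range] at ht
  have h := List.all_eq_true.mp close_positions t (List.mem_range.mpr ht)
  simp only [closeAt, Bool.and_eq_true, beq_iff_eq, decide_eq_true_eq] at h
  obtain ⟨⟨⟨h1, h2⟩, h3⟩, h4⟩ := h
  have e1 : cert.live.getD (t / 8) 0 = liveAt (t / 8) := by
    rw [live_eq, List.getD_eq_getElem _ _ (by rw [List.length_map, List.length_range]; omega)]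
    simp
  have e2 : cert.gens.getD (t % 8) 0 = t % 8 := by
    rw [gens_eq, List.getD_eq_getElem _ _ (by rw [List.length_range]; omega), List.getElem_range]
  simp only [show cert.gens.length = 8 by rw [gens_eq, List.length_range], e1, e2, Bool.and_eq_true,
    beq_iff_eq, decide_eq_true_eq, List.contains_iff_mem]
  exact ⟨⟨⟨h1, h2⟩, h3⟩, mem_live_of_isLive h4⟩

end H78.MTwelve
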