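import Cfsg.Agent.H78.MTwelve.AutFacts

/-! Table facts used in the analysis of the centralizer of 14. -/

set_option autoImplicit false
set_option maxRecDepth 20000

namespace H78.MTwelve

/-- Powers in the table. -/
def powm (a : Fin 192) : Nat → Fin 192
  | 0 => 0
  | n + 1 => m (powm a n) a

/-- Whether 1 is a power of `a`. -/
def reachesOne (a : Fin 192) : Bool := (List.range 24).any fun n => powm a n == 1

theorem powm_period : ∀ a : Fin 192, powm a 24 = 0 := by decide +kernel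

theorem q_basic : m 14 1 = 15 ∧ typ (m 14 32) = 3 ∧ m 32 14 = m 14 32 ∧
    m 32 2 ≠ m 2 32 ∧ al 14 = 14 := by decide +kernel

theorem q_sub : ∀ a : Fin 192, m a 14 = m 14 a → m a 2 = m 2 a →
    m a a = 0 ∧ (a = 0 ∨ a = 1 ∨ a = 2 ∨ a = 3 ∨ a = m 14 0 ∨ a = m 14 1 ∨ a = m 14 2 ∨ a = m 14 3) ∧
    (typ a ≠ 0 → a ≠ 1 → a ≠ 2 → a ≠ 3 → a ≠ 14 → typ (m 14 a) = 1 ∨ typ (m 14 a) = 2) := by
  decide +kernel

theorem q_comm : ∀ a : Fin 192, m a 14 = m 14 a → m a 2 = m 2 a →
    ∀ b : Fin 192, m b 14 = m 14 b → m b 2 = m 2 b → m a b = m b a := by decide +kernel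

theorem q_norm : ∀ a : Fin 192, m a 14 = m 14 a →
    (cj a 2 = 2 ∨ cj a 2 = 3) ∧ (cj a 3 = 2 ∨ cj a 3 = 3) ∧
    (m a 2 ≠ m 2 a → m (m a 32) 2 = m 2 (m a 32)) := by decide +kernel

/-- The pairs counted by the order formula at 1. -/
def zPairs : Finset (Fin 192 × Fin 192) :=
  ((Finset.univ.filter fun a : Fin 192 => clB a = true) ×ˢ
    (Finset.univ.filter fun b : Fin 192 => typ b = 3)).filter fun p => reachesOne (m p.1 p.2) = true

theorem card_zPairs : zPairs.card = 240 := by decide +kernel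

/-- Pairs producing conjugates of 1 outside its centralizer. -/
def outPairs : Finset (Fin 192 × Fin 192) :=
  ((Finset.univ.filter fun a : Fin 192 => typ a = 4) ×ˢ
    (Finset.univ.filter fun b : Fin 192 => clB b = true)).filter fun p =>
      m p.1 p.2 ≠ m p.2 p.1 ∧ reachesOne (m p.1 p.2) = true

theorem card_outPairs : outPairs.card = 288 := by decide +kernel

end H78.MTwelve
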