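import Cfsg.Agent.H78.MTwelve.AutFacts

/-! Table facts about the centralizer of 14 and the model automorphisms. -/

set_option autoImplicit false
set_option maxRecDepth 20000

namespace H78.MTwelve

theorem center_x : ∀ a : Fin 192, m a 14 = m 14 a →
    (∀ b : Fin 192, m b 14 = m 14 b → m a b = m b a) → a = 0 ∨ a = 1 ∨ a = 14 ∨ a = 15 := by
  decide +kernel

theorem cx_facts : typ 15 = 3 ∧ cnt 14 = 16 ∧
    (∀ a : Fin 192, m a 14 = m 14 a → typ a ≠ 4) ∧
    (∀ a : Fin 192, m a 14 = m 14 a → typ a = 2 → a = 2 ∨ a = 3) ∧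
    (∀ a : Fin 192, typ a = 2 → a.val < 32) ∧
    (Finset.univ.filter fun a : Fin 192 => m a 14 = m 14 a ∧ m a 3 = m 3 a).card = 8 ∧
    m 14 1 = m 1 14 ∧ m 14 2 = m 2 14 ∧ m 14 3 = m 3 14 := by decide +kernel

theorem gam_img : ∀ j : Fin 2, ∀ i : Fin 32,
    img (gam j 4) (gam j 8) (gam j 16) i.val = gam j (up i) ∧ (gam j (up i)).val < 32 := by
  decide +kernel

end H78.MTwelve
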