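import Cfsg.Agent.H78.MTwelve.Emb
import Cfsg.Agent.H78.MTwelve.LocalFacts

/-! An element exchanging 1 and 2 acts on the centralizer of 2 through the images of three generators. -/

set_option autoImplicit false

namespace H78.MTwelve

theorem up_of_lt {a : Fin 192} (h : a.val < 32) : up ⟨a.val, h⟩ = a := by
  apply Fin.ext
  show a.val % 192 = a.val
  exact Nat.mod_eq_of_lt a.isLt

theorem up_val (i : Fin 32) : (up i).val = i.val := Nat.mod_eq_of_lt (lt_of_lt_of_le i.isLt (by norm_num))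

namespace Emb

variable {G : Type*} [Group G] (E : Emb G)

/-- Conjugation by `g` sends `a` to `b`. -/
def Maps (g : G) (a b : Fin 192) : Prop := g * E.ι a * g⁻¹ = E.ι b

theorem Maps.mul {g : G} {a b a' b' : Fin 192} (h : E.Maps g a b) (h' : E.Maps g a' b') :
    E.Maps g (m a a') (m b b') := by
  unfold Maps at *
  rw [E.hom, E.hom, ← h, ← h']
  group

theorem Maps.unique {g : G} {a b b' : Fin 192} (h : E.Maps g a b) (h' : E.Maps g a b') : b = b' :=
  E.inj (h.symm.trans h')

theorem Maps.zero (g : G) : E.Maps g 0 0 := by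
  unfold Maps
  rw [E.ι_zero, mul_one, mul_inv_cancel]

theorem Maps.trans {g g' : G} {a b c : Fin 192} (h : E.Maps g a b) (h' : E.Maps g' b c) :
    E.Maps (g' * g) a c := by
  unfold Maps at *
  rw [← h', ← h]
  group

theorem maps_ι (l a : Fin 192) : E.Maps (E.ι l) a (cj l a) := (E.ι_cj l a).symm

/-- The action on the centralizer of 2 is determined by the generators. -/
theorem maps_img {g : G} {p q r : Fin 192} (hp : E.Maps g 4 p) (hq : E.Maps g 8 q)
    (hr : E.Maps g 16 r) (i : Fin 32) : E.Maps g (up i) (img p q r i.val) := by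
  have key : ∀ (w : List (Fin 3)) (u v : Fin 192), E.Maps g u v →
      E.Maps g (w.foldl (fun acc k => m acc (sel3 4 8 16 k)) u)
        (w.foldl (fun acc k => m acc (sel3 p q r k)) v) := by
    intro w
    induction w with
    | nil => intro u v h; exact h
    | cons k w ih =>
      intro u v h
      refine ih _ _ (Maps.mul E h ?_)
      fin_cases k
      exacts [hp, hq, hr]
  have := key (wordsD.getD i.val []) 0 0 (Maps.zero E g)
  rwa [show List.foldl _ _ _ = img 4 8 16 i.val from rfl, img_self] at this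

theorem maps_gens {g : G} {p q r : Fin 192} (hp : E.Maps g 4 p) (hq : E.Maps g 8 q)
    (hr : E.Maps g 16 r) (k : Fin 3) : E.Maps g (genD k) (sel3 p q r k) := by
  fin_cases k
  exacts [hp, hq, hr]

theorem commute_maps {g : G} {a b c d : Fin 192} (ha : E.Maps g a c) (hb : E.Maps g b d)
    (h : m a b = m b a) : m c d = m d c := by
  rw [← E.commute_iff, ← ha, ← hb]
  exact (Commute.conj_iff g).mpr ((E.commute_iff a b).mpr h)

theorem Maps.cl {g : G} {a b : Fin 192} (h : E.Maps g a b) : E.Cl b ↔ E.Cl a := by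
  have hc : IsConj (E.ι a) (E.ι b) := isConj_iff.mpr ⟨g, h⟩
  exact ⟨fun h' => h'.trans hc.symm, fun h' => h'.trans hc⟩

theorem Maps.sq {g : G} {a b : Fin 192} (h : E.Maps g a b) : m a a = 0 ↔ m b b = 0 := by
  have h2 : g * E.ι (m a a) * g⁻¹ = E.ι (m b b) := Maps.mul E h h
  rw [← E.ι_eq_one, ← E.ι_eq_one (a := m b b), ← h2, conj_eq_one_iff]

theorem Maps.sig_eq {g : G} {a b : Fin 192} (h : E.Maps g a b) : sig b = sig a := by
  unfold sig
  rw [Prod.mk.injEq, decide_eq_decide, decide_eq_decide]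
  exact ⟨(Maps.sq E h).symm, (Maps.sq E (Maps.mul E h h)).symm⟩

/-- The image of a member of the centralizer of 2 under an element exchanging 1 and 2. -/
theorem exists_maps_lt {g : G} (h1 : E.Maps g 1 2) (h2 : E.Maps g 2 1) {a : Fin 192}
    (ha : a.val < 32) : ∃ b : Fin 192, b.val < 32 ∧ E.Maps g a b := by
  obtain ⟨b, hb⟩ := E.exists_index h2 ((cent_w a).mpr ha)
  refine ⟨b, (cent_w b).mp ?_, hb.symm⟩
  rw [← E.commute_iff, hb, ← (show g * E.t * g⁻¹ = E.ι 2 from h1)]
  exact (Commute.conj_iff g).mpr (E.commute_t a)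

/-- The search hypotheses hold for an element exchanging 1 and 2. -/
theorem exists_candidate {g : G} (h1 : E.Maps g 1 2) (h2 : E.Maps g 2 1) (cl : Fin 192 → Bool)
    (hcl : ∀ a, cl a = true ↔ E.Cl a) :
    ∃ p q r : Fin 32, firstOK cl (up p) 4 = true ∧ firstOK cl (up q) 8 = true ∧
      pairOK cl (up p) (up q) 4 8 = true ∧ firstOK cl (up r) 16 = true ∧
      pairOK cl (up p) (up r) 4 16 = true ∧ pairOK cl (up q) (up r) 8 16 = true ∧
      candOK cl (up p) (up q) (up r) ∧
      E.Maps g 4 (up p) ∧ E.Maps g 8 (up q) ∧ E.Maps g 16 (up r) ∧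
      ∀ i : Fin 32, E.Maps g (up i) (img (up p) (up q) (up r) i.val) := by
  obtain ⟨b4, l4, m4⟩ := E.exists_maps_lt h1 h2 (a := 4) (by decide)
  obtain ⟨b8, l8, m8⟩ := E.exists_maps_lt h1 h2 (a := 8) (by decide)
  obtain ⟨b16, l16, m16⟩ := E.exists_maps_lt h1 h2 (a := 16) (by decide)
  rw [← up_of_lt l4] at m4
  rw [← up_of_lt l8] at m8
  rw [← up_of_lt l16] at m16
  have hC : ∀ {a b : Fin 192}, E.Maps g a b → cl b = cl a := fun h => by
    rw [Bool.eq_iff_iff, hcl, hcl, Maps.cl E h]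
  have hF : ∀ {a b : Fin 192}, E.Maps g a b → firstOK cl b a = true := fun h => by
    simp [firstOK, Maps.sig_eq E h, hC h]
  have hP : ∀ {a b a' b' : Fin 192}, E.Maps g a b → E.Maps g a' b' → pairOK cl b b' a a' = true :=
    fun h h' => by simp [pairOK, Maps.sig_eq E (Maps.mul E h h'), hC (Maps.mul E h h')]
  refine ⟨_, _, _, hF m4, hF m8, hP m4 m8, hF m16, hP m4 m16, hP m8 m16, ?_, m4, m8, m16,
    E.maps_img m4 m8 m16⟩
  refine ⟨Maps.unique E ?_ h1, Maps.unique E ?_ h2, fun i => hC (E.maps_img m4 m8 m16 i)⟩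
  · exact E.maps_img m4 m8 m16 ⟨1, by norm_num⟩
  · exact E.maps_img m4 m8 m16 ⟨2, by norm_num⟩

end Emb

end H78.MTwelve
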