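import Cfsg.Agent.H78.MTwelve.AutFacts
import Cfsg.Agent.H65.Dihedral
import Cfsg.Agent.S0215
import Mathlib.GroupTheory.Sylow
import Mathlib.GroupTheory.Subgroup.Centralizer

/-!
A finite group with an involution whose centralizer is given by the table: Sylow 2-subgroup and
fusion of involutions.
-/

set_option autoImplicit false
set_option linter.style.haveILetI false

namespace H78.MTwelve

/-- An identification of an involution centralizer with the table. -/
structure Emb (G : Type*) [Group G] where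
  ι : Fin 192 → G
  inj : Function.Injective ι
  hom : ∀ a b, ι (m a b) = ι a * ι b
  range : ∀ g, Commute g (ι 1) → ∃ a, ι a = g

namespace Emb

variable {G : Type*} [Group G] (E : Emb G)

/-- The involution. -/
abbrev t : G := E.ι 1

/-- Fusion to the central involution. -/
def Cl (a : Fin 192) : Prop := IsConj E.t (E.ι a)

theorem ι_zero : E.ι 0 = 1 := by
  have h := E.hom 0 0
  rw [(m_zero 0).1] at h
  exact left_eq_mul.mp h

theorem ι_inv (a : Fin 192) : E.ι (iv a) = (E.ι a)⁻¹ :=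
  eq_inv_of_mul_eq_one_right (by rw [← E.hom, (m_zero a).2.2.1, E.ι_zero])

theorem ι_cj (a b : Fin 192) : E.ι (cj a b) = E.ι a * E.ι b * (E.ι a)⁻¹ := by
  rw [cj, E.hom, E.hom, E.ι_inv]

theorem commute_iff (a b : Fin 192) : Commute (E.ι a) (E.ι b) ↔ m a b = m b a := by
  rw [Commute, SemiconjBy, ← E.hom, ← E.hom, E.inj.eq_iff]

theorem commute_t (a : Fin 192) : Commute (E.ι a) E.t :=
  (E.commute_iff a 1).mpr (m_one_comm a).symm

theorem ι_eq_one {a : Fin 192} : E.ι a = 1 ↔ a = 0 := by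
  rw [← E.ι_zero, E.inj.eq_iff]

theorem orderOf_ι {a : Fin 192} : orderOf (E.ι a) = 2 ↔ typ a ≠ 0 := by
  rw [← (typ_spec a).1, H65.two_iff, ← E.hom, E.ι_eq_one, ne_eq, E.ι_eq_one]
  exact and_comm

theorem orderOf_t : orderOf E.t = 2 := E.orderOf_ι.mpr (by decide +kernel)

theorem Cl.typ_ne_zero {a : Fin 192} (h : E.Cl a) : typ a ≠ 0 :=
  E.orderOf_ι.mp (H65.two_of_isConj E.orderOf_t h)

theorem cl_cj (l a : Fin 192) : E.Cl (cj l a) ↔ E.Cl a := by
  have h : IsConj (E.ι a) (E.ι (cj l a)) := isConj_iff.mpr ⟨E.ι l, (E.ι_cj l a).symm⟩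
  exact ⟨fun h' => h'.trans h.symm, fun h' => h'.trans h⟩

theorem cl_rep {a : Fin 192} (ha : typ a ≠ 0) : E.Cl a ↔ E.Cl (rep (typ a)) := by
  rw [← (typ_spec a).2.2.2 ha, E.cl_cj]

theorem cl_one : E.Cl 1 := IsConj.refl _

theorem eq_one_of_typ {a : Fin 192} (h : typ a = 1) : a = 1 := (typ_spec a).2.2.1.mp h

/-- Classes in terms of representatives. -/
theorem cl_cases {a : Fin 192} (h : E.Cl a) :
    a = 1 ∨ (typ a = 2 ∧ E.Cl 2) ∨ (typ a = 3 ∧ E.Cl 14) ∨ (typ a = 4 ∧ E.Cl 16) := by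
  have h0 := Cl.typ_ne_zero E h
  have h4 := (typ_spec a).2.1
  have hr := (E.cl_rep h0).mp h
  rcases (show typ a = 1 ∨ typ a = 2 ∨ typ a = 3 ∨ typ a = 4 by omega) with h1 | h1 | h1 | h1
  · exact Or.inl (eq_one_of_typ h1)
  all_goals rw [h1] at hr
  · exact Or.inr (Or.inl ⟨h1, hr⟩)
  · exact Or.inr (Or.inr (Or.inl ⟨h1, hr⟩))
  · exact Or.inr (Or.inr (Or.inr ⟨h1, hr⟩))

theorem mem_centralizer_iff {g : G} :
    g ∈ Subgroup.centralizer ({E.t} : Set G) ↔ ∃ a, E.ι a = g := by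
  rw [Subgroup.mem_centralizer_singleton_iff]
  exact ⟨fun h => E.range g h, fun ⟨a, h⟩ => h ▸ E.commute_t a⟩

theorem card_centralizer : Nat.card (Subgroup.centralizer ({E.t} : Set G)) = 192 := by
  rw [← Nat.card_fin 192]
  refine (Nat.card_eq_of_bijective (fun a : Fin 192 => (⟨E.ι a, E.mem_centralizer_iff.mpr ⟨a, rfl⟩⟩ :
    Subgroup.centralizer ({E.t} : Set G))) ⟨fun a b h => E.inj (congrArg Subtype.val h), fun g => ?_⟩).symm
  obtain ⟨a, ha⟩ := E.mem_centralizer_iff.mp g.2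
  exact ⟨a, Subtype.ext ha⟩

/-- The elements with index below 64. -/
def sylowSub : Subgroup G where
  carrier := {g | ∃ a : Fin 192, a.val < 64 ∧ E.ι a = g}
  one_mem' := ⟨0, by decide, E.ι_zero⟩
  mul_mem' := by
    rintro _ _ ⟨a, ha, rfl⟩ ⟨b, hb, rfl⟩
    exact ⟨m a b, (sylow_closed a ha).2 b hb, E.hom a b⟩
  inv_mem' := by
    rintro _ ⟨a, ha, rfl⟩
    exact ⟨iv a, (sylow_closed a ha).1, E.ι_inv a⟩

theorem card_sylowSub : Nat.card E.sylowSub = 64 := by
  rw [← Nat.card_fin 64]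
  refine (Nat.card_eq_of_bijective (fun a : Fin 64 =>
    (⟨E.ι (a.castLE (by norm_num)), _, a.isLt, rfl⟩ : E.sylowSub)) ⟨fun a b h => ?_, ?_⟩).symm
  · exact Fin.castLE_injective _ (E.inj (congrArg Subtype.val h))
  · rintro ⟨_, a, ha, rfl⟩
    exact ⟨⟨a.val, ha⟩, rfl⟩

theorem card_le_64 [Finite G] {R : Subgroup G} (hR : IsPGroup 2 R)
    (hC : R ≤ Subgroup.centralizer ({E.t} : Set G)) : Nat.card R ≤ 64 := by
  haveI : Fact (Nat.Prime 2) := ⟨Nat.prime_two⟩
  obtain ⟨k, hk⟩ := IsPGroup.iff_card.mp hR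
  have hd := Subgroup.card_dvd_of_le hC
  rw [E.card_centralizer, hk] at hd
  have : k ≤ 6 := by
    by_contra h
    exact absurd ((pow_dvd_pow 2 (by omega : 7 ≤ k)).trans hd) (by norm_num)
  rw [hk]
  exact (Nat.pow_le_pow_right (by norm_num) this).trans (by norm_num)

theorem exists_sylow [Finite G] : ∃ P : Sylow 2 G, (P : Subgroup G) = E.sylowSub := by
  haveI : Fact (Nat.Prime 2) := ⟨Nat.prime_two⟩
  have hS : IsPGroup 2 E.sylowSub := IsPGroup.of_card (n := 6) (by rw [E.card_sylowSub]; norm_num)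
  obtain ⟨P, hP⟩ := hS.exists_le_sylow
  refine ⟨P, le_antisymm ?_ hP⟩
  by_contra hne
  have hlt : E.sylowSub.subgroupOf (P : Subgroup G) < ⊤ := lt_top_iff_ne_top.mpr fun h =>
    hne (Subgroup.subgroupOf_eq_top.mp h)
  haveI : Group.IsNilpotent (P : Subgroup G) := P.2.isNilpotent
  have hnorm := Group.normalizerCondition_of_isNilpotent _ hlt
  obtain ⟨n, hn, hn'⟩ := SetLike.exists_of_lt hnorm
  have hnS : ∀ g, g ∈ E.sylowSub ↔ (n : G) * g * (n : G)⁻¹ ∈ E.sylowSub := by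
    intro g
    by_cases hg : g ∈ (P : Subgroup G)
    · exact (Subgroup.mem_normalizer_iff.mp hn ⟨g, hg⟩)
    · refine ⟨fun h => absurd (hP h) hg, fun h => absurd ?_ hg⟩
      have := (P : Subgroup G).mul_mem ((P : Subgroup G).mul_mem ((P : Subgroup G).inv_mem n.2) (hP h)) n.2
      simpa [mul_assoc] using this
  have hnt : Commute (n : G) E.t := by
    obtain ⟨a, ha, hae⟩ := (hnS E.t).mp ⟨1, by decide, rfl⟩
    have hc : ∀ b : Fin 192, b.val < 64 → m a b = m b a := fun b hb => by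
      have hb' : (n : G)⁻¹ * E.ι b * n ∈ E.sylowSub :=
        (hnS _).mpr (by simpa [mul_assoc] using (show E.ι b ∈ E.sylowSub from ⟨b, hb, rfl⟩))
      obtain ⟨c, -, hce⟩ := hb'
      have hb2 : E.ι b = (n : G) * E.ι c * (n : G)⁻¹ := by rw [hce]; group
      rw [← E.commute_iff, hae, hb2]
      exact (Commute.conj_iff (n : G)).mpr (E.commute_t c).symm
    rcases sylow_center a ha hc with rfl | rfl
    · rw [E.ι_zero, eq_comm, conj_eq_one_iff] at hae
      exact absurd hae (H65.ne_one_of_two E.orderOf_t)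
    · show (n : G) * E.t = E.t * n
      conv_rhs => rw [show E.t = (n : G) * E.t * (n : G)⁻¹ from hae]
      group
  set R := ((P : Subgroup G) ⊓ Subgroup.centralizer ({E.t} : Set G)) with hR
  have hle : E.sylowSub ≤ R := le_inf hP fun g ⟨a, _, h⟩ => E.mem_centralizer_iff.mpr ⟨a, h⟩
  have hcard := E.card_le_64 (R := R) (P.2.to_le inf_le_left) inf_le_right
  have heq : E.sylowSub = R := Subgroup.eq_of_le_of_card_ge hle (by rw [E.card_sylowSub]; exact hcard)
  apply hn'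
  rw [Subgroup.mem_subgroupOf, heq]
  exact Subgroup.mem_inf.mpr ⟨n.2, Subgroup.mem_centralizer_singleton_iff.mpr hnt⟩

/-- Every involution is fused to one in the table. -/
theorem exists_conj_table [Finite G] {g : G} (hg : orderOf g = 2) :
    ∃ a : Fin 192, typ a ≠ 0 ∧ IsConj g (E.ι a) := by
  haveI : Fact (Nat.Prime 2) := ⟨Nat.prime_two⟩
  have hz : IsPGroup 2 (Subgroup.zpowers g) :=
    IsPGroup.of_card (n := 1) (by rw [Nat.card_zpowers, hg]; norm_num)
  obtain ⟨Q, hQ⟩ := hz.exists_le_sylow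
  obtain ⟨P, hP⟩ := E.exists_sylow
  obtain ⟨k, hk⟩ := MulAction.exists_smul_eq G Q P
  have hmem : k * g * k⁻¹ ∈ (P : Subgroup G) := by
    rw [← hk, Sylow.coe_subgroup_smul]
    exact Subgroup.smul_mem_pointwise_smul g (MulAut.conj k) _ (hQ (Subgroup.mem_zpowers g))
  rw [hP] at hmem
  obtain ⟨a, -, ha⟩ := hmem
  refine ⟨a, E.orderOf_ι.mp ?_, isConj_iff.mpr ⟨k, ha.symm⟩⟩
  rw [ha]
  exact H65.two_conj hg k

/-- The index of a conjugate. -/
theorem exists_index {g : G} {i a : Fin 192} (h : g * E.ι i * g⁻¹ = E.t)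
    (ha : m a i = m i a) : ∃ b, E.ι b = g * E.ι a * g⁻¹ :=
  E.range _ (by
    have hc := (Commute.conj_iff g).mpr ((E.commute_iff a i).mpr ha)
    rw [h] at hc
    exact hc)

theorem cnt_le {g : G} {i j : Fin 192} (h : g * E.ι i * g⁻¹ = E.t)
    (h' : g * E.t * g⁻¹ = E.ι j) : cnt i ≤ cnt j := by
  have hex : ∀ a, ∃ b, m a i = m i a → E.ι b = g * E.ι a * g⁻¹ := by
    intro a
    by_cases ha : m a i = m i a
    · obtain ⟨b, hb⟩ := E.exists_index h ha; exact ⟨b, fun _ => hb⟩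
    · exact ⟨0, fun hh => absurd hh ha⟩
  choose f hf using hex
  unfold cnt
  refine Finset.card_le_card_of_injOn f (fun a ha => ?_) (fun a ha b hb hab => ?_)
  · rw [Finset.mem_coe, Finset.mem_filter] at ha ⊢
    refine ⟨Finset.mem_univ _, (E.commute_iff _ _).mp ?_⟩
    rw [← h', hf a ha.2.symm]
    exact ((Commute.conj_iff g).mpr (E.commute_t a).symm)
  · rw [Finset.mem_coe, Finset.mem_filter] at ha hb
    have h1 := hf a ha.2.symm
    rw [hab, hf b hb.2.symm, mul_left_inj, mul_right_inj] at h1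
    exact E.inj h1.symm

/-- An element exchanging the central involution with a fused involution of its centralizer. -/
theorem exists_swap {i : Fin 192} (hi : E.Cl i) (hne : i ≠ 1) :
    ∃ h : G, h * E.t * h⁻¹ = E.ι i ∧ h * E.ι i * h⁻¹ = E.t := by
  obtain ⟨g, hg⟩ := isConj_iff.mp hi.symm
  have hc : Commute (g * E.t * g⁻¹) E.t := by
    nth_rewrite 2 [← hg]
    exact (Commute.conj_iff g).mpr (E.commute_t i).symm
  obtain ⟨j, hj⟩ := E.range _ hc
  have hjt : typ j ≠ 0 := E.orderOf_ι.mp (by rw [hj]; exact H65.two_conj E.orderOf_t g)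
  have hit := Cl.typ_ne_zero E hi
  have hj1 : j ≠ 1 := by
    rintro rfl
    apply hne
    have : g * E.ι i * g⁻¹ = g * E.t * g⁻¹ := hg.trans hj
    exact E.inj (mul_left_cancel (mul_right_cancel this))
  have hi1 : typ i ≠ 1 := fun h => hne (eq_one_of_typ h)
  have hj1' : typ j ≠ 1 := fun h => hj1 (eq_one_of_typ h)
  have hcnt : cnt i = cnt j := by
    refine le_antisymm (E.cnt_le hg hj.symm) ?_
    refine E.cnt_le (g := g⁻¹) (j := i) ?_ ?_
    · rw [hj]; group
    · rw [← hg]; group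
  have htyp : typ i = typ j := by
    obtain ⟨a2, a3, a4⟩ := cnt_spec i
    obtain ⟨b2, b3, b4⟩ := cnt_spec j
    have hi4 := (typ_spec i).2.1
    have hj4 := (typ_spec j).2.1
    rcases (show typ i = 2 ∨ typ i = 3 ∨ typ i = 4 by omega) with e | e | e <;>
    rcases (show typ j = 2 ∨ typ j = 3 ∨ typ j = 4 by omega) with e' | e' | e' <;> omega
  let l := m (iv (wit i)) (wit j)
  have hl : E.ι l * E.ι j * (E.ι l)⁻¹ = E.ι i := by
    have h1 := congrArg E.ι ((typ_spec i).2.2.2 hit)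
    have h2 := congrArg E.ι ((typ_spec j).2.2.2 hjt)
    rw [E.ι_cj] at h1 h2
    rw [htyp, ← h2] at h1
    rw [show E.ι l = (E.ι (wit i))⁻¹ * E.ι (wit j) by rw [E.hom, E.ι_inv]]
    calc _ = (E.ι (wit i))⁻¹ * (E.ι (wit j) * E.ι j * (E.ι (wit j))⁻¹) * E.ι (wit i) := by group
      _ = _ := by rw [← h1]; group
  refine ⟨E.ι l * g, ?_, ?_⟩
  · calc _ = E.ι l * (g * E.t * g⁻¹) * (E.ι l)⁻¹ := by group
      _ = _ := by rw [← hj]; exact hl
  · calc _ = E.ι l * (g * E.ι i * g⁻¹) * (E.ι l)⁻¹ := by group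
      _ = _ := by rw [hg, (E.commute_t l).eq, mul_inv_cancel_right]

theorem not_cl_x : ¬ E.Cl 14 := by
  intro h
  obtain ⟨g, hg1, hg2⟩ := E.exists_swap h (by decide)
  obtain ⟨a, ha, b, hb, hab⟩ := comm_x.2
  obtain ⟨a', ha'⟩ := E.exists_index hg2 ha
  obtain ⟨b', hb'⟩ := E.exists_index hg2 hb
  have hc : ∀ c c' : Fin 192, E.ι c' = g * E.ι c * g⁻¹ → m c' 14 = m 14 c' := fun c c' hh => by
    rw [← E.commute_iff, hh, ← hg1]
    exact (Commute.conj_iff g).mpr (E.commute_t c)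
  have key : comm a' b' = 14 := by
    apply E.inj
    rw [comm, E.hom, E.hom, E.hom, E.ι_inv, E.ι_inv, ha', hb', ← hg1,
      show E.t = E.ι (comm a b) by rw [hab], comm, E.hom, E.hom, E.hom, E.ι_inv, E.ι_inv]
    group
  rcases comm_x.1 a' (hc a a' ha') b' (hc b b' hb') with h' | h' <;>
    exact absurd (key.symm.trans h') (by decide)

theorem cl_two_of_cl_u (h : E.Cl 16) : E.Cl 2 := by
  by_contra h2
  obtain ⟨f, ht2, ht3, ht14, ht16, h23, h32, c2, c3, c1⟩ := cent_u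
  obtain ⟨g, hg1, hg2⟩ := E.exists_swap h (by decide)
  have h3 : ¬ E.Cl 3 := by
    rw [E.cl_rep (by rw [ht3]; norm_num), ht3]
    exact h2
  have key : ∀ c : Fin 192, m c 16 = m 16 c → ¬ E.Cl c → c ≠ 0 →
      ∃ d, E.ι d = g * E.ι c * g⁻¹ ∧ (d = 2 ∨ d = 3) := by
    intro c hc hcl hc0
    obtain ⟨d, hd⟩ := E.exists_index hg2 hc
    refine ⟨d, hd, ?_⟩
    have hd16 : m d 16 = m 16 d := by
      rw [← E.commute_iff, hd, ← hg1]
      exact (Commute.conj_iff g).mpr (E.commute_t c)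
    have hdcl : ¬ E.Cl d := fun hh => hcl (hh.trans (isConj_iff.mpr ⟨g, hd.symm⟩).symm)
    rcases f d hd16 with e | e | e | e | e
    · subst e
      rw [E.ι_zero, eq_comm, conj_eq_one_iff, E.ι_eq_one] at hd
      exact absurd hd hc0
    · exact absurd (eq_one_of_typ e ▸ E.cl_one) hdcl
    · exact absurd ((E.cl_rep (by omega)).mpr (by rw [e]; exact h)) hdcl
    · exact Or.inl e
    · exact Or.inr e
  obtain ⟨d2, hd2, e2⟩ := key 2 c2 h2 (by decide)
  obtain ⟨d3, hd3, e3⟩ := key 3 c3 h3 (by decide)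
  have hne : d2 ≠ d3 := fun e => by
    rw [e, hd3, mul_left_inj, mul_right_inj, E.inj.eq_iff] at hd2
    exact absurd hd2 (by decide)
  have h16 : E.ι (m d2 d3) = E.ι 16 := by
    rw [E.hom, hd2, hd3, ← hg1, show E.t = E.ι (m 2 3) by rw [h23], E.hom]
    group
  have := E.inj h16
  rcases e2 with rfl | rfl <;> rcases e3 with rfl | rfl
  · exact hne rfl
  · rw [h23] at this; exact absurd this (by decide)
  · rw [h32] at this; exact absurd this (by decide)
  · exact hne rfl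

theorem not_commute_t : ∃ a : Fin 192, ∃ b : Fin 192, ¬ Commute (E.ι a) (E.ι b) :=
  ⟨2, 32, fun h => absurd ((E.commute_iff 2 32).mp h) (by decide +kernel)⟩

theorem not_central [IsSimpleGroup G] : ¬ ∀ g, Commute g E.t := by
  intro h
  rcases (Subgroup.center G).normal_of_characteristic.eq_bot_or_eq_top with hb | ht
  · have : E.t ∈ Subgroup.center G := Subgroup.mem_center_iff.mpr fun g => h g
    rw [hb, Subgroup.mem_bot] at this
    exact H65.ne_one_of_two E.orderOf_t this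
  · obtain ⟨a, b, hab⟩ := E.not_commute_t
    exact hab (Subgroup.mem_center_iff.mp (ht ▸ Subgroup.mem_top _) _)

theorem cl_two [Finite G] [IsSimpleGroup G] : E.Cl 2 := by
  by_contra h2
  obtain ⟨P, hP⟩ := E.exists_sylow
  have hiso : ∀ g : G, g * E.t * g⁻¹ ∈ P → g * E.t * g⁻¹ = E.t := by
    intro g hg
    have hg : g * E.t * g⁻¹ ∈ (P : Subgroup G) := hg
    rw [hP] at hg
    obtain ⟨a, -, ha⟩ := hg
    have hcl : E.Cl a := isConj_iff.mpr ⟨g, ha.symm⟩
    rcases E.cl_cases hcl with rfl | ⟨-, h⟩ | ⟨-, h⟩ | ⟨-, h⟩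
    · exact ha.symm
    · exact absurd h h2
    · exact absurd h E.not_cl_x
    · exact absurd (E.cl_two_of_cl_u h) h2
  have htP : E.t ∈ P := by
    show E.t ∈ (P : Subgroup G)
    rw [hP]
    exact ⟨1, by decide, rfl⟩
  obtain ⟨N, hN, hodd, hcom⟩ := Cfsg.Agent.S0215.result P E.t E.orderOf_t htP hiso
  rcases hN.eq_bot_or_eq_top with hb | ht
  · refine E.not_central fun g => ?_
    have h := hcom g
    rw [hb, Subgroup.mem_bot, mul_inv_eq_one, mul_inv_eq_iff_eq_mul] at h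
    exact h.symm
  · have hd : 2 ∣ Nat.card G := E.orderOf_t ▸ orderOf_dvd_natCard E.t
    rw [ht, Subgroup.card_top] at hodd
    exact Nat.not_even_iff_odd.mpr hodd (even_iff_two_dvd.mpr hd)

end Emb

end H78.MTwelve
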