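import Cfsg.Agent.H78.MTwelve.Table
import Mathlib.Data.Fintype.Card
import Mathlib.Data.Fintype.Pi

/-! Facts read off from the table. -/

set_option autoImplicit false
set_option maxRecDepth 20000

namespace H78.MTwelve

theorem m_zero : ∀ a : Fin 192, m 0 a = a ∧ m a 0 = a ∧ m a (iv a) = 0 ∧ m (iv a) a = 0 := by
  decide +kernel

theorem m_one_comm : ∀ a : Fin 192, m 1 a = m a 1 := by decide +kernel

/-- Involutions are exactly the elements with a nonzero class. -/
theorem typ_spec : ∀ a : Fin 192, ((a ≠ 0 ∧ m a a = 0) ↔ typ a ≠ 0) ∧ typ a ≤ 4 ∧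
    (typ a = 1 ↔ a = 1) ∧ (typ a ≠ 0 → cj (wit a) a = rep (typ a)) := by decide +kernel

/-- The number of elements commuting with `a`. -/
def cnt (a : Fin 192) : Nat := (Finset.univ.filter fun b => m a b = m b a).card

theorem cnt_spec : ∀ a : Fin 192, (typ a = 2 → cnt a = 32) ∧ (typ a = 3 → cnt a = 16) ∧
    (typ a = 4 → cnt a = 8) := by decide +kernel

/-- The table commutator. -/
def comm (a b : Fin 192) : Fin 192 := m (m a b) (m (iv a) (iv b))

theorem comm_x : (∀ a : Fin 192, m a 14 = m 14 a → ∀ b : Fin 192, m b 14 = m 14 b →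
      comm a b = 0 ∨ comm a b = 1) ∧
    ∃ a : Fin 192, m a 14 = m 14 a ∧ ∃ b : Fin 192, m b 14 = m 14 b ∧ comm a b = 1 := by
  decide +kernel

theorem cent_u : (∀ a : Fin 192, m a 16 = m 16 a →
      a = 0 ∨ typ a = 1 ∨ typ a = 4 ∨ a = 2 ∨ a = 3) ∧
    typ 2 = 2 ∧ typ 3 = 2 ∧ typ 14 = 3 ∧ typ 16 = 4 ∧ m 2 3 = 1 ∧ m 3 2 = 1 ∧
    m 2 16 = m 16 2 ∧ m 3 16 = m 16 3 ∧ m 1 16 = m 16 1 := by decide +kernel

theorem cent_w : ∀ a : Fin 192, m a 2 = m 2 a ↔ a.val < 32 := by decide +kernel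

theorem sylow_closed : ∀ a : Fin 192, a.val < 64 →
    (iv a).val < 64 ∧ ∀ b : Fin 192, b.val < 64 → (m a b).val < 64 := by decide +kernel

theorem sylow_center : ∀ a : Fin 192, a.val < 64 →
    (∀ b : Fin 192, b.val < 64 → m a b = m b a) → a = 0 ∨ a = 1 := by decide +kernel

theorem d_closed : ∀ a : Fin 192, a.val < 32 →
    (iv a).val < 32 ∧ ∀ b : Fin 192, b.val < 32 → (m a b).val < 32 := by decide +kernel

theorem s_facts : m 32 32 = 0 ∧ typ 32 = 3 ∧ cj 32 2 = 3 ∧ cj 32 3 = 2 ∧ cj 32 1 = 1 ∧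
    m 32 14 = m 14 32 ∧ ∀ a : Fin 192, a.val < 32 → (cj 32 a).val < 32 := by decide +kernel

theorem c_zw_card : (Finset.univ.filter fun a : Fin 192 => m a 14 = m 14 a ∧ m a 2 = m 2 a).card = 8 := by
  decide +kernel

/-- `beta` is an automorphism of the table fixing 1 and 2, and the two model automorphisms of the
centralizer of 2 agree through it. -/
theorem beta_spec : (∀ a b : Fin 192, beta (m a b) = m (beta a) (beta b)) ∧
    (∀ a : Fin 192, beta (betaInv a) = a ∧ betaInv (beta a) = a) ∧ beta 1 = 1 ∧ beta 2 = 2 ∧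
    (∀ a : Fin 192, a.val < 32 → (beta a).val < 32 ∧ alTwo (beta a) = beta (al a)) := by
  decide +kernel

theorem al_spec : ∀ a : Fin 192, a.val < 32 → (al a).val < 32 ∧ (alTwo a).val < 32 ∧
    ∀ b : Fin 192, b.val < 32 → al (m a b) = m (al a) (al b) ∧ alTwo (m a b) = m (alTwo a) (alTwo b) := by
  decide +kernel

end H78.MTwelve
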