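import Mathlib.GroupTheory.Perm.Sign
import Mathlib.GroupTheory.SpecificGroups.Alternating
import Mathlib.Data.Fintype.Perm
import Mathlib.Algebra.Group.Subgroup.Lattice

/-! Standard position of a four-group and a 3-element normalizing it in the alternating group of
degree 5. -/

set_option autoImplicit false
set_option maxRecDepth 20000

namespace H78.MTwelve.Five

open Equiv

abbrev P5 := Perm (Fin 5)

/-- The standard double transpositions, 3-cycles and transposition. -/
def z0 : P5 := swap 0 1 * swap 2 3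
def w0 : P5 := swap 0 2 * swap 1 3
def t0 : P5 := swap 0 1
def a0 : P5 := swap 1 2 * swap 0 1
def c0 : P5 := swap 2 3 * swap 3 4

theorem step_z : ∀ p : P5, p * p = 1 → p ≠ 1 → Perm.sign p = 1 → ∃ σ : P5, σ * p = z0 * σ := by
  decide +kernel

theorem step_w : ∀ q : P5, q * q = 1 → q ≠ 1 → q ≠ z0 → Perm.sign q = 1 → q * z0 = z0 * q →
    ∃ σ : P5, σ * z0 = z0 * σ ∧ σ * q = w0 * σ := by decide +kernel

/-- The conditions on a normalizing 3-element. -/
def IsRot (r : P5) : Prop := r * r * r = 1 ∧ r ≠ 1 ∧ r * z0 = w0 * r ∧ r * w0 = (z0 * w0) * r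

instance (r : P5) : Decidable (IsRot r) := by unfold IsRot; infer_instance

/-- Conjugation to standard position fixing the four-group pointwise. -/
def Fixes (σ r : P5) : Prop := σ * z0 = z0 * σ ∧ σ * w0 = w0 * σ ∧ σ * r = a0 * σ

instance (σ r : P5) : Decidable (Fixes σ r) := by unfold Fixes; infer_instance

theorem step_a : ∀ r : P5, IsRot r → ∃ σ : P5, Fixes σ r := by decide +kernel

theorem basic : a0 * z0 = w0 * a0 ∧ t0 * z0 = z0 * t0 ∧ t0 * w0 = (z0 * w0) * t0 ∧
    t0 * a0 * t0 = a0 * a0 ∧ c0 * c0 * c0 = 1 ∧ c0 ≠ 1 ∧ Perm.sign c0 = 1 ∧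
    (z0 * c0) * (z0 * c0) = 1 ∧ (w0 * a0 * c0) * (w0 * a0 * c0) = 1 ∧ c0 * t0 = t0 * c0 := by
  decide +kernel

theorem c_unique : ∀ c : P5, c * c * c = 1 → c ≠ 1 → Perm.sign c = 1 → (z0 * c) * (z0 * c) = 1 →
    ((z0 * w0) * (a0 * a0) * c) * ((z0 * w0) * (a0 * a0) * c) = 1 → c = c0 := by decide +kernel

/-- The conditions met by 3-elements inverted by `z0` and fixed by the outer automorphism. -/
def IsFixedThree (c : P5) : Prop := c * c * c = 1 ∧ c ≠ 1 ∧ Perm.sign c = 1 ∧ (z0 * c) * (z0 * c) = 1 ∧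
    ((a0 * c) * (a0 * c) = 1 ↔ (a0 * a0 * c) * (a0 * a0 * c) = 1)

instance (c : P5) : Decidable (IsFixedThree c) := by unfold IsFixedThree; infer_instance

theorem three_cent : ∀ c : P5, IsFixedThree c → c = c0 ∨ c = c0 * c0 := by decide +kernel

/-- A normal form for the even permutations. -/
def word (i k j : Fin 3) (v : Fin 4) : P5 :=
  a0 ^ i.val * c0 ^ k.val * [1, z0, w0, z0 * w0].getD v.val 1 * a0 ^ j.val

theorem even_word : ∀ σ : P5, Perm.sign σ = 1 →
    ∃ i : Fin 3, ∃ k : Fin 3, ∃ j : Fin 3, ∃ v : Fin 4, σ = word i k j v := by decide +kernel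

theorem even_mem_closure (σ : P5) (h : Perm.sign σ = 1) :
    σ ∈ Subgroup.closure ({z0, w0, a0, c0} : Set P5) := by
  obtain ⟨i, k, j, v, rfl⟩ := even_word σ h
  have hz : z0 ∈ Subgroup.closure ({z0, w0, a0, c0} : Set P5) := Subgroup.subset_closure (by simp)
  have hw : w0 ∈ Subgroup.closure ({z0, w0, a0, c0} : Set P5) := Subgroup.subset_closure (by simp)
  have ha : a0 ∈ Subgroup.closure ({z0, w0, a0, c0} : Set P5) := Subgroup.subset_closure (by simp)
  have hc : c0 ∈ Subgroup.closure ({z0, w0, a0, c0} : Set P5) := Subgroup.subset_closure (by simp)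
  refine mul_mem (mul_mem (mul_mem (pow_mem ha _) (pow_mem hc _)) ?_) (pow_mem ha _)
  fin_cases v
  exacts [one_mem _, hz, hw, mul_mem hz hw]

end H78.MTwelve.Five
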