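import Cfsg.Agent.H78.MTwelve.OtherClass

/-! The normalised model of the four-group normalizer. -/

set_option autoImplicit false

namespace H78.MTwelve

/-- An identification of the involution centralizer together with an involution acting on the
centralizer of 2 through the model automorphism. -/
structure Frame (G : Type*) [Group G] extends Emb G where
  g : G
  cl16 : toEmb.Cl 16
  maps : ∀ i : Fin 32, toEmb.Maps g (up i) (al (up i))
  g_sq : g * g = 1
  gs_cube : (g * ι 32) ^ 3 = 1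

namespace Emb

variable {G : Type*} [Group G] [Finite G] (E : Emb G)

omit [Finite G] in
theorem clB_iff (h16 : E.Cl 16) (a : Fin 192) : clB a = true ↔ E.Cl a := by
  simp only [clB, Bool.or_eq_true, beq_iff_eq]
  constructor
  · rintro ((h | h) | h)
    · exact eq_one_of_typ h ▸ E.cl_one
    · exact (E.cl_rep (by omega)).mpr (by rw [h]; exact E.cl_two_of_cl_u h16)
    · exact (E.cl_rep (by omega)).mpr (by rw [h]; exact h16)
  · intro h
    rcases E.cl_cases h with rfl | ⟨h', -⟩ | ⟨-, h'⟩ | ⟨h', -⟩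
    · exact Or.inl (Or.inl (by decide +kernel))
    · exact Or.inl (Or.inr h')
    · exact absurd h' E.not_cl_x
    · exact Or.inr h'

omit [Finite G] in
/-- An element commuting with 1 and 2 comes from an index below 32. -/
theorem exists_lt_of_commute {h : G} (h1 : Commute h E.t) (h2 : Commute h (E.ι 2)) :
    ∃ c : Fin 32, E.ι (up c) = h := by
  obtain ⟨a, ha⟩ := E.range h h1
  have : a.val < 32 := (cent_w a).mp ((E.commute_iff a 2).mp (ha ▸ h2))
  exact ⟨⟨a.val, this⟩, by rw [up_of_lt this, ha]⟩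

omit [Finite G] in
theorem commute_of_maps_self {h : G} {a : Fin 192} (hh : E.Maps h a a) : Commute h (E.ι a) :=
  mul_inv_eq_iff_eq_mul.mp hh

omit [Finite G] in
theorem exists_gam (h16 : E.Cl 16) : ∃ j : Fin 2, ∃ g : G,
    E.Maps g 4 (gam j 4) ∧ E.Maps g 8 (gam j 8) ∧ E.Maps g 16 (gam j 16) := by
  obtain ⟨g, hg1, hg2⟩ := E.exists_swap (E.cl_two_of_cl_u h16) (by decide)
  obtain ⟨p, q, r, c1, c2, c3, c4, c5, c6, c7, m4, m8, m16, hmaps⟩ :=
    E.exists_candidate hg1 hg2 clB (E.clB_iff h16)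
  have hD : ∀ a : Fin 192, a.val < 32 → E.Maps g a (img (up p) (up q) (up r) a.val) ∧
      (img (up p) (up q) (up r) a.val).val < 32 := by
    intro a ha
    obtain ⟨b, hb, hm⟩ := E.exists_maps_lt hg1 hg2 ha
    have h' := hmaps ⟨a.val, ha⟩
    rw [up_of_lt ha] at h'
    exact ⟨h', (Maps.unique E hm h') ▸ hb⟩
  have hgen : ∀ k : Fin 3, (genD k).val < 32 := by decide
  have hsq : sqInner (up p) (up q) (up r) := by
    obtain ⟨d, hd⟩ := E.exists_lt_of_commute
      (E.commute_of_maps_self (Maps.trans E hg1 hg2)) (E.commute_of_maps_self (Maps.trans E hg2 hg1))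
    refine ⟨d, fun k => ?_⟩
    obtain ⟨e1, l1⟩ := hD _ (hgen k)
    have e2 := Maps.trans E e1 (hD _ l1).1
    rw [← hd] at e2
    exact Maps.unique E (E.maps_ι _ _) e2
  obtain ⟨hs2, -, hsw, hsv, hs1, -, hsD⟩ := s_facts
  have hcube : cubeInner (up p) (up q) (up r) := by
    have f1 : E.Maps (g * E.ι 32) 1 2 := Maps.trans E (hs1 ▸ E.maps_ι 32 1) hg1
    have f3 : E.Maps g 3 3 := by
      have := Maps.mul E hg1 hg2
      rwa [show m 1 2 = 3 by decide +kernel, show m 2 1 = 3 by decide +kernel] at this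
    have f2 : E.Maps (g * E.ι 32) 2 3 := Maps.trans E (hsw ▸ E.maps_ι 32 2) f3
    have f3' : E.Maps (g * E.ι 32) 3 1 := Maps.trans E (hsv ▸ E.maps_ι 32 3) hg2
    obtain ⟨d, hd⟩ := E.exists_lt_of_commute
      (E.commute_of_maps_self (Maps.trans E (Maps.trans E f1 f2) f3'))
      (E.commute_of_maps_self (Maps.trans E (Maps.trans E f2 f3') f1))
    refine ⟨d, fun k => ?_⟩
    obtain ⟨e1, l1⟩ := hD _ (hsD _ (hgen k))
    obtain ⟨e2, l2⟩ := hD _ (hsD _ l1)
    obtain ⟨e3, -⟩ := hD _ (hsD _ l2)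
    have e := Maps.trans E (Maps.trans E (Maps.trans E (E.maps_ι 32 _) e1)
      (Maps.trans E (E.maps_ι 32 _) e2)) (Maps.trans E (E.maps_ι 32 _) e3)
    rw [← hd] at e
    exact Maps.unique E (E.maps_ι _ _) e
  obtain ⟨d, j, hj⟩ := searchB p c1 q c2 c3 r c4 c5 c6 c7 hsq hcube
  refine ⟨j, (E.ι (up d))⁻¹ * g, ?_⟩
  have key : ∀ k : Fin 3, E.Maps ((E.ι (up d))⁻¹ * g) (genD k) (gam j (genD k)) := by
    intro k
    refine Maps.trans E (hD _ (hgen k)).1 ?_
    rw [hj k]
    show (E.ι (up d))⁻¹ * E.ι (cj (up d) (gam j (genD k))) * ((E.ι (up d))⁻¹)⁻¹ = _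
    rw [E.ι_cj]
    group
  exact ⟨key 0, key 1, key 2⟩

/-- Renumbering by the table automorphism `beta`. -/
def twist : Emb G where
  ι a := E.ι (beta a)
  inj a b h := by
    have h' := congrArg betaInv (E.inj h)
    rwa [((beta_spec.2.1) a).2, ((beta_spec.2.1) b).2] at h'
  hom a b := by rw [beta_spec.1, E.hom]
  range g h := by
    rw [beta_spec.2.2.1] at h
    obtain ⟨a, ha⟩ := E.range g h
    exact ⟨betaInv a, by rw [((beta_spec.2.1) a).1, ha]⟩

omit [Finite G] in
theorem exists_al (h16 : E.Cl 16) : ∃ E' : Emb G, E'.t = E.t ∧ E'.Cl 16 ∧ ∃ g : G, ∀ i : Fin 32, E'.Maps g (up i) (al (up i)) := by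
  obtain ⟨j, g, h4, h8, hu⟩ := E.exists_gam h16
  have hall : ∀ i : Fin 32, E.Maps g (up i) (gam j (up i)) := fun i => by
    rw [← (gam_img j i).1]
    exact E.maps_img h4 h8 hu i
  rcases (show j = 0 ∨ j = 1 by omega) with rfl | rfl
  · exact ⟨E, rfl, h16, g, hall⟩
  · have hcl : E.twist.Cl 16 := by
      show IsConj (E.ι (beta 1)) (E.ι (beta 16))
      rw [beta_spec.2.2.1]
      exact (E.cl_rep (by decide +kernel)).mpr
        (by rw [show typ (beta 16) = 4 by decide +kernel]; exact h16)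
    refine ⟨E.twist, congrArg E.ι beta_spec.2.2.1, hcl, g, fun i => ?_⟩
    obtain ⟨hb, hba⟩ := beta_spec.2.2.2.2 (up i) (by rw [up_val]; exact i.isLt)
    have h := hall ⟨(beta (up i)).val, hb⟩
    rw [up_of_lt hb, show gam 1 (beta (up i)) = alTwo (beta (up i)) from rfl, hba] at h
    exact h

omit [Finite G] in
theorem exists_frame (h16 : E.Cl 16) : ∃ F : Frame G, F.toEmb.t = E.t := by
  obtain ⟨E', ht, hcl16, g, hg⟩ := E.exists_al h16
  have hgen : ∀ k : Fin 3, ∃ i : Fin 32, up i = genD k ∧ up i = genD k := fun k => by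
    fin_cases k
    exacts [⟨4, by decide, by decide⟩, ⟨8, by decide, by decide⟩, ⟨16, by decide, by decide⟩]
  have g1 : E'.Maps g 1 2 := by
    have := hg 1
    rwa [show al (up 1) = 2 by decide +kernel, show up 1 = 1 by decide] at this
  have g2 : E'.Maps g 2 1 := by
    have := hg 2
    rwa [show al (up 2) = 1 by decide +kernel, show up 2 = 2 by decide] at this
  have g3 : E'.Maps g 3 3 := by
    have := hg 3
    rwa [show al (up 3) = 3 by decide +kernel, show up 3 = 3 by decide] at this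
  have hlow : ∀ a : Fin 192, a.val < 32 → E'.Maps g a (al a) := fun a ha => by
    have := hg ⟨a.val, ha⟩
    rwa [up_of_lt ha] at this
  -- adjust so that `g` is an involution
  obtain ⟨g', hg', hsq⟩ : ∃ g' : G, (∀ a : Fin 192, a.val < 32 → E'.Maps g' a (al a)) ∧ g' * g' = 1 := by
    obtain ⟨c, hc⟩ := E'.exists_lt_of_commute (E'.commute_of_maps_self (Maps.trans E' g1 g2))
      (E'.commute_of_maps_self (Maps.trans E' g2 g1))
    have hgc : E'.Maps g (up c) (up c) := by
      show g * E'.ι (up c) * g⁻¹ = E'.ι (up c)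
      rw [hc]; group
    rcases sq_cands c (fun k => by
        obtain ⟨i, hi, -⟩ := hgen k
        have h2 := Maps.trans E' (hg i) (hlow _ (al_spec _ (by rw [up_val]; exact i.isLt)).1)
        rw [← hc, hi] at h2
        exact Maps.unique E' (E'.maps_ι _ _) h2)
      (Maps.unique E' (hlow _ (by rw [up_val]; exact c.isLt)) hgc) with e | e <;>
      rw [e] at hc
    · exact ⟨g, hlow, by rw [← hc, E'.ι_zero]⟩
    · refine ⟨g * E'.t, fun a ha => Maps.trans E' (b := a) ?_ (hlow a ha), ?_⟩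
      · show E'.t * E'.ι a * E'.t⁻¹ = E'.ι a
        rw [← (E'.commute_t a).eq, mul_inv_cancel_right]
      · calc g * E'.t * (g * E'.t) = (g * E'.t * g⁻¹) * (g * g) * E'.t := by group
          _ = E'.ι 2 * E'.ι 3 * E'.t := by rw [show g * E'.t * g⁻¹ = E'.ι 2 from g1, hc]
          _ = 1 := by
            rw [← E'.hom, ← E'.hom, show m (m 2 3) 1 = 0 by decide +kernel, E'.ι_zero]
  obtain ⟨hs2, -, hsw, hsv, hs1, -, hsD⟩ := s_facts
  have hcube : (g' * E'.ι 32) ^ 3 = 1 := by
    have n1 : E'.Maps g' 1 2 := by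
      have := hlow
      have h := hg' 1 (by decide)
      rwa [show al 1 = 2 by decide +kernel] at h
    have n2 : E'.Maps g' 2 1 := by
      have h := hg' 2 (by decide)
      rwa [show al 2 = 1 by decide +kernel] at h
    have n3 : E'.Maps g' 3 3 := by
      have h := hg' 3 (by decide)
      rwa [show al 3 = 3 by decide +kernel] at h
    have f1 : E'.Maps (g' * E'.ι 32) 1 2 := Maps.trans E' (hs1 ▸ E'.maps_ι 32 1) n1
    have f2 : E'.Maps (g' * E'.ι 32) 2 3 := Maps.trans E' (hsw ▸ E'.maps_ι 32 2) n3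
    have f3 : E'.Maps (g' * E'.ι 32) 3 1 := Maps.trans E' (hsv ▸ E'.maps_ι 32 3) n2
    obtain ⟨c, hc⟩ := E'.exists_lt_of_commute
      (E'.commute_of_maps_self (Maps.trans E' (Maps.trans E' f1 f2) f3))
      (E'.commute_of_maps_self (Maps.trans E' (Maps.trans E' f2 f3) f1))
    have step : ∀ a : Fin 192, a.val < 32 → E'.Maps (g' * E'.ι 32) a (tw a) ∧ (tw a).val < 32 :=
      fun a ha => ⟨Maps.trans E' (E'.maps_ι 32 a) (hg' _ (hsD a ha)), (al_spec _ (hsD a ha)).1⟩
    have hfix : E'.Maps (g' * E'.ι 32) (up c) (up c) := by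
      show g' * E'.ι 32 * E'.ι (up c) * (g' * E'.ι 32)⁻¹ = E'.ι (up c)
      rw [hc]; group
    have hc0 := cube_cands c (fun k => by
        obtain ⟨i, hi, -⟩ := hgen k
        have hi32 : (genD k).val < 32 := by rw [← hi, up_val]; exact i.isLt
        obtain ⟨e1, l1⟩ := step _ hi32
        obtain ⟨e2, l2⟩ := step _ l1
        have e := Maps.trans E' (Maps.trans E' e1 e2) (step _ l2).1
        rw [← hc] at e
        exact Maps.unique E' (E'.maps_ι _ _) e)
      (Maps.unique E' (step _ (by rw [up_val]; exact c.isLt)).1 hfix)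
    rw [hc0, E'.ι_zero] at hc
    rw [pow_succ, pow_two, mul_assoc]
    exact hc.symm
  exact ⟨{ toEmb := E', g := g', cl16 := hcl16,
           maps := fun i => hg' _ (by rw [up_val]; exact i.isLt), g_sq := hsq, gs_cube := hcube }, ht⟩

end Emb

end H78.MTwelve
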