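import Cfsg.Agent.H78.MTwelve.SolvableLocal
import Cfsg.Agent.H78.MTwelve.FivePoints
import Cfsg.Agent.S1230
import Cfsg.Agent.H37.SmallIso
import Cfsg.Agent.H70.AbelianSylowTwo

/-! The centralizer of 14 is an extension of the alternating group of degree 5. -/

set_option autoImplicit false
set_option linter.style.haveILetI false

namespace H78.MTwelve

/-- The commutator subgroup of a group with an element of odd order contains that element, once it
contains it up to a central involution. -/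
theorem mem_of_mul_invol {H : Type*} [Group H] {K : Subgroup H} {a x : H}
    (ha : a * a * a = 1) (hx : x * x = 1) (hcx : Commute a x) (hxK : x ∉ K) (h : a * x ∈ K) : False := by
  apply hxK
  have h3 : (a * x) * (a * x) * (a * x) = x := by
    have e : (a * x) ^ 3 = a ^ 3 * x ^ 3 := hcx.mul_pow 3
    rw [pow_succ, pow_two, pow_succ, pow_two, pow_succ x, pow_two, ha, hx, one_mul, one_mul] at e
    exact e
  rw [← h3]
  exact K.mul_mem (K.mul_mem h h) h

namespace Frame

variable {G : Type*} [Group G] [Finite G] (F : Frame G)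

theorem exists_icos : ∃ (K : Subgroup F.toEmb.cx) (Φ : K →* Five.P5), K.Normal ∧
    Function.Injective Φ ∧ (∀ σ : Five.P5, Equiv.Perm.sign σ = 1 ↔ ∃ k : K, Φ k = σ) ∧
    F.zC ∈ K ∧ F.wC ∈ K ∧ F.aC ∈ K ∧
    ∀ c : F.toEmb.cx, ∃ k ∈ K, ∃ p ∈ F.toEmb.px, c = k * p := by
  haveI : Fact (Nat.Prime 2) := ⟨Nat.prime_two⟩
  obtain ⟨M, hMn, hM2, hsM, hxM, haM, hzM, hwM, hvM, hqM, hMQ⟩ := F.exists_core_sub
  have hc_cl : ∀ j : Fin 192, typ j = 3 → ¬ F.toEmb.Cl j := fun j hj hh => by
    rw [F.toEmb.cl_rep (by omega), hj] at hh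
    exact F.toEmb.not_cl_x hh
  -- elements of M
  let xM : M := ⟨F.xC, hxM⟩
  let zM : M := ⟨F.zC, hzM⟩
  let wM : M := ⟨F.wC, hwM⟩
  let vM : M := ⟨F.vC, hvM⟩
  let aM : M := ⟨F.aC, haM⟩
  obtain ⟨m1, m2, m3⟩ := F.a_maps
  have e1 : aM * zM * aM⁻¹ = wM := Subtype.ext (Subtype.ext m1)
  have e2 : aM * wM * aM⁻¹ = vM := Subtype.ext (Subtype.ext m2)
  have e3 : aM * vM * aM⁻¹ = zM := Subtype.ext (Subtype.ext m3)
  have hx2 : xM * xM = 1 := Subtype.ext (F.q8_sq (F.inCx_mem_q8 14 rfl (by decide +kernel)))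
  have hx1 : xM ≠ 1 := fun h => by
    have h' := congrArg (fun y : M => ((y : F.toEmb.cx) : G)) h
    exact absurd (F.toEmb.ι_eq_one.mp h') (by decide)
  have hxc : xM ∈ Subgroup.center M := Subgroup.mem_center_iff.mpr fun k =>
    Subtype.ext (Subgroup.mem_center_iff.mp F.xC_central k.1)
  set X : Subgroup M := Subgroup.zpowers xM with hX
  haveI hXn : X.Normal := ⟨fun k hk g => by
    have : k ∈ Subgroup.center M := (Subgroup.zpowers_le.mpr hxc) hk
    rw [Subgroup.mem_center_iff.mp this g, mul_inv_cancel_right]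
    exact hk⟩
  have hxord : orderOf xM = 2 := H65.two_iff.mpr ⟨hx2, hx1⟩
  have hXcard : Nat.card X = 2 := by rw [hX, Nat.card_zpowers, hxord]
  have hmemX : ∀ k ∈ X, k = 1 ∨ k = xM := by
    intro k hk
    obtain ⟨i, rfl⟩ := Subgroup.mem_zpowers_iff.mp hk
    rcases Int.even_or_odd i with ⟨j, rfl⟩ | ⟨j, rfl⟩
    · left
      rw [← two_mul, zpow_mul, show xM ^ (2 : ℤ) = 1 by rw [zpow_two, hx2], one_zpow]
    · right
      rw [zpow_add, zpow_mul, show xM ^ (2 : ℤ) = 1 by rw [zpow_two, hx2], one_zpow, one_mul, zpow_one]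
  set π : M →* M ⧸ X := QuotientGroup.mk' X with hπ
  have hπs : Function.Surjective π := QuotientGroup.mk'_surjective X
  have hπx : π xM = 1 := (QuotientGroup.eq_one_iff _).mpr (Subgroup.mem_zpowers xM)
  -- the Sylow 2-subgroups
  set Q : Subgroup M := F.q8.subgroupOf M with hQ
  have hQcard : Nat.card Q = 8 := by
    rw [hQ, Nat.card_congr (Subgroup.subgroupOfEquivOfLe hqM).toEquiv, F.card_q8]
  obtain ⟨P, hP⟩ := F.toEmb.exists_sylow_cx
  have hpodd : Odd F.toEmb.px.index := by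
    rw [← hP, ← Nat.not_even_iff_odd, even_iff_two_dvd]
    exact P.not_dvd_index
  have hQodd : Odd Q.index := by
    have c1 := Subgroup.card_mul_index F.toEmb.px
    have c2 := Subgroup.card_mul_index M
    have c3 := Subgroup.card_mul_index Q
    rw [F.toEmb.card_px] at c1
    rw [hM2] at c2
    rw [hQcard] at c3
    have : Q.index = F.toEmb.px.index := by omega
    rwa [this]
  have hXQ : X ≤ Q := Subgroup.zpowers_le.mpr
    (show F.xC ∈ F.q8 from F.inCx_mem_q8 14 rfl (by decide +kernel))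
  set T : Subgroup (M ⧸ X) := Q.map π with hT
  have hker : π.ker ≤ Q := by rw [hπ, QuotientGroup.ker_mk']; exact hXQ
  have hTidx : T.index = Q.index := Subgroup.index_map_eq _ hπs hker
  have hTcard : Nat.card T = 4 := by
    have c3 := Subgroup.card_mul_index Q
    have c4 := Subgroup.card_mul_index T
    have c5 := Subgroup.card_mul_index X
    rw [hQcard] at c3
    rw [hXcard, Subgroup.index_eq_card] at c5
    rw [hTidx] at c4
    have hpos : 0 < Q.index := hQodd.pos
    have : Nat.card T * Q.index = 4 * Q.index := by omega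
    exact Nat.eq_of_mul_eq_mul_right hpos this
  have hTp : IsPGroup 2 T := IsPGroup.of_card (n := 2) (by rw [hTcard]; norm_num)
  let TS : Sylow 2 (M ⧸ X) := hTp.toSylow (by
    rw [hTidx, ← even_iff_two_dvd, Nat.not_even_iff_odd]; exact hQodd)
  have hTS : (TS : Subgroup (M ⧸ X)) = T := IsPGroup.toSylow_coe _ _
  have hTsq : ∀ c ∈ T, c * c = 1 := by
    rintro _ ⟨q, hq, rfl⟩
    rw [← map_mul, show q * q = 1 from Subtype.ext (F.q8_sq hq), map_one]
  have hTcomm : ∀ c ∈ T, ∀ d ∈ T, Commute c d := by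
    rintro _ ⟨q, hq, rfl⟩ _ ⟨q', hq', rfl⟩
    exact Commute.map (show Commute q q' from Subtype.ext (F.q8_comm hq hq')) π
  -- centralizers of involutions of the quotient
  have hcent_z : ∀ c : M ⧸ X, Commute c (π zM) → c ∈ T := by
    intro c hc
    obtain ⟨k, rfl⟩ := hπs c
    have h1 : π (k * zM * k⁻¹ * zM⁻¹) = 1 := by
      rw [map_mul, map_mul, map_mul, map_inv, map_inv, hc.eq, mul_inv_cancel_right, mul_inv_cancel]
    rw [QuotientGroup.mk'_apply, QuotientGroup.eq_one_iff] at h1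
    have h2 : k * zM * k⁻¹ = zM := by
      rcases hmemX _ h1 with h | h
      · exact mul_inv_eq_one.mp h
      · exfalso
        rw [mul_inv_eq_iff_eq_mul] at h
        have h' : k.1.1 * F.toEmb.t * (k.1.1)⁻¹ = F.ι 14 * F.ι 1 :=
          congrArg (fun y : M => ((y : F.toEmb.cx) : G)) h
        rw [← F.hom, q_basic.1] at h'
        exact hc_cl 15 cx_facts.1 (isConj_iff.mpr ⟨_, h'⟩)
    refine ⟨k, ?_, rfl⟩
    show k.1 ∈ F.q8
    rw [← hMQ]
    refine Subgroup.mem_inf.mpr ⟨k.2, ?_⟩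
    rw [Subgroup.mem_subgroupOf, Subgroup.mem_centralizer_singleton_iff]
    exact congrArg (fun y : M => ((y : F.toEmb.cx) : G)) (mul_inv_eq_iff_eq_mul.mp h2)
  have hTinv : ∀ c ∈ T, c ≠ 1 → ∃ h : M ⧸ X, h * c * h⁻¹ = π zM := by
    rintro _ ⟨q, hq, rfl⟩ hne
    obtain ⟨b, hb14, hb2, hbe⟩ := F.mem_q8.mp hq
    have hz : π vM = π aM⁻¹ * π zM * (π aM⁻¹)⁻¹ := by
      rw [← map_inv, ← map_mul, ← map_mul]
      congr 1
      rw [← e3]; group
    have hw : π wM = π aM * π zM * (π aM)⁻¹ := by rw [← map_inv, ← map_mul, ← map_mul, e1]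
    have key : π q = π zM ∨ π q = π wM ∨ π q = π vM := by
      have hq0 : ∀ {j : Fin 192} (y : M), ((y : F.toEmb.cx) : G) = F.ι j → b = j → q = y :=
        fun y hy hbj => Subtype.ext (Subtype.ext (by rw [hy, ← hbj, hbe]; rfl))
      have hq1 : ∀ {j : Fin 192} (y : M), ((y : F.toEmb.cx) : G) = F.ι j → b = m 14 j → π q = π y := by
        intro j y hy hbj
        have : q = xM * y := Subtype.ext (Subtype.ext (by
          show (q : F.toEmb.cx).1 = F.ι 14 * ((y : F.toEmb.cx) : G)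
          rw [hy, ← F.hom, ← hbj, hbe]; rfl))
        rw [this, map_mul, hπx, one_mul]
      rcases (q_sub b hb14 hb2).2.1 with e | e | e | e | e | e | e | e
      · exfalso
        apply hne
        rw [hq0 1 F.toEmb.ι_zero.symm e, map_one]
      · exact Or.inl (congrArg π (hq0 zM rfl e))
      · exact Or.inr (Or.inl (congrArg π (hq0 wM rfl e)))
      · exact Or.inr (Or.inr (congrArg π (hq0 vM rfl e)))
      · exfalso
        apply hne
        rw [hq1 1 F.toEmb.ι_zero.symm e, map_one]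
      · exact Or.inl (hq1 zM rfl e)
      · exact Or.inr (Or.inl (hq1 wM rfl e))
      · exact Or.inr (Or.inr (hq1 vM rfl e))
    rcases key with e | e | e
    · exact ⟨1, by rw [e, one_mul, inv_one, mul_one]⟩
    · exact ⟨(π aM)⁻¹, by rw [e, hw]; group⟩
    · exact ⟨(π aM⁻¹)⁻¹, by rw [e, hz]; group⟩
  have hC : ∀ i : M ⧸ X, orderOf i = 2 →
      IsMulCommutative (Subgroup.centralizer ({i} : Set (M ⧸ X))) ∧
      ∀ c ∈ Subgroup.centralizer ({i} : Set (M ⧸ X)), c ^ 2 = 1 := by
    intro i hi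
    have hzi : IsPGroup 2 (Subgroup.zpowers i) :=
      IsPGroup.of_card (n := 1) (by rw [Nat.card_zpowers, hi]; norm_num)
    obtain ⟨R, hR⟩ := hzi.exists_le_sylow
    obtain ⟨k, hk⟩ := MulAction.exists_smul_eq (M ⧸ X) R TS
    have hmem : k * i * k⁻¹ ∈ T := by
      rw [← hTS, ← hk, Sylow.coe_subgroup_smul]
      exact Subgroup.smul_mem_pointwise_smul i (MulAut.conj k) _ (hR (Subgroup.mem_zpowers i))
    obtain ⟨h, hh⟩ := hTinv _ hmem (fun h1 => H65.ne_one_of_two hi (conj_eq_one_iff.mp h1))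
    have hconj : ∀ c ∈ Subgroup.centralizer ({i} : Set (M ⧸ X)), (h * k) * c * (h * k)⁻¹ ∈ T := by
      intro c hc
      apply hcent_z
      rw [← hh, show h * (k * i * k⁻¹) * h⁻¹ = (h * k) * i * (h * k)⁻¹ by group]
      exact (Commute.conj_iff _).mpr (Subgroup.mem_centralizer_singleton_iff.mp hc)
    refine ⟨⟨⟨fun c d => Subtype.ext ?_⟩⟩, fun c hc => ?_⟩
    · have := hTcomm _ (hconj _ c.2) _ (hconj _ d.2)
      exact (Commute.conj_iff _).mp this
    · rw [pow_two]
      have := hTsq _ (hconj c hc)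
      rw [show (h * k) * c * (h * k)⁻¹ * ((h * k) * c * (h * k)⁻¹) = (h * k) * (c * c) * (h * k)⁻¹ by group,
        conj_eq_one_iff] at this
      exact this
  have hncyc : ¬ IsCyclic (TS : Subgroup (M ⧸ X)) := by
    rw [hTS]
    intro hcyc
    obtain ⟨g, hg⟩ := hcyc.exists_generator
    have h4 : orderOf g = 4 := by
      rw [← hTcard]
      exact orderOf_eq_card_of_forall_mem_zpowers hg
    have : orderOf g ∣ 2 := orderOf_dvd_of_pow_eq_one (by
      rw [pow_two]; exact Subtype.ext (hTsq _ g.2))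
    rw [h4] at this
    omega
  have hnn : ¬ (TS : Subgroup (M ⧸ X)).Normal := by
    rw [hTS]
    intro hn
    refine F.solvable_local_false hM2 hsM hzM hMQ fun k hk => ?_
    have hmem : π (⟨k, hk⟩ * zM * (⟨k, hk⟩ : M)⁻¹) ∈ T := by
      rw [map_mul, map_mul, map_inv]
      exact hn.conj_mem _ ⟨zM, F.inCx_mem_q8 1 Frame.hx1 (by decide +kernel), rfl⟩ _
    obtain ⟨q, hq, hqe⟩ := hmem
    have h1 : q⁻¹ * (⟨k, hk⟩ * zM * (⟨k, hk⟩ : M)⁻¹) ∈ X := QuotientGroup.eq.mp hqe
    have h2 := Q.mul_mem hq (hXQ h1)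
    rw [mul_inv_cancel_left] at h2
    exact h2
  obtain ⟨K0, hK0f, hK0t, hcardF, ⟨e⟩⟩ := Cfsg.Agent.S1230.result TS hncyc hnn hC
  obtain ⟨e'⟩ := H37.PSL2_four_mulEquiv_alternating (F := K0) (by
    rw [Nat.card_eq_fintype_card]
    refine hcardF.trans ?_
    show Nat.card (TS : Subgroup (M ⧸ X)) = 4
    rw [hTS, hTcard])
  let ψ : M ⧸ X ≃* alternatingGroup (Fin 5) := e.trans e'
  -- the commutator subgroup
  set D : Subgroup M := commutator M with hD
  have hperf : commutator (M ⧸ X) = ⊤ := by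
    have h5 : commutator (alternatingGroup (Fin 5)) = ⊤ := by
      haveI := (alternatingGroup.isSimpleGroup (α := Fin 5) (by simp))
      rcases (Subgroup.commutator_normal (⊤ : Subgroup (alternatingGroup (Fin 5))) ⊤).eq_bot_or_eq_top
        with h | h
      · exfalso
        rw [Subgroup.commutator_eq_bot_iff_le_centralizer] at h
        have := h (Subgroup.mem_top ⟨Equiv.swap 0 1 * Equiv.swap 1 2, by simp [Equiv.Perm.sign_swap]⟩)
        have := Subgroup.mem_centralizer_iff.mp this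
          ⟨Equiv.swap 0 1 * Equiv.swap 2 3, by simp [Equiv.Perm.sign_swap]⟩ (Subgroup.mem_top _)
        exact absurd (congrArg Subtype.val this) (by decide +kernel)
      · exact h
    have := Subgroup.map_commutator (⊤ : Subgroup (alternatingGroup (Fin 5))) ⊤ ψ.symm.toMonoidHom
    rw [Subgroup.map_top_of_surjective _ ψ.symm.surjective] at this
    change commutator (M ⧸ X) = ⊤
    rw [commutator_def, ← this, ← commutator_def, h5]
    exact Subgroup.map_top_of_surjective _ ψ.symm.surjective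
  have hDsurj : D.map π = ⊤ := by
    rw [hD, commutator_def, Subgroup.map_commutator, Subgroup.map_top_of_surjective _ hπs,
      ← commutator_def, hperf]
  have hxD : xM ∉ D := by
    intro h
    let QS : Sylow 2 M := (IsPGroup.of_card (n := 3) (p := 2) (by rw [hQcard]; norm_num) :
      IsPGroup 2 Q).toSylow (by rw [← even_iff_two_dvd, Nat.not_even_iff_odd]; exact hQodd)
    have hQS : (QS : Subgroup M) = Q := IsPGroup.toSylow_coe _ _
    refine hx1 (H70.eq_one_of_mem_commutator_of_fixed QS ?_ ?_ h ?_)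
    · refine ⟨⟨fun c d => Subtype.ext (Subtype.ext ?_)⟩⟩
      have hc : (c : M) ∈ Q := by rw [← hQS]; exact c.2
      have hd : (d : M) ∈ Q := by rw [← hQS]; exact d.2
      exact F.q8_comm hc hd
    · rw [hQS]; exact hXQ (Subgroup.mem_zpowers _)
    · intro n _
      rw [Subgroup.mem_center_iff.mp hxc n, mul_inv_cancel_right]
  have hDinj : ∀ k ∈ D, π k = 1 → k = 1 := by
    intro k hk h1
    rw [QuotientGroup.mk'_apply, QuotientGroup.eq_one_iff] at h1
    rcases hmemX k h1 with h | h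
    · exact h
    · exact absurd (h ▸ hk) hxD
  have hdec : ∀ k : M, k ∈ D ∨ k * xM ∈ D := by
    intro k
    have : π k ∈ D.map π := hDsurj ▸ Subgroup.mem_top _
    obtain ⟨d, hd, hde⟩ := this
    have h1 : d⁻¹ * k ∈ X := QuotientGroup.eq.mp hde
    rcases hmemX _ h1 with h | h
    · exact Or.inl (inv_mul_eq_one.mp h ▸ hd)
    · right
      rwa [show k = d * xM by rw [← h, mul_inv_cancel_left], mul_assoc, hx2, mul_one]
  have haD : aM ∈ D := (hdec aM).resolve_right fun h =>
    mem_of_mul_invol (H := M) (Subtype.ext (Subtype.ext F.a_cube)) hx2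
      (Subgroup.mem_center_iff.mp hxc aM) hxD h
  have hvD : vM ∈ D := by
    have hz : aM * zM * aM⁻¹ * zM⁻¹ = vM := by
      rw [e1]
      apply Subtype.ext; apply Subtype.ext
      show F.ι 2 * (F.ι 1)⁻¹ = F.ι 3
      rw [← F.toEmb.ι_inv, ← F.hom]
      exact congrArg F.ι (by decide +kernel)
    rw [← hz]
    exact Subgroup.commutator_mem_commutator (Subgroup.mem_top _) (Subgroup.mem_top _)
  haveI hDn : D.Normal := Subgroup.commutator_normal _ _
  have hzD : zM ∈ D := e3 ▸ hDn.conj_mem _ hvD _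
  have hwD : wM ∈ D := e1 ▸ hDn.conj_mem _ hzD _
  -- transport to the centralizer of 14
  set K : Subgroup F.toEmb.cx := D.map M.subtype with hK
  have hKn : K.Normal := by
    rw [hK, hD, commutator_def, Subgroup.map_commutator, ← MonoidHom.range_eq_map, Subgroup.range_subtype]
    exact Subgroup.commutator_normal M M
  let ι0 : D ≃* K := Subgroup.equivMapOfInjective D M.subtype M.subtype_injective
  let Φ : K →* Five.P5 := (alternatingGroup (Fin 5)).subtype.comp
    (ψ.toMonoidHom.comp (π.comp (D.subtype.comp ι0.symm.toMonoidHom)))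
  refine ⟨K, Φ, hKn, ?_, ?_, ⟨zM, hzD, rfl⟩, ⟨wM, hwD, rfl⟩, ⟨aM, haD, rfl⟩, ?_⟩
  · rw [← MonoidHom.ker_eq_bot_iff, Subgroup.eq_bot_iff_forall]
    intro k hk
    have h1 : π ((ι0.symm k : D) : M) = 1 :=
      ψ.injective (by rw [map_one]; exact Subtype.ext hk)
    have h2 : ι0.symm k = 1 := Subtype.ext (hDinj _ (ι0.symm k).2 h1)
    exact ι0.symm.injective (by rw [h2, map_one])
  · intro σ
    constructor
    · intro hσ
      have hm : ψ.symm ⟨σ, Equiv.Perm.mem_alternatingGroup.mpr hσ⟩ ∈ D.map π := hDsurj ▸ Subgroup.mem_top _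
      obtain ⟨d, hd, hde⟩ := hm
      refine ⟨ι0 ⟨d, hd⟩, ?_⟩
      show ((ψ (π ((ι0.symm (ι0 ⟨d, hd⟩) : D) : M))) : Five.P5) = σ
      rw [MulEquiv.symm_apply_apply, hde, MulEquiv.apply_symm_apply]
    · rintro ⟨k, rfl⟩
      exact Equiv.Perm.mem_alternatingGroup.mp (ψ _).2
  · intro c
    have hsP : F.sC ∈ F.toEmb.px := F.toEmb.inCx_mem 32 _
    have hxP : F.xC ∈ F.toEmb.px := F.toEmb.inCx_mem 14 _
    have hM' : ∀ k : M, ∃ d ∈ K, ∃ p ∈ F.toEmb.px, (k : F.toEmb.cx) = d * p := by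
      intro k
      rcases hdec k with h | h
      · exact ⟨_, ⟨k, h, rfl⟩, 1, one_mem _, (mul_one _).symm⟩
      · refine ⟨_, ⟨k * xM, h, rfl⟩, F.xC, hxP, ?_⟩
        show (k : F.toEmb.cx) = (k : F.toEmb.cx) * F.xC * F.xC
        rw [mul_assoc, show F.xC * F.xC = 1 from congrArg Subtype.val hx2, mul_one]
    by_cases hc : c ∈ M
    · exact hM' ⟨c, hc⟩
    · obtain ⟨d, hd, p, hp, he⟩ := hM' ⟨c * F.sC,
        (Subgroup.mul_mem_iff_of_index_two hM2).mpr (iff_of_false hc hsM)⟩
      exact ⟨d, hd, p * F.sC⁻¹, mul_mem hp (inv_mem hsP), by rw [← mul_assoc, ← he, mul_inv_cancel_right]⟩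

end Frame

end H78.MTwelve
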