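import Cfsg.Agent.H78.MTwelve.InstanceFacts
import Cfsg.Agent.H78.MTwelve.Emb
import Cfsg.Agent.H97.MathieuOut
import Cfsg.Agent.H90.Simple
import Cfsg.Prelude.Def_SporadicB

/-! The table is the centralizer of a 2-central involution of M12. -/

set_option autoImplicit false
set_option linter.style.haveILetI false

namespace H78.MTwelve

open Cfsg
open scoped Pointwise

theorem central_small : ∀ a : Fin 192, ¬ a.val < 64 → ¬ ∀ b : Fin 192, m a b = m b a := by
  decide +kernel

theorem M12_isSimple : IsSimpleGroup Spor.M12 := by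
  haveI := H90.dodecad_stab_simple H87.squareDodecad_mem
  let e : Spor.M12 ≃* MulAction.stabilizer M24 Spor.squareDodecad :=
    { toFun := fun g => ⟨⟨g.1, g.2.1⟩, g.2.2⟩
      invFun := fun g => ⟨g.1.1, g.1.2, g.2⟩
      left_inv := fun _ => rfl
      right_inv := fun _ => rfl
      map_mul' := fun _ _ => rfl }
  haveI : Nontrivial Spor.M12 := e.toEquiv.nontrivial
  exact IsSimpleGroup.isSimpleGroup_of_surjective e.symm.toMonoidHom e.symm.surjective

theorem exists_perm {p : ℕ} (h : H87.mem12 p = true)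
    (hc : H90.packAux (fun i => H90.img p i) 24 = p) : ∃ σ : Spor.M12, H97.MOut.code σ.1 = p := by
  obtain ⟨σ, hσ⟩ := H87.exists_of_mem12 h
  exact ⟨σ, (H97.MOut.code_of_repr hσ).trans hc⟩

theorem exists_letter {i : Nat} (h : isTab i = true) :
    ∃ σ : Spor.M12, H97.MOut.code σ.1 = elCode (letter i) := by
  have hmem : (letter i).val ∈ [2, 14, 32, 85, 16, 41, 167] := by
    rcases (show i = 0 ∨ i = 1 ∨ i = 2 ∨ i = 3 ∨ i = 4 ∨ i = 5 ∨ i = 8 ∨ i = 6 ∨ i = 7 ∨ i = 9 ∨ 10 ≤ i by omega)
      with rfl | rfl | rfl | rfl | rfl | rfl | rfl | rfl | rfl | rfl | h'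
    all_goals first
      | decide +kernel
      | exact absurd h (by decide +kernel)
      | (exfalso
         rw [isTab, List.getD_eq_default _ _ (by simpa [letters] using h')] at h
         exact absurd h (by decide))
  have e : mk192 (letter i).val = letter i := Fin.ext (Nat.mod_eq_of_lt (letter i).isLt)
  refine exists_perm ?_ ?_
  · have := List.all_eq_true.mp el_mem _ hmem
    rwa [e] at this
  · have := List.all_eq_true.mp codes_canonical (elCode (mk192 (letter i).val))
      (List.mem_append_right _ (List.mem_map.mpr ⟨_, hmem, rfl⟩))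
    rw [e, beq_iff_eq] at this
    exact this

/-- The permutation of a letter. -/
noncomputable def letterPerm (i : Nat) : Spor.M12 :=
  if h : isTab i = true then (exists_letter h).choose else 1

theorem code_letterPerm {i : Nat} (h : isTab i = true) :
    H97.MOut.code (letterPerm i).1 = elCode (letter i) := by
  rw [letterPerm, dif_pos h]
  exact (exists_letter h).choose_spec

/-- The permutation of a table element. -/
noncomputable def ιM (a : Fin 192) : Spor.M12 :=
  (wordsL.getD a.val []).foldl (fun acc i => acc * letterPerm i) 1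

theorem code_fold : ∀ (w : List Nat) (σ : Spor.M12) (x : Fin 192), w.all isTab = true →
    H97.MOut.code σ.1 = elCode x →
    H97.MOut.code (w.foldl (fun acc i => acc * letterPerm i) σ).1 =
      elCode (w.foldl (fun acc i => m acc (letter i)) x) := by
  intro w
  induction w with
  | nil => intro σ x _ h; exact h
  | cons i w ih =>
    intro σ x hw h
    rw [List.all_cons, Bool.and_eq_true] at hw
    refine ih _ _ hw.2 ?_
    have hmem : (letter i).val ∈ [2, 14, 32, 85, 16, 41, 167] := by
      have := hw.1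
      rcases (show i = 0 ∨ i = 1 ∨ i = 2 ∨ i = 3 ∨ i = 4 ∨ i = 5 ∨ i = 8 ∨ i = 6 ∨ i = 7 ∨ i = 9 ∨ 10 ≤ i by omega)
        with rfl | rfl | rfl | rfl | rfl | rfl | rfl | rfl | rfl | rfl | h'
      all_goals first
        | decide +kernel
        | exact absurd this (by decide +kernel)
        | (exfalso
           rw [isTab, List.getD_eq_default _ _ (by simpa [letters] using h')] at this
           exact absurd this (by decide))
    have e : mk192 (letter i).val = letter i := Fin.ext (Nat.mod_eq_of_lt (letter i).isLt)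
    have hs := List.all_eq_true.mp (el_step x) _ hmem
    rw [e, beq_iff_eq] at hs
    rw [hs, Subgroup.coe_mul, H97.MOut.code_mul, h, code_letterPerm hw.1]

theorem code_ιM (a : Fin 192) : H97.MOut.code (ιM a).1 = elCode a := by
  have h := code_fold _ 1 0 (wordsL_spec a).1 (by
    rw [el_zero]; exact H97.MOut.code_one)
  rw [word_fold, (m_zero a).1] at h
  exact h

theorem foldl_eq_mul : ∀ (w : List Nat) (σ : Spor.M12),
    w.foldl (fun acc i => acc * letterPerm i) σ =
      σ * w.foldl (fun acc i => acc * letterPerm i) 1 := by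
  intro w
  induction w with
  | nil => intro σ; simp
  | cons i w ih => intro σ; rw [List.foldl_cons, List.foldl_cons, ih, ih (1 * _), one_mul, mul_assoc]

theorem ιM_hom (a b : Fin 192) : ιM (m a b) = ιM a * ιM b := by
  apply Subtype.ext
  apply H97.MOut.code_inj
  have h := code_fold _ (ιM a) a (wordsL_spec b).1 (code_ιM a)
  rw [foldl_eq_mul, word_fold] at h
  rw [code_ιM]
  exact h.symm

theorem ιM_inj : Function.Injective ιM := fun a b h =>
  el_inj a b (by rw [← code_ιM, ← code_ιM, h])

theorem gen_perm (k : Fin 3) : ∃ σ : Spor.M12, H97.MOut.code σ.1 = genCodes.getD k.val 0 ∧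
    H97.MOut.code (σ⁻¹).1 = genInvCodes.getD k.val 0 := by
  have hm := List.all_eq_true.mp gen_mem
  have hc : ∀ p ∈ genCodes ++ genInvCodes, H90.packAux (fun i => H90.img p i) 24 = p := fun p hp => by
    have := List.all_eq_true.mp codes_canonical p (List.mem_append_left _ hp)
    rwa [beq_iff_eq] at this
  have h1 : genCodes.getD k.val 0 ∈ genCodes ++ genInvCodes := by fin_cases k <;> decide
  have h2 : genInvCodes.getD k.val 0 ∈ genCodes ++ genInvCodes := by fin_cases k <;> decide
  obtain ⟨σ, hσ⟩ := exists_perm (hm _ h1) (hc _ h1)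
  obtain ⟨τ, hτ⟩ := exists_perm (hm _ h2) (hc _ h2)
  have e : σ * τ = 1 := Subtype.ext (H97.MOut.code_inj (by
    rw [Subgroup.coe_mul, H97.MOut.code_mul, hσ, hτ, gen_inv, Subgroup.coe_one, H97.MOut.code_one]))
  exact ⟨σ, hσ, by rw [← eq_inv_of_mul_eq_one_right e]; exact hτ⟩

theorem exists_conjugate : ∀ i : Fin 495, ∃ k : Spor.M12,
    H97.MOut.code (k * ιM 1 * k⁻¹).1 = orbCode i.val := by
  intro i
  obtain ⟨n, hn⟩ := i
  induction n using Nat.strong_induction_on with
  | h n ih =>
    by_cases h0 : n = 0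
    · exact ⟨1, by subst h0; rw [one_mul, inv_one, mul_one, code_ιM, orb_zero]⟩
    · obtain ⟨hp, hk, he⟩ := orb_step ⟨n, hn⟩ h0
      obtain ⟨k, hkc⟩ := ih _ hp (hp.trans hn)
      obtain ⟨σ, hσ, hσi⟩ := gen_perm ⟨_, hk⟩
      refine ⟨σ * k, ?_⟩
      rw [he, show σ * k * ιM 1 * (σ * k)⁻¹ = σ * (k * ιM 1 * k⁻¹) * σ⁻¹ by group,
        Subgroup.coe_mul, Subgroup.coe_mul, H97.MOut.code_mul, H97.MOut.code_mul, hσ, hkc, hσi]

theorem ιM_commute (a : Fin 192) : Commute (ιM a) (ιM 1) := by
  show ιM a * ιM 1 = ιM 1 * ιM a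
  rw [← ιM_hom, ← ιM_hom, m_one_comm]

theorem ιM_range (g : Spor.M12) (hg : Commute g (ιM 1)) : ∃ a, ιM a = g := by
  classical
  let C := Subgroup.centralizer ({ιM 1} : Set Spor.M12)
  choose k hk using exists_conjugate
  have hs : ∀ i : Fin 494, sortTree.get 9 i.val < 495 := fun i => (orb_sorted i).1
  have hs' : ∀ i : Fin 495, sortTree.get 9 i.val < 495 := fun i => by
    by_cases h : i.val < 494
    · exact (orb_sorted ⟨i.val, h⟩).1
    · have : i.val = 493 + 1 := by omega
      rw [this]
      exact (orb_sorted ⟨493, by norm_num⟩).2.1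
  have hmono : StrictMono fun i : Fin 495 => orbCode (sortTree.get 9 i.val) :=
    Fin.strictMono_iff_lt_succ.mpr fun i => (orb_sorted i).2.2
  let f : Fin 495 × C → Spor.M12 := fun p => k ⟨_, hs' p.1⟩ * p.2.1
  have hinj : Function.Injective f := by
    rintro ⟨i, c⟩ ⟨j, d⟩ h
    have e : ∀ (i : Fin 495) (c : C), H97.MOut.code (f (i, c) * ιM 1 * (f (i, c))⁻¹).1 =
        orbCode (sortTree.get 9 i.val) := fun i c => by
      rw [show f (i, c) * ιM 1 * (f (i, c))⁻¹ =
        k ⟨_, hs' i⟩ * (c.1 * ιM 1 * (c.1)⁻¹) * (k ⟨_, hs' i⟩)⁻¹ by simp only [f]; group,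
        (Subgroup.mem_centralizer_singleton_iff.mp c.2 : c.1 * ιM 1 = ιM 1 * c.1), mul_inv_cancel_right]
      exact hk _
    have hij : i = j := hmono.injective (by show orbCode _ = orbCode _; rw [← e i c, ← e j d, h])
    subst hij
    exact Prod.ext rfl (Subtype.ext (mul_left_cancel h))
  have hle := Nat.card_le_card_of_injective f hinj
  rw [Nat.card_prod, Nat.card_fin, H87.natCard_M12] at hle
  let φ : Fin 192 → C := fun a => ⟨ιM a, Subgroup.mem_centralizer_singleton_iff.mpr (ιM_commute a)⟩
  have φinj : Function.Injective φ := fun a b h => ιM_inj (congrArg Subtype.val h)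
  have hsurj : Function.Surjective φ := by
    have hcard : Nat.card C ≤ Nat.card (Fin 192) := by rw [Nat.card_fin]; omega
    have := Fintype.ofFinite C
    refine ((Fintype.bijective_iff_injective_and_card φ).mpr ⟨φinj, ?_⟩).2
    have h1 := Nat.card_le_card_of_injective φ φinj
    rw [← Nat.card_eq_fintype_card, ← Nat.card_eq_fintype_card]
    omega
  obtain ⟨a, ha⟩ := hsurj ⟨g, Subgroup.mem_centralizer_singleton_iff.mpr hg⟩
  exact ⟨a, congrArg Subtype.val ha⟩

/-- The model inside M12. -/
noncomputable def embM : Emb Spor.M12 where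
  ι := ιM
  inj := ιM_inj
  hom := ιM_hom
  range := ιM_range

theorem isConj_of_twoCentral {u : Spor.M12} (hu : IsTwoCentralInvolution u) : IsConj u (ιM 1) := by
  haveI : Fact (Nat.Prime 2) := ⟨Nat.prime_two⟩
  obtain ⟨hu2, P, huP, hcen⟩ := hu
  obtain ⟨S, hS⟩ := embM.exists_sylow
  obtain ⟨k, hk⟩ := MulAction.exists_smul_eq Spor.M12 P S
  have hmem : ∀ x, x ∈ P → k * x * k⁻¹ ∈ embM.sylowSub := fun x hx => by
    rw [← hS, ← hk, Sylow.coe_subgroup_smul]
    exact Subgroup.smul_mem_pointwise_smul x (MulAut.conj k) _ hx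
  have hback : ∀ y, y ∈ embM.sylowSub → k⁻¹ * y * k ∈ P := fun y hy => by
    rw [← hS, ← hk, Sylow.coe_subgroup_smul] at hy
    obtain ⟨x, hx, rfl⟩ := hy
    simpa [mul_assoc] using hx
  obtain ⟨a, ha, hae⟩ := hmem u huP
  have hc : ∀ b : Fin 192, b.val < 64 → m a b = m b a := fun b hb => by
    have h := hcen _ (hback _ ⟨b, hb, rfl⟩)
    rw [← embM.commute_iff, hae]
    have h' : Commute (k⁻¹ * embM.ι b * k) u := h
    have := (Commute.conj_iff k).mpr h'.symm
    rwa [show k * (k⁻¹ * embM.ι b * k) * k⁻¹ = embM.ι b by group] at this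
  rcases sylow_center a ha hc with rfl | rfl
  · rw [embM.ι_zero, eq_comm, conj_eq_one_iff] at hae
    exact absurd hae (H65.ne_one_of_two hu2)
  · exact isConj_iff.mpr ⟨k, hae.symm⟩

end H78.MTwelve
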