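import Cfsg.Agent.H78.MTwelve.CertCheck
import Cfsg.Agent.H78.MTwelve.Facts

/-! Letters of the coset enumeration inside the table. -/

set_option autoImplicit false
set_option maxRecDepth 20000

namespace H78.MTwelve

/-- The table values of the letters; 192 marks a letter outside the table. -/
def letters : List Nat := [2, 14, 32, 85, 16, 41, 192, 192, 167, 192]

/-- Whether a letter is in the table. -/
def isTab (i : Nat) : Bool := decide (letters.getD i 192 < 192)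

/-- The table value of a letter. -/
def letter (i : Nat) : Fin 192 := mk192 (letters.getD i 0)

/-- The table value of a word. -/
def tabWord : List Nat → Fin 192
  | [] => 0
  | i :: w => m (letter i) (tabWord w)

def wordsL : List (List Nat) := [[], [0, 2, 0, 2], [0], [2, 0, 2], [3, 0, 8], [0, 1, 2, 5], [1, 5, 2], [1, 2, 5], [5, 2], [2, 5], [0, 5, 2], [0, 2, 5], [0, 1], [4, 1, 4], [1], [5, 1, 5], [4], [4, 2, 5], [2, 4, 2], [0, 1, 4, 1], [0, 4], [0, 4, 2, 5], [0, 2, 4, 2], [1, 4, 1], [3, 0, 8, 4], [0, 1, 4], [4, 1], [2, 4, 1, 2], [1, 4, 2, 5], [1, 4], [0, 4, 1], [1, 2, 4, 2], [2], [0, 2, 0], [2, 0], [0, 2], [0, 1, 5], [0, 5, 1], [5, 1], [1, 5], [0, 5, 0], [5], [0, 5], [5, 0], [1, 2, 0], [0, 1, 2], [1, 2], [0, 1, 2, 0], [2, 4], [0, 4, 2, 0], [4, 2], [0, 2, 0, 4], [2, 0, 4], [0, 4, 2], [4, 2, 0], [0, 2, 4], [0, 1, 4, 2], [4, 1,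 5], [2, 4, 1], [4, 1, 2], [5, 1, 4], [1, 2, 4], [0, 4, 1, 5], [1, 4, 2], [1, 5, 3, 4], [0, 3, 4, 1], [0, 2, 3, 4], [1, 4, 8], [2, 3, 0, 4], [3, 4, 1], [2, 3, 4], [0, 1, 4, 8], [3, 0, 4], [4, 2, 8], [3, 4], [0, 4, 8, 5], [0, 4, 2, 8], [0, 3, 0, 4], [4, 8, 5], [0, 3, 4], [1, 5, 3], [3, 0], [0, 5, 3, 2], [5, 1, 3], [0, 2, 3], [3], [0, 2, 0, 2, 3], [2, 0, 3], [2, 3, 0], [5, 3, 2], [0, 3, 0], [0, 5, 1, 3], [2, 3], [2, 0, 2, 3], [0, 3], [0, 2, 0, 3], [0, 5, 3, 4], [0, 4, 8, 0], [3, 2, 4], [0, 4, 8], [5, 3, 4], [4, 8, 0], [0, 3, 2, 4], [4, 8], [4, 8, 1], [0, 8, 4, 3], [2, 4, 8], [1, 4, 8, 5], [8, 4, 3], [0, 4, 8, 1], [2, 0, 4, 8], [1, 3, 4], [0, 5, 3], [3, 5, 0], [2, 5, 3], [3, 0, 2], [3, 2], [3, 5], [2, 0, 3, 2], [0, 2, 3, 5], [5, 3], [0, 2, 5, 3], [1, 3, 0], [0, 3, 0, 2], [0, 3, 2], [5, 1, 5, 3], [1, 3], [2, 3, 5], [8, 5, 1], [8, 1,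 5], [0, 1, 8], [2, 0, 8, 1], [1, 8, 0], [5, 2, 8], [1, 8], [5, 0, 8, 5], [0, 2, 0, 8], [2, 8], [4, 3, 4], [0, 8, 5], [0, 2, 8], [2, 0, 8], [8, 5], [0, 4, 3, 4], [4, 1, 5, 3], [4, 3, 0], [2, 8, 4], [3, 4, 8], [0, 1, 8, 4], [4, 3], [0, 8, 4, 2], [1, 4, 3, 2], [1, 8, 0, 4], [0, 2, 8, 4], [0, 4, 3, 0], [0, 3, 4, 8], [1, 8, 4], [8, 4, 2], [0, 4, 3], [3, 0, 4, 8], [2, 8, 5], [0, 8, 0], [2, 0, 2, 8], [0, 8], [0, 2, 8, 5], [8, 0], [0, 2, 0, 2, 8], [8], [8, 1], [8, 5, 1, 5], [5, 8], [0, 5, 0, 8], [1, 2, 0, 8], [0, 8, 1], [5, 0, 8], [0, 5, 8], [0, 2, 4, 3], [8, 1, 4], [1, 4, 3, 0], [0, 8, 0, 4], [4, 3, 2], [4, 3, 5], [1, 4, 3], [0, 8, 4], [2, 4, 3], [0, 1, 4, 3, 0], [0, 8, 1, 4], [8, 0, 4], [0, 4, 3, 2], [0, 1, 4, 3], [4, 1, 3], [8, 4]]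

theorem wordsL_spec : ∀ a : Fin 192,
    (wordsL.getD a.val []).all isTab = true ∧
    (wordsL.getD a.val []).all (fun i => cert.gens.contains i || i == 8) = true ∧
    tabWord (wordsL.getD a.val []) = a := by decide +kernel

/-- Relators inside the table. -/
theorem tabRels_spec : ∀ w ∈ cert.rels, w.all isTab = true → tabWord w = 0 := by decide +kernel

/-- Relators leaving the table. -/
def mixedRels : List (List Nat) := [[6, 6], [7, 9], [9, 7], [6, 0, 6, 2, 0, 2, 0], [6, 5, 2, 6, 5, 2, 4, 1], [6, 1, 6, 1], [6, 6], [6, 2, 6, 2, 6, 2], [6, 3, 0, 8, 6, 2, 4, 2], [6, 4, 6, 4], [3, 7, 8, 9], [7, 7, 7], [2, 7, 2, 9], [0, 6, 2, 7, 0, 6, 2, 7], [1, 7, 1, 9], [0, 2, 0, 2, 7, 0, 2, 0, 2, 7]]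

theorem rels_split : ∀ w ∈ cert.rels, w.all isTab = true ∨ w ∈ mixedRels := by decide +kernel

end H78.MTwelve
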