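import Cfsg.Agent.H78.MTwelve.InstanceData
import Cfsg.Agent.H78.MTwelve.Letters
import Cfsg.Agent.H87.MathieuCert

/-! Checks on the permutation codes. -/

set_option autoImplicit false
set_option maxRecDepth 20000

namespace H78.MTwelve

/-- The code of a table element. -/
def elCode (a : Fin 192) : Nat := elTree.get 8 a.val

/-- The code of a conjugate. -/
def orbCode (i : Nat) : Nat := orbTree.get 9 i

theorem el_mem : ([2, 14, 32, 85, 16, 41, 167].all fun a : Nat => H87.mem12 (elCode (mk192 a))) = true := by
  decide +kernel

theorem gen_mem : ((genCodes ++ genInvCodes).all H87.mem12) = true := by decide +kernel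

theorem codes_canonical : ((genCodes ++ genInvCodes ++
    [2, 14, 32, 85, 16, 41, 167].map fun a : Nat => elCode (mk192 a)).all fun p =>
      H90.packAux (fun i => H90.img p i) 24 == p) = true := by decide +kernel

theorem el_zero : elCode 0 = H90.idN := by decide +kernel

theorem el_step : ∀ a : Fin 192, ([2, 14, 32, 85, 16, 41, 167].all fun g : Nat =>
    elCode (m a (mk192 g)) == H90.compN (elCode a) (elCode (mk192 g))) = true := by decide +kernel

theorem el_inj : ∀ a : Fin 192, ∀ b : Fin 192, elCode a = elCode b → a = b := by decide +kernel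

theorem word_fold : ∀ a : Fin 192, ∀ b : Fin 192,
    (wordsL.getD b.val []).foldl (fun acc i => m acc (letter i)) a = m a b := by decide +kernel

theorem orb_zero : orbCode 0 = elCode 1 := by decide +kernel

theorem orb_step : ∀ i : Fin 495, i.val ≠ 0 →
    (stepTree.get 9 i.val >>> 2) < i.val ∧ (stepTree.get 9 i.val &&& 3) < 3 ∧
    orbCode i.val = H90.compN (H90.compN (genCodes.getD (stepTree.get 9 i.val &&& 3) 0)
      (orbCode (stepTree.get 9 i.val >>> 2))) (genInvCodes.getD (stepTree.get 9 i.val &&& 3) 0) := by
  decide +kernel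

theorem gen_inv : ∀ k : Fin 3,
    H90.compN (genCodes.getD k.val 0) (genInvCodes.getD k.val 0) = H90.idN := by decide +kernel

theorem orb_sorted : ∀ i : Fin 494, sortTree.get 9 i.val < 495 ∧ sortTree.get 9 (i.val + 1) < 495 ∧
    orbCode (sortTree.get 9 i.val) < orbCode (sortTree.get 9 (i.val + 1)) := by decide +kernel

end H78.MTwelve
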