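import Cfsg.Agent.H6.Transfer

/-! Thompson transfer with control of a central element. -/

set_option autoImplicit false

namespace H78.MTwelve

/-- An involution without conjugates in a subgroup of index twice an odd number lies outside a normal
subgroup of index 2 which contains every central element of that subgroup. -/
theorem exists_index_two_central {G : Type*} [Group G] [Finite G] (Q : Subgroup G) (m : ℕ)
    (hm : Odd m) (hQ : Q.index = 2 * m) (u : G) (hu : u ^ 2 = 1) (hconj : ∀ g : G, g * u * g⁻¹ ∉ Q) :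
    ∃ M : Subgroup G, M.Normal ∧ M.index = 2 ∧ u ∉ M ∧ ∀ c ∈ Q, c ∈ Subgroup.center G → c ∈ M := by
  classical
  haveI : Fintype (G ⧸ Q) := Fintype.ofFinite _
  let π : G →* Equiv.Perm (G ⧸ Q) := MulAction.toPermHom G (G ⧸ Q)
  let f : G →* ℤˣ := Equiv.Perm.sign.comp π
  have hfix : ∀ q : G ⧸ Q, π u q ≠ q := by
    intro q hq
    obtain ⟨g, rfl⟩ := QuotientGroup.mk_surjective q
    have h1 : ((u * g : G) : G ⧸ Q) = (g : G ⧸ Q) := hq
    have h2 : g⁻¹ * (u * g) ∈ Q := QuotientGroup.eq.mp h1.symm
    apply hconj g⁻¹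
    rwa [inv_inv, mul_assoc]
  have hord : orderOf (π u) = 2 := by
    apply orderOf_eq_prime
    · rw [← map_pow, hu, map_one]
    · intro h1
      exact hfix ((1 : G) : G ⧸ Q) (by rw [h1]; rfl)
  obtain ⟨n, hn⟩ := Equiv.Perm.cycleType_prime_order (σ := π u) (hord.symm ▸ Nat.prime_two)
  have hsupp : (π u).support = Finset.univ := by
    ext q; simp [hfix q]
  have hsum := Equiv.Perm.sum_cycleType (π u)
  rw [hn, hord, Multiset.sum_replicate, hsupp, Finset.card_univ, ← Nat.card_eq_fintype_card,
    ← Subgroup.index_eq_card, hQ, smul_eq_mul] at hsum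
  have hfu : f u = -1 := by
    show Equiv.Perm.sign (π u) = -1
    rw [Equiv.Perm.sign_of_cycleType, hn, hord, Multiset.sum_replicate, Multiset.card_replicate, smul_eq_mul]
    apply Odd.neg_one_pow
    obtain ⟨k, hk⟩ := hm
    exact ⟨3 * k + 1, by omega⟩
  refine ⟨f.ker, inferInstance, ?_, fun h => ?_, fun c hc hcc => ?_⟩
  · rw [Subgroup.index_ker]
    have : f.range = ⊤ := by
      rw [eq_top_iff]
      rintro x -
      rcases Int.units_eq_one_or x with rfl | rfl
      · exact ⟨1, map_one f⟩
      · exact ⟨u, hfu⟩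
    rw [this, Subgroup.card_top, Nat.card_eq_fintype_card, Fintype.card_units_int]
  · rw [MonoidHom.mem_ker, hfu] at h
    exact absurd h (by decide)
  · rw [MonoidHom.mem_ker]
    have hπ : π c = 1 := by
      refine Equiv.ext fun q => ?_
      obtain ⟨g, rfl⟩ := QuotientGroup.mk_surjective q
      show ((c * g : G) : G ⧸ Q) = (g : G ⧸ Q)
      rw [← Subgroup.mem_center_iff.mp hcc g, QuotientGroup.eq]
      simpa using hc
    show Equiv.Perm.sign (π c) = 1
    rw [hπ, map_one]

end H78.MTwelve
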