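import Cfsg.Agent.H78.MTwelve.Frame
import Cfsg.Agent.H78.MTwelve.TransferCentral
import Cfsg.Agent.H78.MTwelve.CountFacts
import Mathlib.GroupTheory.IndexNormal

/-! The centralizer of 14 in a frame: a subgroup of index 2 with Sylow 2-subgroup elementary abelian
of order 8. -/

set_option autoImplicit false
set_option linter.style.haveILetI false

namespace H78.MTwelve

namespace Frame

variable {G : Type*} [Group G] (F : Frame G)

/-- The element of order 3 acting on the four-group. -/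
abbrev a : G := F.g * F.ι 32

theorem maps_low {b : Fin 192} (hb : b.val < 32) : F.toEmb.Maps F.g b (al b) := by
  have h := F.maps ⟨b.val, hb⟩
  rwa [up_of_lt hb] at h

theorem g_maps_14 : F.toEmb.Maps F.g 14 14 := by
  have h := F.maps_low (b := 14) (by decide)
  rwa [q_basic.2.2.2.2] at h

theorem commute_g_x : Commute F.g (F.ι 14) := F.toEmb.commute_of_maps_self F.g_maps_14

theorem commute_s_x : Commute (F.ι 32) (F.ι 14) := (F.toEmb.commute_iff 32 14).mpr q_basic.2.2.1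

theorem commute_a_x : Commute F.a (F.ι 14) := Commute.mul_left F.commute_g_x F.commute_s_x

theorem s_sq : F.ι 32 * F.ι 32 = 1 := by rw [← F.hom, s_facts.1, F.toEmb.ι_zero]

theorem a_maps : F.toEmb.Maps F.a 1 2 ∧ F.toEmb.Maps F.a 2 3 ∧ F.toEmb.Maps F.a 3 1 := by
  obtain ⟨-, -, hsw, hsv, hs1, -, -⟩ := s_facts
  have h1 := F.maps_low (b := 1) (by decide)
  have h2 := F.maps_low (b := 2) (by decide)
  have h3 := F.maps_low (b := 3) (by decide)
  rw [show al 1 = 2 by decide +kernel] at h1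
  rw [show al 2 = 1 by decide +kernel] at h2
  rw [show al 3 = 3 by decide +kernel] at h3
  exact ⟨Emb.Maps.trans _ (hs1 ▸ F.toEmb.maps_ι 32 1) h1,
    Emb.Maps.trans _ (hsw ▸ F.toEmb.maps_ι 32 2) h3, Emb.Maps.trans _ (hsv ▸ F.toEmb.maps_ι 32 3) h2⟩

theorem a_cube : F.a * F.a * F.a = 1 := by
  have h := F.gs_cube
  rwa [pow_succ, pow_two] at h

theorem s_conj_a : F.ι 32 * F.a * (F.ι 32)⁻¹ = F.a⁻¹ := by
  rw [mul_inv_rev, inv_eq_of_mul_eq_one_right F.g_sq, inv_eq_of_mul_eq_one_right F.s_sq]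
  calc F.ι 32 * (F.g * F.ι 32) * F.ι 32 = F.ι 32 * F.g * (F.ι 32 * F.ι 32) := by group
    _ = _ := by rw [F.s_sq, mul_one]

/-- `a` in the centralizer of 14. -/
def aC : F.toEmb.cx := ⟨F.a, F.toEmb.mem_cx.mpr F.commute_a_x⟩

/-- `g` in the centralizer of 14. -/
def gC : F.toEmb.cx := ⟨F.g, F.toEmb.mem_cx.mpr F.commute_g_x⟩

theorem hx1 : m 1 14 = m 14 1 := m_one_comm 14
theorem hx2 : m 2 14 = m 14 2 := cx_facts.2.2.2.2.2.2.2.1.symm
theorem hx3 : m 3 14 = m 14 3 := cx_facts.2.2.2.2.2.2.2.2.symm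

/-- The four-group elements and the involution 14 in the centralizer of 14. -/
def zC : F.toEmb.cx := F.toEmb.inCx 1 hx1
def wC : F.toEmb.cx := F.toEmb.inCx 2 hx2
def vC : F.toEmb.cx := F.toEmb.inCx 3 hx3
def xC : F.toEmb.cx := F.toEmb.inCx 14 rfl
def sC : F.toEmb.cx := F.toEmb.inCx 32 q_basic.2.2.1

theorem xC_central : F.xC ∈ Subgroup.center F.toEmb.cx :=
  Subgroup.mem_center_iff.mpr fun c => Subtype.ext (F.toEmb.mem_cx.mp c.2)

/-- The elementary abelian subgroup of order 8. -/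
abbrev q8 : Subgroup F.toEmb.cx :=
  (Subgroup.centralizer ({F.ι 1, F.ι 2} : Set G)).subgroupOf F.toEmb.cx

theorem mem_q8 {c : F.toEmb.cx} :
    c ∈ F.q8 ↔ ∃ a : Fin 192, m a 14 = m 14 a ∧ m a 2 = m 2 a ∧ F.ι a = (c : G) := by
  rw [Subgroup.mem_subgroupOf, Subgroup.mem_centralizer_iff]
  constructor
  · intro h
    obtain ⟨a, ha⟩ := F.range c.1 (h _ (by simp)).symm
    refine ⟨a, (F.toEmb.commute_iff a 14).mp (ha ▸ F.toEmb.mem_cx.mp c.2), ?_, ha⟩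
    exact (F.toEmb.commute_iff a 2).mp (ha ▸ (h _ (by simp)).symm)
  · rintro ⟨a, -, h2, ha⟩ b hb
    rcases hb with rfl | rfl
    · rw [← ha]; exact (F.toEmb.commute_t a).symm
    · rw [← ha]; exact ((F.toEmb.commute_iff a 2).mpr h2).symm

theorem inCx_mem_q8 (a : Fin 192) (h : m a 14 = m 14 a) (h2 : m a 2 = m 2 a) :
    F.toEmb.inCx a h ∈ F.q8 := F.mem_q8.mpr ⟨a, h, h2, rfl⟩

theorem q8_le_px : F.q8 ≤ F.toEmb.px := fun c hc => by
  obtain ⟨a, h, -, ha⟩ := F.mem_q8.mp hc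
  exact F.toEmb.mem_px.mpr ⟨a, h, ha⟩

theorem card_q8 : Nat.card F.q8 = 8 := by
  rw [← c_zw_card, ← Fintype.card_coe, ← Nat.card_eq_fintype_card]
  refine (Nat.card_eq_of_bijective (fun a => (⟨F.toEmb.inCx a.1 (Finset.mem_filter.mp a.2).2.1,
    F.inCx_mem_q8 _ _ (Finset.mem_filter.mp a.2).2.2⟩ : F.q8)) ⟨fun a b hab => ?_, fun c => ?_⟩).symm
  · exact Subtype.ext (F.inj (congrArg (fun x : F.q8 => ((x : F.toEmb.cx) : G)) hab))
  · obtain ⟨a, ha, ha2, hae⟩ := F.mem_q8.mp c.2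
    exact ⟨⟨a, Finset.mem_filter.mpr ⟨Finset.mem_univ _, ha, ha2⟩⟩, Subtype.ext (Subtype.ext hae)⟩

theorem q8_comm {c d : F.toEmb.cx} (hc : c ∈ F.q8) (hd : d ∈ F.q8) : Commute c d := by
  obtain ⟨a, h1, h2, ha⟩ := F.mem_q8.mp hc
  obtain ⟨b, k1, k2, hb⟩ := F.mem_q8.mp hd
  have h := (F.toEmb.commute_iff a b).mpr (q_comm a h1 h2 b k1 k2)
  rw [ha, hb] at h
  exact Subtype.ext h

theorem q8_sq {c : F.toEmb.cx} (hc : c ∈ F.q8) : c * c = 1 := by
  obtain ⟨a, h1, h2, ha⟩ := F.mem_q8.mp hc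
  apply Subtype.ext
  show c.1 * c.1 = 1
  rw [← ha, ← F.hom, (q_sub a h1 h2).1, F.toEmb.ι_zero]

theorem isConj_s_not_mem_q8 (k : F.toEmb.cx) : k * F.sC * k⁻¹ ∉ F.q8 := by
  intro h
  obtain ⟨b, h1, h2, hb⟩ := F.mem_q8.mp h
  have hb' : F.ι b = k.1 * F.ι 32 * (k.1)⁻¹ := hb
  have hncl : ∀ c : Fin 192, typ c = 3 → ¬ F.toEmb.Cl c := fun c hc hh => by
    rw [F.toEmb.cl_rep (by omega), hc] at hh
    exact F.toEmb.not_cl_x hh
  have hconj : IsConj (F.ι 32) (F.ι b) := isConj_iff.mpr ⟨_, hb'.symm⟩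
  have hbt : typ b ≠ 0 := F.toEmb.orderOf_ι.mp
    (H65.two_of_isConj (F.toEmb.orderOf_ι.mpr (by rw [s_facts.2.1]; norm_num)) hconj)
  have hb14 : b ≠ 14 := by
    rintro rfl
    have e : (k.1)⁻¹ * F.ι 14 * k.1 = F.ι 14 := by
      rw [((F.toEmb.mem_cx.mp k.2).inv_left).eq, inv_mul_cancel_right]
    have e' : (k.1)⁻¹ * F.ι 14 * k.1 = F.ι 32 := by rw [hb']; group
    exact absurd (F.inj (e.symm.trans e')) (by decide)
  have key : ∀ c : Fin 192, F.toEmb.Cl c → b ≠ c := fun c hc hbc => by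
    subst hbc
    exact hncl 32 s_facts.2.1 (hc.trans hconj.symm)
  have hx := (q_sub b h1 h2).2.2 hbt (key 1 F.toEmb.cl_one) (key 2 ?_) (key 3 ?_) hb14
  · have hconj' : IsConj (F.ι (m 14 32)) (F.ι (m 14 b)) := by
      refine isConj_iff.mpr ⟨k.1, ?_⟩
      rw [F.hom, F.hom, hb']
      calc _ = (k.1 * F.ι 14 * (k.1)⁻¹) * (k.1 * F.ι 32 * (k.1)⁻¹) := by group
        _ = _ := by rw [(F.toEmb.mem_cx.mp k.2).eq, mul_inv_cancel_right]
    apply hncl _ q_basic.2.1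
    refine IsConj.trans ?_ hconj'.symm
    rcases hx with e | e
    · rw [Emb.eq_one_of_typ e]
    · exact (F.toEmb.cl_rep (by omega)).mpr (by rw [e]; exact F.toEmb.cl_two_of_cl_u F.cl16)
  · exact F.toEmb.cl_two_of_cl_u F.cl16
  · exact (F.toEmb.cl_rep (by decide +kernel)).mpr
      (by rw [cent_u.2.2.1]; exact F.toEmb.cl_two_of_cl_u F.cl16)

/-- The index 2 subgroup of the centralizer of 14. -/
theorem exists_core_sub [Finite G] : ∃ M : Subgroup F.toEmb.cx, M.Normal ∧ M.index = 2 ∧ F.sC ∉ M ∧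
    F.xC ∈ M ∧ F.aC ∈ M ∧ F.zC ∈ M ∧ F.wC ∈ M ∧ F.vC ∈ M ∧ F.q8 ≤ M ∧ M ⊓ F.toEmb.px = F.q8 := by
  haveI : Fact (Nat.Prime 2) := ⟨Nat.prime_two⟩
  obtain ⟨P, hP⟩ := F.toEmb.exists_sylow_cx
  have hrel : F.q8.relIndex F.toEmb.px = 2 := by
    have h := Subgroup.relIndex_mul_index (H := (F.q8).subgroupOf F.toEmb.px) (K := ⊤) le_top
    have h' := Subgroup.card_mul_index ((F.q8).subgroupOf F.toEmb.px)
    rw [Nat.card_congr (Subgroup.subgroupOfEquivOfLe F.q8_le_px).toEquiv, F.card_q8,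
      F.toEmb.card_px] at h'
    show ((F.q8).subgroupOf F.toEmb.px).index = 2
    omega
  have hodd : Odd F.toEmb.px.index := by
    rw [← hP, ← Nat.not_even_iff_odd, even_iff_two_dvd]
    exact P.not_dvd_index
  have hs2 : F.sC ^ 2 = 1 := by
    rw [pow_two]
    exact Subtype.ext F.s_sq
  obtain ⟨M, hM, hM2, hsM, hcen⟩ := exists_index_two_central F.q8 _ hodd
    (by rw [← Subgroup.relIndex_mul_index F.q8_le_px, hrel]) F.sC hs2 F.isConj_s_not_mem_q8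
  have hxq : F.xC ∈ F.q8 := F.inCx_mem_q8 14 rfl (by decide +kernel)
  have hxM := hcen _ hxq F.xC_central
  have hmul : ∀ {c d : F.toEmb.cx}, c * d ∈ M ↔ (c ∈ M ↔ d ∈ M) :=
    fun {c d} => Subgroup.mul_mem_iff_of_index_two hM2
  have haM : F.aC ∈ M := by
    have e : F.aC * F.aC * F.aC = 1 := Subtype.ext F.a_cube
    have h : (F.aC * F.aC) * F.aC ∈ M := by rw [e]; exact M.one_mem
    rw [hmul, hmul] at h
    tauto
  obtain ⟨m1, m2, m3⟩ := F.a_maps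
  have e1 : F.aC * F.zC * F.aC⁻¹ = F.wC := Subtype.ext m1
  have e2 : F.aC * F.wC * F.aC⁻¹ = F.vC := Subtype.ext m2
  have e3 : F.aC * F.vC * F.aC⁻¹ = F.zC := Subtype.ext m3
  have evv : F.aC * F.zC * F.aC⁻¹ * F.zC⁻¹ = F.vC := by
    rw [e1]
    apply Subtype.ext
    show F.ι 2 * (F.ι 1)⁻¹ = F.ι 3
    rw [← F.toEmb.ι_inv, ← F.hom]
    exact congrArg F.ι (by decide +kernel)
  have hvM : F.vC ∈ M := by
    rw [← evv, mul_assoc, mul_assoc]
    exact M.mul_mem haM (by rw [← mul_assoc]; exact hM.conj_mem _ (M.inv_mem haM) F.zC)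
  have hzM : F.zC ∈ M := e3 ▸ hM.conj_mem _ hvM _
  have hwM : F.wC ∈ M := e1 ▸ hM.conj_mem _ hzM _
  have hqM : F.q8 ≤ M := by
    intro c hc
    obtain ⟨b, h1, h2, hb⟩ := F.mem_q8.mp hc
    have hxk : ∀ j : Fin 192, ∀ hj : m j 14 = m 14 j, b = m 14 j → F.toEmb.inCx j hj ∈ M → c ∈ M := by
      intro j hj hbj hjM
      rw [show c = F.xC * F.toEmb.inCx j hj from Subtype.ext (by rw [← hb, hbj, F.hom]; rfl)]
      exact M.mul_mem hxM hjM
    have h0 : F.toEmb.inCx 0 (by decide +kernel) ∈ M := by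
      rw [show F.toEmb.inCx 0 (by decide +kernel) = 1 from Subtype.ext F.toEmb.ι_zero]
      exact M.one_mem
    rcases (q_sub b h1 h2).2.1 with e | e | e | e | e | e | e | e
    · exact (show c = 1 from Subtype.ext (by rw [← hb, e]; exact F.toEmb.ι_zero)) ▸ M.one_mem
    · exact (show c = F.zC from Subtype.ext (by rw [← hb, e]; rfl)) ▸ hzM
    · exact (show c = F.wC from Subtype.ext (by rw [← hb, e]; rfl)) ▸ hwM
    · exact (show c = F.vC from Subtype.ext (by rw [← hb, e]; rfl)) ▸ hvM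
    · exact hxk 0 _ e h0
    · exact hxk 1 _ e hzM
    · exact hxk 2 _ e hwM
    · exact hxk 3 _ e hvM
  refine ⟨M, hM, hM2, hsM, hxM, haM, hzM, hwM, hvM, hqM, le_antisymm ?_ (le_inf hqM F.q8_le_px)⟩
  intro c hc
  obtain ⟨hcM, hcP⟩ := Subgroup.mem_inf.mp hc
  obtain ⟨b, hb14, hb⟩ := F.toEmb.mem_px.mp hcP
  by_cases h2 : m b 2 = m 2 b
  · exact F.mem_q8.mpr ⟨b, hb14, h2, hb⟩
  · exfalso
    have h32 : m (m b 32) 14 = m 14 (m b 32) := by
      rw [← F.toEmb.commute_iff, F.hom]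
      exact Commute.mul_left ((F.toEmb.commute_iff b 14).mpr hb14) F.commute_s_x
    have hmem : c * F.sC ∈ M :=
      hqM (F.mem_q8.mpr ⟨_, h32, (q_norm b hb14).2.2 h2, by rw [F.hom, hb]; rfl⟩)
    exact hsM ((hmul.mp hmem).mp hcM)

end Frame

end H78.MTwelve
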