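import Cfsg.Agent.H78.MTwelve.OtherClass
import Cfsg.Agent.H37.SmallIsoBig

/-! When 16 is not fused to 1 the group is an extension of an elementary abelian group of order 8 by
the simple group of order 168. -/

set_option autoImplicit false
set_option maxRecDepth 20000

namespace H78.MTwelve

open scoped Matrix

/-- Coordinates of the normal subgroup of order 8 in the table. -/
def enc (v : Fin 3 → ZMod 2) : Fin 192 := m (m (if v 0 = 0 then 0 else 1) (if v 1 = 0 then 0 else 2))
  (if v 2 = 0 then 0 else 4)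

theorem enc_spec : (∀ u v : Fin 3 → ZMod 2, m (enc u) (enc v) = enc (u + v) ∧ (enc u = enc v → u = v)) ∧
    (∀ a : Fin 192, a = 0 ∨ clA a = true ↔ a.val < 8) ∧
    (∀ a : Fin 192, a.val < 8 → ∃ v : Fin 3 → ZMod 2, enc v = a) ∧
    (∀ v : Fin 3 → ZMod 2, (enc v).val < 8) ∧ enc 0 = 0 := by decide +kernel

theorem eight_facts : (∀ a : Fin 192, a.val < 8 → (iv a).val < 8 ∧ m a a = 0 ∧
      ∀ b : Fin 192, b.val < 8 → (m a b).val < 8 ∧ m a b = m b a) ∧
    (∀ a : Fin 192, (∀ b : Fin 192, b.val < 8 → m a b = m b a) → a.val < 8) := by decide +kernel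

namespace Emb

variable {G : Type*} [Group G] (E : Emb G)

/-- The subgroup of order 8. -/
def eightSub : Subgroup G where
  carrier := {g | ∃ a : Fin 192, a.val < 8 ∧ E.ι a = g}
  one_mem' := ⟨0, by decide, E.ι_zero⟩
  mul_mem' := by
    rintro _ _ ⟨a, ha, rfl⟩ ⟨b, hb, rfl⟩
    exact ⟨m a b, ((eight_facts.1 a ha).2.2 b hb).1, E.hom a b⟩
  inv_mem' := by
    rintro _ ⟨a, ha, rfl⟩
    exact ⟨iv a, (eight_facts.1 a ha).1, E.ι_inv a⟩

theorem card_eightSub : Nat.card E.eightSub = 8 := by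
  rw [← Nat.card_fin 8]
  refine (Nat.card_eq_of_bijective (fun a : Fin 8 =>
    (⟨E.ι (a.castLE (by norm_num)), _, a.isLt, rfl⟩ : E.eightSub)) ⟨fun a b h => ?_, ?_⟩).symm
  · exact Fin.castLE_injective _ (E.inj (congrArg Subtype.val h))
  · rintro ⟨_, a, ha, rfl⟩
    exact ⟨⟨a.val, ha⟩, rfl⟩

/-- Without fusion of 16 to 1: a normal elementary abelian subgroup of order 8 with quotient of
order 168. -/
theorem normal_eight [Finite G] (h2 : E.Cl 2) (h16 : ¬ E.Cl 16) :
    ∃ (N : Subgroup G) (_ : N.Normal), IsMulCommutative N ∧ (∀ n ∈ N, n ^ 2 = 1) ∧ Nat.card N = 8 ∧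
      Nonempty (G ⧸ N ≃* Matrix.ProjectiveSpecialLinearGroup (Fin 3) (ZMod 2)) := by
  classical
  have hall := E.commute_all_of_not_cl_u h2 h16
  obtain ⟨he, hset, hsurj8, hlt8, he0⟩ := enc_spec
  have hcl : ∀ a : Fin 192, a.val < 8 → a ≠ 0 → E.Cl a := fun a ha ha0 =>
    (E.clA_iff h2 h16 a).mp (((hset a).mpr ha).resolve_left ha0)
  have hconj : ∀ g n : G, n ∈ E.eightSub → g * n * g⁻¹ ∈ E.eightSub := by
    rintro g _ ⟨a, ha, rfl⟩
    by_cases ha0 : a = 0
    · subst ha0; rw [E.ι_zero]; simpa using one_mem E.eightSub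
    · have hc : IsConj E.t (g * E.ι a * g⁻¹) := (hcl a ha ha0).trans (isConj_iff.mpr ⟨g, rfl⟩)
      obtain ⟨b, hb⟩ := E.range _ (hall _ hc)
      rw [← hb] at hc
      exact ⟨b, (hset b).mp (Or.inr ((E.clA_iff h2 h16 b).mpr hc)), hb⟩
  haveI hN : E.eightSub.Normal := ⟨fun n hn g => hconj g n hn⟩
  refine ⟨E.eightSub, hN, ⟨⟨fun x y => ?_⟩⟩, ?_, E.card_eightSub, ?_⟩
  · obtain ⟨a, ha, hae⟩ := x.2
    obtain ⟨b, hb, hbe⟩ := y.2
    apply Subtype.ext
    show (x : G) * (y : G) = (y : G) * (x : G)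
    rw [← hae, ← hbe, ← E.hom, ← E.hom, ((eight_facts.1 a ha).2.2 b hb).2]
  · rintro _ ⟨a, ha, rfl⟩
    rw [pow_two, ← E.hom, (eight_facts.1 a ha).2.1, E.ι_zero]
  -- the linear action
  have hex : ∀ (g : G) (v : Fin 3 → ZMod 2), ∃ w, E.ι (enc w) = g * E.ι (enc v) * g⁻¹ := by
    intro g v
    obtain ⟨b, hb, hbe⟩ := hconj g _ ⟨_, hlt8 v, rfl⟩
    obtain ⟨w, hw⟩ := hsurj8 b hb
    exact ⟨w, by rw [hw, hbe]⟩
  choose f hf using hex
  have hι : Function.Injective fun v => E.ι (enc v) := fun u v h => (he u v).2 (E.inj h)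
  have fadd : ∀ g u v, f g (u + v) = f g u + f g v := fun g u v => hι (by
    show E.ι (enc _) = E.ι (enc _)
    rw [hf, ← (he u v).1, ← (he (f g u) (f g v)).1, E.hom, E.hom, hf, hf]
    group)
  let lin : G → ((Fin 3 → ZMod 2) →ₗ[ZMod 2] (Fin 3 → ZMod 2)) := fun g =>
    AddMonoidHom.toZModLinearMap 2 (AddMonoidHom.mk' (f g) (fadd g))
  have lmul : ∀ g h, lin (g * h) = (lin g).comp (lin h) := fun g h => LinearMap.ext fun v => hι (by
    show E.ι (enc (f (g * h) v)) = E.ι (enc (f g (f h v)))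
    rw [hf, hf, hf]; group)
  have lone : lin 1 = LinearMap.id := LinearMap.ext fun v => hι (by
    show E.ι (enc (f 1 v)) = E.ι (enc v)
    rw [hf]; group)
  have hdet : ∀ g, (LinearMap.toMatrix' (lin g)).det = 1 := by
    intro g
    have h1 : (LinearMap.toMatrix' (lin g)).det * (LinearMap.toMatrix' (lin g⁻¹)).det = 1 := by
      rw [← Matrix.det_mul, ← LinearMap.toMatrix'_comp, ← lmul, mul_inv_cancel, lone,
        LinearMap.toMatrix'_id, Matrix.det_one]
    exact (show ∀ a b : ZMod 2, a * b = 1 → a = 1 by decide) _ _ h1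
  let mk : G → Matrix.SpecialLinearGroup (Fin 3) (ZMod 2) := fun g => ⟨LinearMap.toMatrix' (lin g), hdet g⟩
  let φ : G →* Matrix.SpecialLinearGroup (Fin 3) (ZMod 2) :=
    { toFun := mk
      map_one' := Subtype.ext (by
        show LinearMap.toMatrix' (lin 1) = 1
        rw [lone, LinearMap.toMatrix'_id])
      map_mul' := fun g h => Subtype.ext (by
        show LinearMap.toMatrix' (lin (g * h)) = LinearMap.toMatrix' (lin g) * LinearMap.toMatrix' (lin h)
        rw [lmul, LinearMap.toMatrix'_comp]) }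
  have hker : φ.ker = E.eightSub := by
    refine le_antisymm (fun g hg => ?_) ?_
    · have hl : lin g = LinearMap.id := by
        apply LinearMap.toMatrix'.injective
        rw [LinearMap.toMatrix'_id]
        exact congrArg (fun x : Matrix.SpecialLinearGroup (Fin 3) (ZMod 2) =>
          (x : Matrix (Fin 3) (Fin 3) (ZMod 2))) (MonoidHom.mem_ker.mp hg)
      have hcom : ∀ b : Fin 192, b.val < 8 → Commute g (E.ι b) := by
        intro b hb
        obtain ⟨v, rfl⟩ := hsurj8 b hb
        have h := hf g v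
        rw [show f g v = v from LinearMap.congr_fun hl v] at h
        exact mul_inv_eq_iff_eq_mul.mp h.symm
      obtain ⟨a, rfl⟩ := E.range g (hcom 1 (by decide))
      exact ⟨a, eight_facts.2 a fun b hb => (E.commute_iff a b).mp (hcom b hb), rfl⟩
    · rintro _ ⟨a, ha, rfl⟩
      refine MonoidHom.mem_ker.mpr (Subtype.ext ?_)
      show LinearMap.toMatrix' (lin (E.ι a)) = 1
      rw [← LinearMap.toMatrix'_id]
      congr 1
      refine LinearMap.ext fun v => hι ?_
      show E.ι (enc (f (E.ι a) v)) = E.ι (enc v)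
      rw [hf, ((E.commute_iff a (enc v)).mpr ((eight_facts.1 a ha).2.2 _ (hlt8 v)).2).eq,
        mul_inv_cancel_right]
  -- the order of the group
  have hlow : 1344 ≤ Nat.card G := by
    have hk : ∀ a : Fin 7, ∃ k : G, k * E.t * k⁻¹ = E.ι ⟨a.val + 1, by omega⟩ := fun a =>
      isConj_iff.mp (hcl _ (by show a.val + 1 < 8; omega) (fun h => Nat.succ_ne_zero a.val (congrArg Fin.val h)))
    choose k hk using hk
    have hinj : Function.Injective fun p : Fin 7 × Fin 192 => k p.1 * E.ι p.2 := by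
      rintro ⟨a, l⟩ ⟨b, l'⟩ h
      have e : ∀ (a : Fin 7) (l : Fin 192), (k a * E.ι l) * E.t * (k a * E.ι l)⁻¹ =
          E.ι ⟨a.val + 1, by omega⟩ := fun a l => by
        rw [← hk a, mul_inv_rev]
        calc _ = k a * (E.ι l * E.t * (E.ι l)⁻¹) * (k a)⁻¹ := by group
          _ = _ := by rw [(E.commute_t l).eq, mul_inv_cancel_right]
      simp only at h
      have := congrArg Fin.val (E.inj ((e a l).symm.trans ((congrArg (fun y => y * E.t * y⁻¹) h).trans (e b l'))))
      have hab : a = b := Fin.ext (by simpa using this)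
      subst hab
      rw [mul_right_inj] at h
      rw [E.inj h]
    have := Nat.card_le_card_of_injective _ hinj
    rwa [Nat.card_prod, Nat.card_fin, Nat.card_fin] at this
  have hSL : Nat.card (Matrix.SpecialLinearGroup (Fin 3) (ZMod 2)) = 168 := by
    have := H37.card_SL_fin (F := ZMod 2) 3 (by norm_num)
    rw [Nat.card_zmod] at this
    norm_num [Fin.prod_univ_three, -Nat.card_eq_fintype_card] at this ⊢
    omega
  have hsurj : φ.range = ⊤ := by
    refine Subgroup.eq_top_of_card_eq _ (le_antisymm (Subgroup.card_le_card_group _) ?_)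
    have e := Subgroup.card_mul_index φ.ker
    rw [Subgroup.index_ker, hker, E.card_eightSub] at e
    rw [hSL]
    omega
  have hc : Subgroup.center (Matrix.SpecialLinearGroup (Fin 3) (ZMod 2)) = ⊥ := by
    rw [← Subgroup.card_eq_one, H37.card_center_SL]; simp
  let ψ : Matrix.ProjectiveSpecialLinearGroup (Fin 3) (ZMod 2) ≃*
      Matrix.SpecialLinearGroup (Fin 3) (ZMod 2) :=
    (QuotientGroup.quotientMulEquivOfEq hc).trans QuotientGroup.quotientBot
  exact ⟨((QuotientGroup.quotientMulEquivOfEq hker.symm).trans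
    (QuotientGroup.quotientKerEquivOfSurjective φ (MonoidHom.range_eq_top.mp hsurj))).trans ψ.symm⟩

end Emb

end H78.MTwelve
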