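import Cfsg.Agent.H78.MTwelve.Recognition
import Cfsg.Agent.H78.MTwelve.Instance
import Cfsg.Agent.H78.MTwelve.NormalEight

/-! A simple group with the centralizer of a 2-central involution of M12 is M12. -/

set_option autoImplicit false
set_option linter.style.haveILetI false

namespace H78.MTwelve

open Cfsg

/-- A group with an embedded table in which the central involution is fused into the class of 2. -/
theorem isoM12_or_normal_eight {G : Type*} [Group G] [Finite G] (E : Emb G) (h2 : E.Cl 2) :
    (∃ (N : Subgroup G) (_ : N.Normal), IsMulCommutative N ∧ (∀ n ∈ N, n ^ 2 = 1) ∧ Nat.card N = 8 ∧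
      Nonempty (G ⧸ N ≃* Matrix.ProjectiveSpecialLinearGroup (Fin 3) (ZMod 2))) ∨ Spor.IsoM12 G := by
  by_cases h16 : E.Cl 16
  · haveI := M12_isSimple
    obtain ⟨F, -⟩ := E.exists_frame h16
    obtain ⟨F', -⟩ := embM.exists_frame embM.not_cl_u_impossible
    exact Or.inr (iso_of_frames F F' H87.natCard_M12)
  · exact Or.inl (E.normal_eight h2 h16)

/-- A group with an embedded table in which 16 is fused to 1 is M12. -/
theorem isoM12_of_emb {G : Type*} [Group G] [Finite G] (E : Emb G) (h16 : E.Cl 16) :
    Spor.IsoM12 G := by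
  haveI := M12_isSimple
  obtain ⟨F, -⟩ := E.exists_frame h16
  obtain ⟨F', -⟩ := embM.exists_frame embM.not_cl_u_impossible
  exact iso_of_frames F F' H87.natCard_M12

theorem isoM12_of_centralizer {G : Type*} [Group G] [Finite G] [IsSimpleGroup G] (u : Spor.M12)
    (hu : IsTwoCentralInvolution u) (t : G) (ht : orderOf t = 2)
    (e : ↥(Subgroup.centralizer ({t} : Set G)) ≃* ↥(Subgroup.centralizer ({u} : Set Spor.M12))) :
    Spor.IsoM12 G := by
  haveI := M12_isSimple
  obtain ⟨k, hk⟩ := isConj_iff.mp (isConj_of_twoCentral hu)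
  -- the table inside the centralizer of `u`
  let j : Fin 192 → Subgroup.centralizer ({u} : Set Spor.M12) := fun a =>
    ⟨k⁻¹ * ιM a * k, Subgroup.mem_centralizer_singleton_iff.mpr (by
      have h := (Commute.conj_iff k⁻¹).mpr (ιM_commute a)
      rw [← hk] at h
      simpa [mul_assoc] using h.eq)⟩
  have jhom : ∀ a b, j (m a b) = j a * j b := fun a b => Subtype.ext (by
    show k⁻¹ * ιM (m a b) * k = k⁻¹ * ιM a * k * (k⁻¹ * ιM b * k)
    rw [ιM_hom]; group)
  have jinj : Function.Injective j := fun a b h => ιM_inj (by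
    have h' : k⁻¹ * ιM a * k = k⁻¹ * ιM b * k := congrArg Subtype.val h
    simpa using h')
  have jsurj : Function.Surjective j := fun c => by
    have hc : Commute (k * c.1 * k⁻¹) (ιM 1) := by
      rw [← hk]
      exact (Commute.conj_iff k).mpr (Subgroup.mem_centralizer_singleton_iff.mp c.2)
    obtain ⟨a, ha⟩ := ιM_range _ hc
    exact ⟨a, Subtype.ext (by show k⁻¹ * ιM a * k = c.1; rw [ha]; group)⟩
  let ι : Fin 192 → G := fun a => (e.symm (j a)).1
  have hι : ∀ a b, ι (m a b) = ι a * ι b := fun a b => by
    show (e.symm (j (m a b))).1 = _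
    rw [jhom, map_mul]
    rfl
  have hinj : Function.Injective ι := fun a b h => jinj (e.symm.injective (Subtype.ext h))
  -- the centre of the table has order 2
  have ht1 : ι 1 = t := by
    set tc : Subgroup.centralizer ({t} : Set G) := ⟨t, Subgroup.mem_centralizer_singleton_iff.mpr rfl⟩
    obtain ⟨a, ha⟩ := jsurj (e tc)
    have hta : ι a = t := by show (e.symm (j a)).1 = t; rw [ha, e.symm_apply_apply]
    have hc : ∀ b : Fin 192, b.val < 64 → m a b = m b a := fun b _ => hinj (by
      rw [hι, hι, hta]
      exact (Subgroup.mem_centralizer_singleton_iff.mp (e.symm (j b)).2).symm)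
    have ha64 : a.val < 64 := by
      by_contra hlt
      exact central_small a hlt fun b => hinj (by
        rw [hι, hι, hta]
        exact (Subgroup.mem_centralizer_singleton_iff.mp (e.symm (j b)).2).symm)
    rcases sylow_center a ha64 hc with rfl | rfl
    · exfalso
      have h0 : ι 0 * ι 0 = ι 0 := by rw [← hι, (m_zero 0).1]
      rw [mul_eq_left] at h0
      rw [h0] at hta
      rw [← hta, orderOf_one] at ht
      omega
    · exact hta
  let E : Emb G :=
    { ι := ι
      inj := hinj
      hom := hι
      range := fun g hg => by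
        rw [ht1] at hg
        obtain ⟨a, ha⟩ := jsurj (e ⟨g, Subgroup.mem_centralizer_singleton_iff.mpr hg⟩)
        exact ⟨a, by show (e.symm (j a)).1 = g; rw [ha, e.symm_apply_apply]⟩ }
  exact isoM12_of_emb E E.not_cl_u_impossible

end H78.MTwelve
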