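import Cfsg.Agent.H78.MTwelve.Dee
import Mathlib.GroupTheory.FixedPointFree

/-!
The centralizer of 14: Sylow 2-subgroup, and the case where the class of 16 is not fused to 1, which
forces the central involution to commute with all its conjugates.
-/

set_option autoImplicit false
set_option linter.style.haveILetI false

namespace H78.MTwelve.Emb

variable {G : Type*} [Group G] (E : Emb G)

/-- The centralizer of 14. -/
abbrev cx : Subgroup G := Subgroup.centralizer ({E.ι 14} : Set G)

theorem mem_cx {g : G} : g ∈ E.cx ↔ Commute g (E.ι 14) := Subgroup.mem_centralizer_singleton_iff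

/-- The intersection with the centralizer of the central involution. -/
abbrev px : Subgroup E.cx := (Subgroup.centralizer ({E.t} : Set G)).subgroupOf E.cx

theorem mem_px {c : E.cx} : c ∈ E.px ↔ ∃ a : Fin 192, m a 14 = m 14 a ∧ E.ι a = (c : G) := by
  rw [Subgroup.mem_subgroupOf, E.mem_centralizer_iff]
  refine ⟨fun ⟨a, ha⟩ => ⟨a, (E.commute_iff a 14).mp ?_, ha⟩, fun ⟨a, _, ha⟩ => ⟨a, ha⟩⟩
  rw [ha]
  exact E.mem_cx.mp c.2

/-- A table element commuting with 14, in the centralizer of 14. -/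
def inCx (a : Fin 192) (ha : m a 14 = m 14 a) : E.cx :=
  ⟨E.ι a, E.mem_cx.mpr ((E.commute_iff a 14).mpr ha)⟩

theorem inCx_mem (a : Fin 192) (ha : m a 14 = m 14 a) : E.inCx a ha ∈ E.px :=
  E.mem_px.mpr ⟨a, ha, rfl⟩

theorem card_px : Nat.card E.px = 16 := by
  have h := (cx_facts).2.1
  rw [← h, cnt, ← Fintype.card_coe, ← Nat.card_eq_fintype_card]
  refine (Nat.card_eq_of_bijective (fun a => (⟨E.inCx a.1 (Finset.mem_filter.mp a.2).2.symm,
    E.inCx_mem _ _⟩ : E.px)) ⟨fun a b hab => ?_, fun c => ?_⟩).symm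
  · exact Subtype.ext (E.inj (congrArg (fun x : E.px => ((x : E.cx) : G)) hab))
  · obtain ⟨a, ha, hae⟩ := E.mem_px.mp c.2
    exact ⟨⟨a, Finset.mem_filter.mpr ⟨Finset.mem_univ _, ha.symm⟩⟩, Subtype.ext (Subtype.ext hae)⟩

theorem exists_sylow_cx [Finite G] : ∃ P : Sylow 2 E.cx, (P : Subgroup E.cx) = E.px := by
  haveI : Fact (Nat.Prime 2) := ⟨Nat.prime_two⟩
  have hS : IsPGroup 2 E.px := IsPGroup.of_card (n := 4) (by rw [E.card_px]; norm_num)
  obtain ⟨P, hP⟩ := hS.exists_le_sylow
  refine ⟨P, le_antisymm ?_ hP⟩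
  by_contra hne
  have hlt : E.px.subgroupOf (P : Subgroup E.cx) < ⊤ := lt_top_iff_ne_top.mpr fun h =>
    hne (Subgroup.subgroupOf_eq_top.mp h)
  haveI : Group.IsNilpotent (P : Subgroup E.cx) := P.2.isNilpotent
  obtain ⟨n, hn, hn'⟩ := SetLike.exists_of_lt (Group.normalizerCondition_of_isNilpotent _ hlt)
  apply hn'
  have hnS : ∀ c, c ∈ E.px → (n : E.cx)⁻¹ * c * n ∈ E.px := fun c hc => by
    have h1 := (Subgroup.mem_normalizer_iff''.mp hn ⟨c, hP hc⟩).mp hc
    exact h1
  have hnS' : ∀ c, c ∈ E.px → (n : E.cx) * c * (n : E.cx)⁻¹ ∈ E.px := fun c hc => by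
    have h1 := (Subgroup.mem_normalizer_iff.mp hn ⟨c, hP hc⟩).mp hc
    exact h1
  obtain ⟨a, ha, hae⟩ := E.mem_px.mp (hnS' _ (E.inCx_mem 1 (m_one_comm 14)))
  have hae' : E.ι a = (n : E.cx).1 * E.t * ((n : E.cx).1)⁻¹ := hae
  have hc : ∀ b : Fin 192, m b 14 = m 14 b → m a b = m b a := fun b hb => by
    obtain ⟨c, hc, hce⟩ := E.mem_px.mp (hnS _ (E.inCx_mem b hb))
    have hce' : E.ι c = ((n : E.cx).1)⁻¹ * E.ι b * (n : E.cx).1 := hce
    rw [← E.commute_iff, hae', show E.ι b = (n : E.cx).1 * E.ι c * ((n : E.cx).1)⁻¹ by rw [hce']; group]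
    exact (Commute.conj_iff _).mpr (E.commute_t c).symm
  have hcl : E.Cl a := isConj_iff.mpr ⟨_, hae'.symm⟩
  have h14 : ¬ E.Cl 14 := E.not_cl_x
  have ha1 : a = 1 := by
    rcases center_x a ha hc with rfl | rfl | rfl | rfl
    · exact absurd (by decide +kernel) (Cl.typ_ne_zero E hcl)
    · rfl
    · exact absurd hcl h14
    · refine absurd hcl ?_
      rw [E.cl_rep (by rw [cx_facts.1]; norm_num), cx_facts.1]
      exact h14
  rw [ha1, eq_comm, mul_inv_eq_iff_eq_mul] at hae'
  rw [Subgroup.mem_subgroupOf, Subgroup.mem_subgroupOf]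
  exact Subgroup.mem_centralizer_singleton_iff.mpr hae'

/-- Classes of involutions when 16 is not fused to 1. -/
theorem clA_iff (h2 : E.Cl 2) (h16 : ¬ E.Cl 16) (a : Fin 192) :
    clA a = true ↔ E.Cl a := by
  simp only [clA, Bool.or_eq_true, beq_iff_eq]
  constructor
  · rintro (h | h)
    · exact eq_one_of_typ h ▸ E.cl_one
    · exact (E.cl_rep (by omega)).mpr (by rw [h]; exact h2)
  · intro h
    rcases E.cl_cases h with rfl | ⟨h', -⟩ | ⟨-, h'⟩ | ⟨-, h'⟩
    · exact Or.inl (by decide +kernel)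
    · exact Or.inr h'
    · exact absurd h' E.not_cl_x
    · exact absurd h' h16

/-- Without fusion of 16 to 1 the conjugates of the central involution commute with it. -/
theorem commute_all_of_not_cl_u [Finite G] (h2 : E.Cl 2) (h16 : ¬ E.Cl 16) :
    ∀ u : G, IsConj E.t u → Commute u E.t := by
  haveI : Fact (Nat.Prime 2) := ⟨Nat.prime_two⟩
  obtain ⟨g, hg1, hg2⟩ := E.exists_swap h2 (by decide)
  obtain ⟨p, q, r, c1, c2, c3, c4, c5, c6, c7, -, -, -, hmaps⟩ :=
    E.exists_candidate hg1 hg2 clA (E.clA_iff h2 h16)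
  have h14 := searchA p c1 q c2 c3 r c4 c5 c6 c7
  obtain ⟨t15, c14, hnoU, htwo, hlt, hcard3, x1, x2, x3⟩ := cx_facts
  set x' := img (up p) (up q) (up r) 14 with hx'
  have hgx : g * E.ι 14 * g⁻¹ = E.ι x' := hmaps ⟨14, by norm_num⟩
  -- an element centralizing 14 and 2 centralizes the central involution
  have hcw : ∀ h : G, Commute h (E.ι 14) → Commute h (E.ι 2) → Commute h E.t := by
    intro h hx hw
    have hex : ∀ a : Fin 192, ∃ b, (m a 14 = m 14 a ∧ m a 2 = m 2 a) →
        E.ι b = g * E.ι a * g⁻¹ := by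
      intro a
      by_cases ha : m a 14 = m 14 a ∧ m a 2 = m 2 a
      · obtain ⟨b, hb⟩ := E.exists_index hg2 ha.2
        exact ⟨b, fun _ => hb⟩
      · exact ⟨0, fun h' => absurd h' ha⟩
    choose f hf using hex
    set S1 := Finset.univ.filter fun a : Fin 192 => m a 14 = m 14 a ∧ m a 2 = m 2 a
    set S2 := Finset.univ.filter fun b : Fin 192 => m x' b = m b x'
    have hmap : ∀ a ∈ S1, f a ∈ S2 := by
      intro a ha
      simp only [S1, S2, Finset.mem_filter, Finset.mem_univ, true_and] at ha ⊢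
      rw [← E.commute_iff, hf a ha, ← hgx]
      exact (Commute.conj_iff g).mpr ((E.commute_iff 14 a).mpr ha.1.symm)
    have hinj : Set.InjOn f S1 := fun a ha b hb hab => by
      simp only [S1, Finset.coe_filter, Finset.mem_univ, true_and] at ha hb
      have h' := hf a ha
      rw [hab, hf b hb, mul_left_inj, mul_right_inj] at h'
      exact E.inj h'.symm
    have hS : S1.image f = S2 := by
      refine Finset.eq_of_subset_of_card_le (Finset.image_subset_iff.mpr hmap) ?_
      rw [Finset.card_image_of_injOn hinj, show S2.card = 8 from (cnt_spec x').2.2 h14]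
      exact le_of_eq c_zw_card.symm
    have hghg : Commute (g * h * g⁻¹) E.t := by
      rw [← hg2]
      exact (Commute.conj_iff g).mpr hw
    obtain ⟨b, hb⟩ := E.range _ hghg
    have hb2 : b ∈ S2 := by
      simp only [S2, Finset.mem_filter, Finset.mem_univ, true_and]
      rw [← E.commute_iff, hb, ← hgx]
      exact (Commute.conj_iff g).mpr hx.symm
    rw [← hS, Finset.mem_image] at hb2
    obtain ⟨a, ha, hab⟩ := hb2
    simp only [S1, Finset.mem_filter, Finset.mem_univ, true_and] at ha
    have : h = E.ι a := by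
      have h' := hf a ha
      rw [hab, hb, mul_left_inj, mul_right_inj] at h'
      exact h'
    exact this ▸ E.commute_t a
  obtain ⟨hs2, -, hsw, hsv, hs1, hsx, -⟩ := s_facts
  have hcv : ∀ h : G, Commute h (E.ι 14) → Commute h (E.ι 3) → Commute h E.t := by
    intro h hx hv
    have e1 : E.ι 32 * E.ι 14 * (E.ι 32)⁻¹ = E.ι 14 := by
      rw [((E.commute_iff 32 14).mpr hsx).eq, mul_inv_cancel_right]
    have e3 : E.ι 32 * E.ι 3 * (E.ι 32)⁻¹ = E.ι 2 := by rw [← E.ι_cj, hsv]
    have k := hcw (E.ι 32 * h * (E.ι 32)⁻¹) (by rw [← e1]; exact (Commute.conj_iff _).mpr hx)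
      (by rw [← e3]; exact (Commute.conj_iff _).mpr hv)
    have e0 : E.ι 32 * E.t * (E.ι 32)⁻¹ = E.t := by
      rw [(E.commute_t 32).eq, mul_inv_cancel_right]
    rw [← e0] at k
    exact (Commute.conj_iff _).mp k
  obtain ⟨P, hP⟩ := E.exists_sylow_cx
  set z : E.cx := E.inCx 1 x1.symm with hz
  have hzP : z ∈ P := by
    show z ∈ (P : Subgroup E.cx)
    rw [hP]
    exact E.inCx_mem 1 _
  have hz2 : orderOf z = 2 := by rw [← Subgroup.orderOf_coe]; exact E.orderOf_t
  have hiso : ∀ k : E.cx, k * z * k⁻¹ ∈ P → k * z * k⁻¹ = z := by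
    intro k hk
    have hk' : k * z * k⁻¹ ∈ (P : Subgroup E.cx) := hk
    rw [hP] at hk'
    obtain ⟨a, ha, hae⟩ := E.mem_px.mp hk'
    have hae' : E.ι a = k.1 * E.t * (k.1)⁻¹ := hae
    have hcl : E.Cl a := isConj_iff.mpr ⟨_, hae'.symm⟩
    -- a small centralizer cannot be the image of the whole Sylow subgroup
    have small : ∀ v : Fin 192, (∀ h : G, Commute h (E.ι 14) → Commute h (E.ι v) → Commute h E.t) →
        (Finset.univ.filter fun b : Fin 192 => m b 14 = m 14 b ∧ m b v = m v b).card = 8 →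
        E.ι v ≠ k.1 * E.t * (k.1)⁻¹ := by
      intro v hv hcard hve
      have hex : ∀ b : Fin 192, ∃ c, m 14 b = m b 14 → E.ι c = k.1 * E.ι b * (k.1)⁻¹ := by
        intro b
        by_cases hb : m 14 b = m b 14
        · obtain ⟨c, hc⟩ := E.range (k.1 * E.ι b * (k.1)⁻¹) (hv _
            (Commute.mul_left (Commute.mul_left (E.mem_cx.mp k.2) ((E.commute_iff b 14).mpr hb.symm))
              (E.mem_cx.mp k.2).inv_left)
            (by rw [hve]; exact (Commute.conj_iff _).mpr (E.commute_t b)))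
          exact ⟨c, fun _ => hc⟩
        · exact ⟨0, fun h' => absurd h' hb⟩
      choose f hf using hex
      have := Finset.card_le_card_of_injOn (s := Finset.univ.filter fun b : Fin 192 => m 14 b = m b 14)
        (t := Finset.univ.filter fun b : Fin 192 => m b 14 = m 14 b ∧ m b v = m v b) f
        (fun b hb => by
          simp only [Finset.coe_filter, Finset.mem_univ, true_and] at hb ⊢
          refine ⟨(E.commute_iff _ _).mp ?_, (E.commute_iff _ _).mp ?_⟩
          · rw [hf b hb]
            exact Commute.mul_left (Commute.mul_left (E.mem_cx.mp k.2)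
              ((E.commute_iff b 14).mpr hb.symm)) (E.mem_cx.mp k.2).inv_left
          · rw [hf b hb, hve]
            exact (Commute.conj_iff _).mpr (E.commute_t b))
        (fun b hb c hc hbc => by
          simp only [Finset.coe_filter, Finset.mem_univ, true_and] at hb hc
          have h' := hf b hb
          rw [hbc, hf c hc, mul_left_inj, mul_right_inj] at h'
          exact E.inj h'.symm)
      rw [show (Finset.univ.filter fun b : Fin 192 => m 14 b = m b 14).card = 16 from c14, hcard] at this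
      omega
    rcases E.cl_cases hcl with rfl | ⟨h, -⟩ | ⟨-, h⟩ | ⟨-, h⟩
    · exact Subtype.ext hae'.symm
    · rcases htwo a ha h with rfl | rfl
      · exact absurd hae' (small 2 hcw c_zw_card)
      · exact absurd hae' (small 3 hcv hcard3)
    · exact absurd h E.not_cl_x
    · exact absurd h h16
  obtain ⟨N, hN, hodd, hcom⟩ := Cfsg.Agent.S0215.result P z hz2 hzP hiso
  -- fixed-point-free action of three involutions on the odd normal subgroup
  have hinv : ∀ v : Fin 192, ∀ hv : m v 14 = m 14 v, typ v ≠ 0 →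
      (∀ h : G, Commute h (E.ι 14) → Commute h (E.ι v) → Commute h E.t) →
      ∀ o : E.cx, o ∈ N → E.inCx v hv * o * (E.inCx v hv)⁻¹ = o⁻¹ := by
    intro v hv hv0 hvt o ho
    let V := E.inCx v hv
    have hV : V * V = 1 := Subtype.ext (by
      show E.ι v * E.ι v = 1
      exact H65.mul_self_of_two (E.orderOf_ι.mpr hv0))
    let φ : N →* N :=
      { toFun := fun o => ⟨V * o.1 * V⁻¹, hN.conj_mem _ o.2 V⟩
        map_one' := Subtype.ext (by simp)
        map_mul' := fun a b => Subtype.ext (by push_cast; group) }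
    have hfix : MonoidHom.FixedPointFree φ := by
      intro o ho'
      have hoc : V * o.1 * V⁻¹ = o.1 := congrArg Subtype.val ho'
      have hct : Commute o.1.1 (E.ι v) := by
        have := congrArg Subtype.val (mul_inv_eq_iff_eq_mul.mp hoc)
        exact this.symm
      obtain ⟨a, ha⟩ := E.range _ (hvt _ (E.mem_cx.mp o.1.2) hct)
      have hoP : o.1 ∈ E.px := E.mem_px.mpr ⟨a, (E.commute_iff a 14).mp (ha ▸ E.mem_cx.mp o.1.2), ha⟩
      have h1 : orderOf o.1 ∣ 16 := E.card_px ▸ Subgroup.orderOf_dvd_natCard _ hoP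
      have h2 : orderOf o.1 ∣ Nat.card N := Subgroup.orderOf_dvd_natCard _ o.2
      have h3 : Nat.Coprime 16 (Nat.card N) :=
        (Nat.Coprime.pow_left 4 (Nat.coprime_two_left.mpr hodd) : Nat.Coprime (2 ^ 4) _)
      exact Subtype.ext (orderOf_eq_one_iff.mp (Nat.eq_one_of_dvd_coprimes h3 h1 h2))
    have hi : Function.Involutive φ := fun o => Subtype.ext (by
      show V * (V * o.1 * V⁻¹) * V⁻¹ = o.1
      rw [inv_eq_of_mul_eq_one_right hV]
      calc V * (V * o.1 * V) * V = (V * V) * o.1 * (V * V) := by group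
        _ = o.1 := by rw [hV]; group)
    exact congrArg Subtype.val (congrFun (hfix.coe_eq_inv_of_involutive hi) ⟨o, ho⟩)
  have hNbot : N = ⊥ := by
    rw [Subgroup.eq_bot_iff_forall]
    intro o ho
    have i1 := hinv 1 x1.symm (by decide +kernel) (fun h _ hh => hh) o ho
    have i2 := hinv 2 x2.symm (by decide +kernel) hcw o ho
    have i2' := hinv 2 x2.symm (by decide +kernel) hcw o⁻¹ (N.inv_mem ho)
    have i3 := hinv 3 x3.symm (by decide +kernel) hcv o ho
    have e : E.inCx 3 x3.symm = E.inCx 1 x1.symm * E.inCx 2 x2.symm := Subtype.ext (by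
      show E.ι 3 = E.ι 1 * E.ι 2
      rw [← E.hom]
      exact congrArg E.ι (by decide +kernel))
    have hsq : o = o⁻¹ := by
      conv_rhs => rw [← i3, e]
      calc o = (E.inCx 1 x1.symm * o * (E.inCx 1 x1.symm)⁻¹)⁻¹ := by rw [i1, inv_inv]
        _ = E.inCx 1 x1.symm * o⁻¹ * (E.inCx 1 x1.symm)⁻¹ := by group
        _ = E.inCx 1 x1.symm * (E.inCx 2 x2.symm * o * (E.inCx 2 x2.symm)⁻¹) *
            (E.inCx 1 x1.symm)⁻¹ := by rw [i2]
        _ = _ := by group
    have h2 : orderOf o ∣ 2 := orderOf_dvd_of_pow_eq_one (by rw [pow_two]; exact eq_inv_iff_mul_eq_one.mp hsq)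
    have h3 : orderOf o ∣ Nat.card N := Subgroup.orderOf_dvd_natCard _ ho
    exact orderOf_eq_one_iff.mp (Nat.eq_one_of_dvd_coprimes (Nat.coprime_two_left.mpr hodd) h2 h3)
  have hX : ∀ h : G, Commute h (E.ι 14) → Commute h E.t := by
    intro h hh
    have := hcom ⟨h, E.mem_cx.mpr hh⟩
    rw [hNbot, Subgroup.mem_bot, mul_inv_eq_one, mul_inv_eq_iff_eq_mul] at this
    exact (congrArg Subtype.val this).symm
  -- every conjugate of the central involution commutes with it
  intro u hu
  have hu2 := H65.two_of_isConj E.orderOf_t hu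
  have hne : ¬ IsConj u (E.ι 14) := fun h => E.not_cl_x (hu.trans h)
  obtain ⟨-, i, hi, hiu, hix, -⟩ := H65.exists_commuting_of_not_isConj hu2
    (E.orderOf_ι.mpr (by decide +kernel)) hne
  obtain ⟨a, ha⟩ := E.range i (hX i hix)
  have ha14 : m a 14 = m 14 a := (E.commute_iff a 14).mp (ha ▸ hix)
  have hat : typ a ≠ 0 := E.orderOf_ι.mp (ha ▸ hi)
  have h4 := hnoU a ha14
  have hle := (typ_spec a).2.1
  -- move `a` to its representative inside the centralizer of the central involution
  set l := wit a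
  have hl : E.ι l * E.ι a * (E.ι l)⁻¹ = E.ι (rep (typ a)) := by
    rw [← E.ι_cj, (typ_spec a).2.2.2 hat]
  have hul : Commute (E.ι l * u * (E.ι l)⁻¹) (E.ι (rep (typ a))) := by
    rw [← hl, ha]
    exact (Commute.conj_iff _).mpr hiu.symm
  suffices hk : Commute (E.ι l * u * (E.ι l)⁻¹) E.t by
    have e0 : E.ι l * E.t * (E.ι l)⁻¹ = E.t := by rw [(E.commute_t l).eq, mul_inv_cancel_right]
    rw [← e0] at hk
    exact (Commute.conj_iff _).mp hk
  rcases (show typ a = 1 ∨ typ a = 2 ∨ typ a = 3 by omega) with e | e | e <;> rw [e] at hul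
  · exact hul
  · -- transport the centralizer of 2 to that of 1
    set v := E.ι l * u * (E.ι l)⁻¹
    have hv : Commute (g * v * g⁻¹) E.t := by rw [← hg2]; exact (Commute.conj_iff g).mpr hul
    obtain ⟨b, hb⟩ := E.range _ hv
    have hcb : E.Cl b := by
      refine hu.trans (isConj_iff.mpr ⟨g * E.ι l, ?_⟩)
      rw [hb]; simp only [v]; group
    have hb32 : b.val < 32 := by
      rcases E.cl_cases hcb with rfl | ⟨h, -⟩ | ⟨-, h⟩ | ⟨-, h⟩
      · decide
      · exact hlt b h
      · exact absurd h E.not_cl_x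
      · exact absurd h h16
    have hb2 : Commute (E.ι b) (E.ι 2) := (E.commute_iff b 2).mpr ((cent_w b).mpr hb32)
    rw [hb, ← (show g * E.t * g⁻¹ = E.ι 2 from hg1)] at hb2
    exact (Commute.conj_iff g).mp hb2
  · exact hX _ hul

theorem not_cl_u_impossible [Finite G] [IsSimpleGroup G] : E.Cl 16 := by
  by_contra h16
  have hall := E.commute_all_of_not_cl_u E.cl_two h16
  -- the normal closure of the central involution centralizes it
  have hle : Subgroup.normalClosure ({E.t} : Set G) ≤ Subgroup.centralizer ({E.t} : Set G) := by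
    rw [Subgroup.normalClosure, Subgroup.closure_le]
    intro u hu
    rw [Group.mem_conjugatesOfSet_iff] at hu
    obtain ⟨a, ha, hau⟩ := hu
    rw [Set.mem_singleton_iff] at ha
    exact Subgroup.mem_centralizer_singleton_iff.mpr (hall u (ha ▸ hau))
  rcases (Subgroup.normalClosure_normal (s := ({E.t} : Set G))).eq_bot_or_eq_top with hb | ht
  · have : E.t ∈ Subgroup.normalClosure ({E.t} : Set G) :=
      Subgroup.subset_normalClosure (Set.mem_singleton _)
    rw [hb, Subgroup.mem_bot] at this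
    exact H65.ne_one_of_two E.orderOf_t this
  · exact E.not_central fun h =>
      Subgroup.mem_centralizer_singleton_iff.mp (hle (ht ▸ Subgroup.mem_top h))

end H78.MTwelve.Emb
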