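import Cfsg.Agent.H78.MTwelve.ThirdGenerator
import Cfsg.Agent.H78.MTwelve.Letters
import Cfsg.Agent.H67.SECount

/-! Recognition of the Mathieu group of degree 12 from the centralizer of a 2-central involution. -/

set_option autoImplicit false
set_option linter.style.haveILetI false

namespace H78.MTwelve

/-- Values of the letters. -/
def evalLetter {G : Type*} [Group G] (F : Frame G) (b : G) (i : Nat) : G :=
  [F.ι 2, F.ι 14, F.ι 32, F.ι 85, F.ι 16, F.ι 41, F.g, b, F.ι (iv 85), b⁻¹].getD i 1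

namespace Frame

variable {G : Type*} [Group G] (F : Frame G)

theorem eval_tab (b : G) {i : Nat} (h : isTab i = true) : evalLetter F b i = F.ι (letter i) := by
  rcases (show i = 0 ∨ i = 1 ∨ i = 2 ∨ i = 3 ∨ i = 4 ∨ i = 5 ∨ i = 8 ∨ i = 6 ∨ i = 7 ∨ i = 9 ∨ 10 ≤ i by omega)
    with rfl | rfl | rfl | rfl | rfl | rfl | rfl | rfl | rfl | rfl | h'
  all_goals first
    | rfl
    | exact absurd h (by decide)
    | (rw [show evalLetter F b 8 = F.ι (iv 85) from rfl, show letter 8 = iv 85 by decide +kernel])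
    | (exfalso
       rw [isTab, List.getD_eq_default _ _ (by simpa [letters] using h')] at h
       exact absurd h (by decide))

theorem prod_tab (b : G) : ∀ w : List Nat, w.all isTab = true →
    (w.map (evalLetter F b)).prod = F.ι (tabWord w) := by
  intro w
  induction w with
  | nil => intro _; exact F.toEmb.ι_zero.symm
  | cons i w ih =>
    intro h
    rw [List.all_cons, Bool.and_eq_true] at h
    rw [List.map_cons, List.prod_cons, F.eval_tab b h.1, ih h.2, tabWord, F.hom]

theorem merge (a c : Fin 192) (x : G) : F.ι a * (F.ι c * x) = F.ι (m a c) * x := by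
  rw [F.hom, mul_assoc]

theorem gag {a : Fin 192} (ha : a.val < 32) (x : G) : F.g * (F.ι a * (F.g * x)) = F.ι (al a) * x := by
  have h : F.g * F.ι a * F.g⁻¹ = F.ι (al a) := F.maps_low ha
  rw [inv_eq_of_mul_eq_one_right F.g_sq] at h
  rw [← h]
  group

theorem gg (x : G) : F.g * (F.g * x) = x := by rw [← mul_assoc, F.g_sq, one_mul]

theorem mixed_prod {b : G} (hb : IsThird F b) :
    ∀ w ∈ mixedRels, (w.map (evalLetter F b)).prod = 1 := by
  intro w hw
  have bb : b⁻¹ * b = 1 := inv_mul_cancel b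
  fin_cases hw <;> simp only [List.map_cons, List.map_nil, List.prod_cons, List.prod_nil, evalLetter,
    List.getD_cons_zero, List.getD_cons_succ, mul_one]
  all_goals try simp only [← F.hom, F.merge]
  all_goals first
    | exact F.g_sq
    | exact mul_inv_cancel b
    | exact bb
    | (rw [← mul_assoc]; exact hb.cube)
    | (rw [F.gag (by decide +kernel), ← F.hom, ← F.toEmb.ι_zero]
       exact congrArg F.ι (by decide +kernel))
    | (have h := F.gs_cube
       rw [pow_succ, pow_two] at h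
       simpa [mul_assoc] using h)
    | (rw [F.toEmb.ι_inv, ← mul_assoc, ← hb.comm_X.eq]; group)
    | (rw [← mul_assoc b, hb.comm_s.eq]; simp [mul_assoc, ← mul_assoc (F.ι 32), F.s_sq])
    | (rw [← mul_assoc b, hb.comm_x.eq]; simp [mul_assoc, ← mul_assoc (F.ι 14), ← F.hom,
        show m 14 14 = 0 by decide +kernel, F.toEmb.ι_zero])
    | (have h := hb.twist
       simpa [mul_assoc] using h)
    | (have h := hb.inv_z
       rw [show m 2 (m 32 (m 2 32)) = 1 by decide +kernel]
       simpa [mul_assoc] using h)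

theorem rels_prod {b : G} (hb : IsThird F b) :
    ∀ w ∈ cert.rels, (w.map (evalLetter F b)).prod = 1 := by
  intro w hw
  rcases rels_split w hw with h | h
  · rw [F.prod_tab b w h, tabRels_spec w hw h, F.toEmb.ι_zero]
  · exact F.mixed_prod hb w h

theorem eval_flip (b : G) (i : Nat) :
    evalLetter F b (cert.flip i) = (evalLetter F b i)⁻¹ := by
  have hinv : ∀ a : Fin 192, m a a = 0 → F.ι a = (F.ι a)⁻¹ := fun a ha =>
    eq_inv_of_mul_eq_one_left (by rw [← F.hom, ha, F.toEmb.ι_zero])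
  rcases (show i = 0 ∨ i = 1 ∨ i = 2 ∨ i = 3 ∨ i = 4 ∨ i = 5 ∨ i = 8 ∨ i = 6 ∨ i = 7 ∨ i = 9 ∨ i = 10 ∨ 11 ≤ i by omega)
    with rfl | rfl | rfl | rfl | rfl | rfl | rfl | rfl | rfl | rfl | rfl | h'
  all_goals first
    | exact hinv _ (by decide +kernel)
    | exact F.toEmb.ι_inv 85
    | (show F.ι 85 = (F.ι (iv 85))⁻¹; rw [F.toEmb.ι_inv, inv_inv])
    | exact eq_inv_of_mul_eq_one_left F.g_sq
    | exact rfl
    | exact (inv_inv b).symm
    | exact inv_one.symm
    | (have e : cert.flip i = i := List.getD_eq_default _ _ (show cert.inv.length ≤ i from h')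
       rw [e, evalLetter, List.getD_eq_default _ _ (by simp only [List.length]; omega), inv_one])

theorem eval_eps (b : G) : evalLetter F b cert.eps = 1 := rfl

theorem ι_mem_closure (b : G) (a : Fin 192) :
    F.ι a ∈ Subgroup.closure (evalLetter F b '' {i | i ∈ cert.gens}) := by
  obtain ⟨h1, h2, h3⟩ := wordsL_spec a
  rw [← h3, ← F.prod_tab b _ h1]
  refine Subgroup.list_prod_mem _ fun x hx => ?_
  obtain ⟨i, hi, rfl⟩ := List.mem_map.mp hx
  have := List.all_eq_true.mp h2 i hi
  rw [Bool.or_eq_true, List.contains_iff_mem, beq_iff_eq] at this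
  rcases this with h | rfl
  · exact Subgroup.subset_closure ⟨i, h, rfl⟩
  · show F.ι (iv 85) ∈ _
    rw [F.toEmb.ι_inv]
    exact inv_mem (Subgroup.subset_closure ⟨3, by decide, rfl⟩)

variable [Finite G]

/-- The frame generators generate. -/
theorem exists_generating : ∃ b : G, IsThird F b ∧
    Subgroup.closure (evalLetter F b '' {i | i ∈ cert.gens}) = ⊤ := by
  obtain ⟨b, hb, hbig⟩ := F.exists_third
  refine ⟨b, hb, ?_⟩
  set H := Subgroup.closure (evalLetter F b '' {i | i ∈ cert.gens})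
  have hι : ∀ a, F.ι a ∈ H := F.ι_mem_closure b
  have hg : F.g ∈ H := Subgroup.subset_closure ⟨6, by decide, rfl⟩
  have hbH : b ∈ H := Subgroup.subset_closure ⟨7, by decide, rfl⟩
  have hCx : ∀ c : G, Commute c (F.ι 14) → c ∈ H := fun c hc =>
    hbig H hι hg hbH (F.toEmb.mem_cx.mpr hc)
  have hCt : ∀ c : G, Commute c F.toEmb.t → c ∈ H := fun c hc => by
    obtain ⟨a, rfl⟩ := F.range c hc
    exact hι a
  by_contra hne
  -- every involution of the subgroup is conjugate inside it to 1 or 14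
  have hstep : ∀ a : Fin 192, typ a ≠ 0 → ∃ h ∈ H, ∃ j : Fin 192, (j = 1 ∨ j = 14) ∧
      h * F.ι a * h⁻¹ = F.ι j := by
    have toRep : ∀ a : Fin 192, typ a ≠ 0 →
        F.ι (wit a) * F.ι a * (F.ι (wit a))⁻¹ = F.ι (rep (typ a)) := fun a ha => by
      rw [← F.toEmb.ι_cj, (typ_spec a).2.2.2 ha]
    have g2 : F.g * F.ι 2 * F.g⁻¹ = F.ι 1 := by
      have h := F.maps_low (b := 2) (by decide)
      rwa [show al 2 = 1 by decide +kernel] at h
    have g4 : F.g * F.ι 4 * F.g⁻¹ = F.ι 18 := by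
      have h := F.maps_low (b := 4) (by decide)
      rwa [show al 4 = 18 by decide +kernel] at h
    intro a ha
    have hle := (typ_spec a).2.1
    have h0 := toRep a ha
    rcases (show typ a = 1 ∨ typ a = 2 ∨ typ a = 3 ∨ typ a = 4 by omega) with e | e | e | e <;>
      rw [e] at h0
    · exact ⟨_, hι _, 1, Or.inl rfl, h0⟩
    · refine ⟨F.g * F.ι (wit a), mul_mem hg (hι _), 1, Or.inl rfl, ?_⟩
      rw [← g2, show F.ι 2 = F.ι (rep 2) from rfl, ← h0]; group
    · exact ⟨_, hι _, 14, Or.inr rfl, h0⟩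
    · have e18 := toRep 18 (by decide +kernel)
      have e4 := toRep 4 (by decide +kernel)
      rw [show typ 18 = 4 by decide +kernel] at e18
      rw [show typ 4 = 2 by decide +kernel] at e4
      refine ⟨F.g * F.ι (wit 4) * F.g⁻¹ * (F.ι (wit 18))⁻¹ * F.ι (wit a),
        mul_mem (mul_mem (mul_mem (mul_mem hg (hι _)) (inv_mem hg)) (inv_mem (hι _))) (hι _),
        1, Or.inl rfl, ?_⟩
      have e4' : F.g⁻¹ * F.ι 18 * F.g = F.ι 4 := by rw [← g4]; group
      calc _ = F.g * F.ι (wit 4) * (F.g⁻¹ * ((F.ι (wit 18))⁻¹ * (F.ι (wit a) * F.ι a * (F.ι (wit a))⁻¹) *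
            F.ι (wit 18)) * F.g) * (F.ι (wit 4))⁻¹ * F.g⁻¹ := by group
        _ = F.g * F.ι (wit 4) * (F.g⁻¹ * F.ι 18 * F.g) * (F.ι (wit 4))⁻¹ * F.g⁻¹ := by
          rw [h0, ← e18]; group
        _ = F.g * (F.ι (wit 4) * F.ι 4 * (F.ι (wit 4))⁻¹) * F.g⁻¹ := by rw [e4']; group
        _ = F.ι 1 := by rw [e4]; exact g2
  haveI : Fact (Nat.Prime 2) := ⟨Nat.prime_two⟩
  have hinH : ∀ i ∈ H, orderOf i = 2 → ∃ h ∈ H, ∃ j : Fin 192, (j = 1 ∨ j = 14) ∧
      h * i * h⁻¹ = F.ι j := by
    intro i hiH hi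
    obtain ⟨P, hP⟩ := F.toEmb.exists_sylow
    have hle : (P : Subgroup G) ≤ H := by
      rw [hP]
      rintro _ ⟨a, -, rfl⟩
      exact hι a
    have hiso : orderOf (⟨i, hiH⟩ : H) = 2 := by rw [← Subgroup.orderOf_coe]; exact hi
    have hz : IsPGroup 2 (Subgroup.zpowers (⟨i, hiH⟩ : H)) :=
      IsPGroup.of_card (n := 1) (by rw [Nat.card_zpowers, hiso]; norm_num)
    obtain ⟨Q, hQ⟩ := hz.exists_le_sylow
    obtain ⟨k, hk⟩ := MulAction.exists_smul_eq H Q (P.subtype hle)
    have hmem : k * ⟨i, hiH⟩ * k⁻¹ ∈ ((P.subtype hle : Sylow 2 H) : Subgroup H) := by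
      rw [← hk, Sylow.coe_subgroup_smul]
      exact Subgroup.smul_mem_pointwise_smul _ (MulAut.conj k) _ (hQ (Subgroup.mem_zpowers _))
    rw [Sylow.coe_subtype, Subgroup.mem_subgroupOf, hP] at hmem
    obtain ⟨a, -, ha⟩ := hmem
    have ha' : F.ι a = (k : G) * i * (k : G)⁻¹ := ha
    obtain ⟨h, hh, j, hj, he⟩ := hstep a (F.toEmb.orderOf_ι.mp (by rw [ha']; exact H65.two_conj hi _))
    refine ⟨h * k, mul_mem hh k.2, j, hj, ?_⟩
    rw [← he, ha']; group
  have hSE : Cfsg.IsStronglyEmbedded H := by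
    refine ⟨hne, ?_, fun k hk => ?_⟩
    · rw [even_iff_two_dvd, ← F.toEmb.orderOf_t]
      exact Subgroup.orderOf_dvd_natCard H (hι 1)
    · rw [← Nat.not_even_iff_odd, even_iff_two_dvd]
      intro h2
      obtain ⟨i, hi⟩ := exists_prime_orderOf_dvd_card' 2 h2
      have hi2 : orderOf (i : G) = 2 := by rw [Subgroup.orderOf_coe]; exact hi
      obtain ⟨hiH, hiK⟩ := Subgroup.mem_inf.mp i.2
      obtain ⟨i', hi'H, hi'e⟩ := Subgroup.mem_map.mp hiK
      have hi'e' : k * i' * k⁻¹ = (i : G) := hi'e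
      have hi'2 : orderOf i' = 2 := by
        have : i' = k⁻¹ * (i : G) * k⁻¹⁻¹ := by rw [← hi'e']; group
        rw [this]
        exact H65.two_conj hi2 _
      obtain ⟨h, hh, j, hj, he⟩ := hinH _ hiH hi2
      obtain ⟨h', hh', j', hj', he'⟩ := hinH _ hi'H hi'2
      have hcomb : (h * k * h'⁻¹) * F.ι j' * (h * k * h'⁻¹)⁻¹ = F.ι j := by
        rw [← he', ← he, ← hi'e']; group
      have hjj : j' = j := by
        rcases hj with rfl | rfl <;> rcases hj' with rfl | rfl
        · rfl
        · exact absurd (isConj_iff.mpr ⟨_, hcomb⟩).symm F.toEmb.not_cl_x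
        · exact absurd (isConj_iff.mpr ⟨_, hcomb⟩) F.toEmb.not_cl_x
        · rfl
      subst hjj
      have hcom : Commute (h * k * h'⁻¹) (F.ι j') := mul_inv_eq_iff_eq_mul.mp hcomb
      have hmem : h * k * h'⁻¹ ∈ H := by
        rcases hj' with rfl | rfl
        · exact hCt _ hcom
        · exact hCx _ hcom
      apply hk
      have : k = h⁻¹ * (h * k * h'⁻¹) * h' := by group
      rw [this]
      exact mul_mem (mul_mem (inv_mem hh) hmem) hh'
  exact F.toEmb.not_cl_x (H67.se_isConj hSE F.toEmb.orderOf_t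
    (F.toEmb.orderOf_ι.mpr (by rw [cent_u.2.2.2.1]; norm_num)))

end Frame

/-- Such a group is isomorphic to a simple one of order 95040 of the same kind. -/
theorem iso_of_frames {G G' : Type*} [Group G] [Finite G] [Group G'] [Finite G']
    [IsSimpleGroup G'] (F : Frame G) (F' : Frame G') (hcard : Nat.card G' = 95040) :
    Nonempty (G ≃* G') := by
  obtain ⟨b, hb, hgen⟩ := F.exists_generating
  obtain ⟨b', hb', hgen'⟩ := F'.exists_generating
  let e : Nat → G × G' := fun i => (evalLetter F b i, evalLetter F' b' i)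
  set K := Subgroup.closure (e '' {i | i ∈ cert.gens}) with hKdef
  let L : Subgroup (G × G') :=
    { carrier := Set.range fun a : Fin 192 => (F.ι a, F'.ι a)
      one_mem' := ⟨0, Prod.ext F.toEmb.ι_zero F'.toEmb.ι_zero⟩
      mul_mem' := by rintro _ _ ⟨a, rfl⟩ ⟨c, rfl⟩; exact ⟨m a c, Prod.ext (F.hom a c) (F'.hom a c)⟩
      inv_mem' := by rintro _ ⟨a, rfl⟩; exact ⟨iv a, Prod.ext (F.toEmb.ι_inv a) (F'.toEmb.ι_inv a)⟩ }
  have hV : cert.Valid e L := by
    refine ⟨rfl, fun i => Prod.ext (F.eval_flip b i) (F'.eval_flip b' i), fun w hw => ?_, fun i hi => ?_⟩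
    · refine Prod.ext ?_ ?_
      · rw [show ((w.map e).prod).1 = (w.map (evalLetter F b)).prod from
          (map_list_prod (MonoidHom.fst G G') _).trans (by rw [List.map_map]; rfl), F.rels_prod hb w hw]
        rfl
      · rw [show ((w.map e).prod).2 = (w.map (evalLetter F' b')).prod from
          (map_list_prod (MonoidHom.snd G G') _).trans (by rw [List.map_map]; rfl), F'.rels_prod hb' w hw]
        rfl
    · have hsub : ∀ i ∈ cert.sub, isTab i = true := by decide
      exact ⟨letter i, Prod.ext (F.eval_tab b (hsub i hi)).symm (F'.eval_tab b' (hsub i hi)).symm⟩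
  have hK : Nat.card K ≤ 95040 := by
    refine le_trans (Cert.card_le hV cert_facts cert_close) ?_
    rw [cert_live]
    have hL : Nat.card L ≤ 192 := (Finite.card_range_le (fun a : Fin 192 => (F.ι a, F'.ι a))).trans
      (le_of_eq (Nat.card_fin 192))
    exact Nat.mul_le_mul_right 495 hL
  have hp1 : K.map (MonoidHom.fst G G') = ⊤ := by
    rw [hKdef, MonoidHom.map_closure, ← Set.image_comp]; exact hgen
  have hp2 : K.map (MonoidHom.snd G G') = ⊤ := by
    rw [hKdef, MonoidHom.map_closure, ← Set.image_comp]; exact hgen'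
  have hbig : 192 ≤ Nat.card G := by
    have := Nat.card_le_card_of_injective F.ι F.inj
    rwa [Nat.card_fin] at this
  let π1 : K →* G := (MonoidHom.fst G G').comp K.subtype
  let π2 : K →* G' := (MonoidHom.snd G G').comp K.subtype
  have s1 : Function.Surjective π1 := fun x => by
    have : x ∈ K.map (MonoidHom.fst G G') := hp1 ▸ Subgroup.mem_top x
    obtain ⟨p, hp, rfl⟩ := this
    exact ⟨⟨p, hp⟩, rfl⟩
  have s2 : Function.Surjective π2 := fun x => by
    have : x ∈ K.map (MonoidHom.snd G G') := hp2 ▸ Subgroup.mem_top x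
    obtain ⟨p, hp, rfl⟩ := this
    exact ⟨⟨p, hp⟩, rfl⟩
  have i2 : Function.Injective π2 :=
    ((Nat.bijective_iff_surjective_and_card π2).mpr ⟨s2, le_antisymm (by rw [hcard]; exact hK)
      (Nat.card_le_card_of_surjective π2 s2)⟩).1
  let e2 : K ≃* G' := MulEquiv.ofBijective π2 ⟨i2, s2⟩
  haveI : Nontrivial K := e2.toEquiv.nontrivial
  haveI : IsSimpleGroup K :=
    IsSimpleGroup.isSimpleGroup_of_surjective e2.symm.toMonoidHom e2.symm.surjective
  have i1 : Function.Injective π1 := by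
    rw [← MonoidHom.ker_eq_bot_iff]
    refine (MonoidHom.normal_ker π1).eq_bot_or_eq_top.resolve_right fun h => ?_
    have h1 : Nat.card G = 1 := by
      rw [← Subgroup.card_top (G := G), ← MonoidHom.range_eq_top.mpr s1,
        MonoidHom.range_eq_map, show Subgroup.map π1 ⊤ = ⊥ by
          rw [Subgroup.eq_bot_iff_forall]
          rintro _ ⟨k, -, rfl⟩
          exact MonoidHom.mem_ker.mp (h ▸ Subgroup.mem_top k),
        Subgroup.card_bot]
    omega
  exact ⟨(MulEquiv.ofBijective π1 ⟨i1, s1⟩).symm.trans e2⟩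

end H78.MTwelve
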