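import Cfsg.Agent.H78.MTwelve.LocalGroup
import Cfsg.Agent.S0213

/-! A normal elementary abelian subgroup of order 8 in the index 2 subgroup of the centralizer of 14
contradicts the order formula. -/

set_option autoImplicit false
set_option linter.unusedSimpArgs false
set_option linter.style.haveILetI false

namespace H78.MTwelve

open scoped Classical

/-- Two involutions in one cyclic group are equal. -/
theorem eq_of_mem_zpowers {G : Type*} [Group G] [Finite G] {c x y : G}
    (hx : x ∈ Subgroup.zpowers c) (hy : y ∈ Subgroup.zpowers c) (hx2 : orderOf x = 2)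
    (hy2 : orderOf y = 2) : x = y := by
  have key : ∀ z, z ∈ Subgroup.zpowers c → orderOf z = 2 → z = c ^ (orderOf c / 2) := by
    intro z hz hz2
    rw [← mem_powers_iff_mem_zpowers] at hz
    obtain ⟨i, rfl⟩ := hz
    show c ^ i = c ^ (orderOf c / 2)
    simp only at hz2 ⊢
    rw [← pow_mod_orderOf c i] at hz2 ⊢
    set n := orderOf c
    have hn : 0 < n := orderOf_pos c
    have hlt := Nat.mod_lt i hn
    have h1 : c ^ (i % n) ≠ 1 := fun h => by simp [h] at hz2
    have h2 : c ^ (i % n + i % n) = 1 := by rw [pow_add]; exact H65.mul_self_of_two hz2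
    have hd : n ∣ i % n + i % n := orderOf_dvd_of_pow_eq_one h2
    have hpos : i % n ≠ 0 := fun h => h1 (by rw [h, pow_zero])
    obtain ⟨q, hq⟩ := hd
    have : q = 1 := by
      rcases q with _ | _ | q
      · omega
      · rfl
      · have : n * 2 ≤ n * (q + 1 + 1) := Nat.mul_le_mul_left _ (by omega)
        omega
    subst this
    congr 1
    omega
  rw [key x hx hx2, key y hy hy2]

namespace Emb

variable {G : Type*} [Group G] [Finite G] (E : Emb G)

omit [Finite G] in
theorem ι_powm (b : Fin 192) (n : ℕ) : E.ι (powm b n) = E.ι b ^ n := by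
  induction n with
  | zero => rw [powm, E.ι_zero, pow_zero]
  | succ n ih => rw [powm, E.hom, ih, pow_succ]

theorem reachesOne_iff (b : Fin 192) : reachesOne b = true ↔ E.t ∈ Subgroup.zpowers (E.ι b) := by
  simp only [reachesOne, List.any_eq_true, List.mem_range, beq_iff_eq]
  constructor
  · rintro ⟨n, -, hn⟩
    have : E.t = E.ι b ^ n := by rw [← E.ι_powm, hn]
    rw [this]
    exact Subgroup.npow_mem_zpowers _ _
  · intro h
    rw [← mem_powers_iff_mem_zpowers] at h
    obtain ⟨n, hn⟩ := h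
    refine ⟨n % 24, Nat.mod_lt _ (by norm_num), E.inj ?_⟩
    have h24 : E.ι b ^ 24 = 1 := by rw [← E.ι_powm, powm_period, E.ι_zero]
    rw [E.ι_powm, ← pow_eq_pow_mod n h24]
    exact hn

omit [Finite G] in
/-- An involution inverting `p` commutes with the involutions among the powers of `p`. -/
theorem commute_of_inverts {u v i : G} (hu : u * u = 1) (hv : v * v = 1) (hi : i * i = 1)
    (hmem : i ∈ Subgroup.zpowers (u * v)) : Commute u i ∧ Commute v i := by
  obtain ⟨k, rfl⟩ := Subgroup.mem_zpowers_iff.mp hmem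
  have hinv : ((u * v) ^ k)⁻¹ = (u * v) ^ k := inv_eq_of_mul_eq_one_right hi
  have hu' : u⁻¹ = u := inv_eq_of_mul_eq_one_right hu
  have hv' : v⁻¹ = v := inv_eq_of_mul_eq_one_right hv
  constructor
  · refine mul_inv_eq_iff_eq_mul.mp ?_
    rw [← conj_zpow, show u * (u * v) * u⁻¹ = (u * v)⁻¹ by
      rw [mul_inv_rev, hu', hv', ← mul_assoc, hu, one_mul], inv_zpow, hinv]
  · refine mul_inv_eq_iff_eq_mul.mp ?_
    rw [← conj_zpow, show v * (u * v) * v⁻¹ = (u * v)⁻¹ by
      rw [mul_inv_rev, hu', hv']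
      calc v * (u * v) * v = v * u * (v * v) := by group
        _ = v * u := by rw [hv, mul_one]]
    rw [inv_zpow, hinv]

end Emb

namespace Frame

variable {G : Type*} [Group G] [Finite G] (F : Frame G)

/-- Fused to the central involution. -/
def Fused (u : G) : Prop := IsConj F.toEmb.t u

omit [Finite G] in
theorem fused_cases {b : Fin 192} (hb : m b 14 = m 14 b) (h : F.toEmb.Cl b) : b = 1 ∨ b = 2 ∨ b = 3 := by
  rcases F.toEmb.cl_cases h with e | ⟨e, -⟩ | ⟨-, e⟩ | ⟨e, -⟩
  · exact Or.inl e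
  · exact Or.inr (cx_facts.2.2.2.1 b hb e)
  · exact absurd e F.toEmb.not_cl_x
  · exact absurd e (cx_facts.2.2.1 b hb)

omit [Finite G] in
/-- Membership in the three nontrivial four-group elements. -/
def InV (u : G) : Prop := u = F.ι 1 ∨ u = F.ι 2 ∨ u = F.ι 3

omit [Finite G] in
theorem inV_conj_a {u : G} (h : F.InV u) : F.InV (F.a * u * F.a⁻¹) := by
  obtain ⟨m1, m2, m3⟩ := F.a_maps
  rcases h with rfl | rfl | rfl
  · exact Or.inr (Or.inl m1)
  · exact Or.inr (Or.inr m2)
  · exact Or.inl m3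

omit [Finite G] in
theorem inV_conj_px {p : F.toEmb.cx} (hp : p ∈ F.toEmb.px) {u : G} (h : F.InV u) :
    F.InV (p.1 * u * (p.1)⁻¹) := by
  obtain ⟨b, hb, hbe⟩ := F.toEmb.mem_px.mp hp
  obtain ⟨h2, h3, -⟩ := q_norm b hb
  have e : ∀ j, p.1 * F.ι j * (p.1)⁻¹ = F.ι (cj b j) := fun j => by rw [← hbe, F.toEmb.ι_cj]
  rcases h with rfl | rfl | rfl <;> rw [e]
  · left
    rw [show cj b 1 = 1 from F.inj (by
      rw [F.toEmb.ι_cj, (F.toEmb.commute_t b).eq, mul_inv_cancel_right])]
  · rcases h2 with e2 | e2 <;> rw [e2]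
    · exact Or.inr (Or.inl rfl)
    · exact Or.inr (Or.inr rfl)
  · rcases h3 with e2 | e2 <;> rw [e2]
    · exact Or.inr (Or.inl rfl)
    · exact Or.inr (Or.inr rfl)

omit [Finite G] in
/-- The centralizer of 14 is covered by three cosets. -/
theorem cover {M : Subgroup F.toEmb.cx} (hM2 : M.index = 2) (hsM : F.sC ∉ M) (_hzM : F.zC ∈ M)
    (_hMQ : M ⊓ F.toEmb.px = F.q8) (hnorm : ∀ k ∈ M, k * F.zC * k⁻¹ ∈ F.q8) (c : F.toEmb.cx) :
    ∃ i : Fin 3, ∃ p ∈ F.toEmb.px, c = F.aC ^ i.val * p := by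
  obtain ⟨m1, m2, m3⟩ := F.a_maps
  have hM : ∀ k ∈ M, ∃ i : Fin 3, ∃ p ∈ F.toEmb.px, k = F.aC ^ i.val * p := by
    intro k hk
    obtain ⟨b, hb, -, hbe⟩ := F.mem_q8.mp (hnorm k hk)
    have hbe' : F.ι b = k.1 * F.toEmb.t * (k.1)⁻¹ := hbe
    have hcl : F.toEmb.Cl b := isConj_iff.mpr ⟨_, hbe'.symm⟩
    have hi : ∃ i : Fin 3, (F.a ^ i.val) * F.toEmb.t * (F.a ^ i.val)⁻¹ = F.ι b := by
      rcases F.fused_cases hb hcl with rfl | rfl | rfl
      · exact ⟨0, by simp⟩
      · exact ⟨1, by rw [show ((1 : Fin 3) : ℕ) = 1 from rfl, pow_one]; exact m1⟩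
      · refine ⟨2, ?_⟩
        rw [show ((2 : Fin 3) : ℕ) = 2 from rfl, pow_two]
        exact Emb.Maps.trans _ m1 m2
    obtain ⟨i, hi⟩ := hi
    refine ⟨i, (F.aC ^ i.val)⁻¹ * k, ?_, by group⟩
    have hc : Commute ((F.a ^ i.val)⁻¹ * k.1) F.toEmb.t := by
      refine mul_inv_eq_iff_eq_mul.mp ?_
      calc _ = (F.a ^ i.val)⁻¹ * (k.1 * F.toEmb.t * (k.1)⁻¹) * (F.a ^ i.val) := by group
        _ = _ := by rw [← hbe', ← hi]; group
    rw [Subgroup.mem_subgroupOf]
    exact Subgroup.mem_centralizer_singleton_iff.mpr hc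
  by_cases hc : c ∈ M
  · exact hM c hc
  · obtain ⟨i, p, hp, he⟩ := hM (c * F.sC)
      ((Subgroup.mul_mem_iff_of_index_two hM2).mpr (iff_of_false hc hsM))
    exact ⟨i, p * F.sC⁻¹, F.toEmb.px.mul_mem hp (F.toEmb.px.inv_mem (F.toEmb.inCx_mem 32 _)),
      by rw [← mul_assoc, ← he, mul_inv_cancel_right]⟩

theorem solvable_local_false {M : Subgroup F.toEmb.cx} (hM2 : M.index = 2) (hsM : F.sC ∉ M)
    (hzM : F.zC ∈ M) (hMQ : M ⊓ F.toEmb.px = F.q8) (hnorm : ∀ k ∈ M, k * F.zC * k⁻¹ ∈ F.q8) :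
    False := by
  haveI : Fact (Nat.Prime 2) := ⟨Nat.prime_two⟩
  have hcov := F.cover hM2 hsM hzM hMQ hnorm
  have hC : Nat.card F.toEmb.cx ≤ 48 := by
    have hs : Function.Surjective (fun p : Fin 3 × F.toEmb.px => F.aC ^ p.1.val * (p.2 : F.toEmb.cx)) :=
      fun c => by
        obtain ⟨i, p, hp, he⟩ := hcov c
        exact ⟨(i, ⟨p, hp⟩), he.symm⟩
    have := Nat.card_le_card_of_surjective _ hs
    rw [Nat.card_prod, Nat.card_fin, F.toEmb.card_px] at this
    exact this
  -- fused elements centralizing 14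
  have hfus : ∀ u : G, Commute u (F.ι 14) → F.Fused u → F.InV u := by
    intro u hu hf
    set uC : F.toEmb.cx := ⟨u, F.toEmb.mem_cx.mpr hu⟩
    obtain ⟨P, hP⟩ := F.toEmb.exists_sylow_cx
    have hu2 : orderOf uC = 2 := by
      rw [← Subgroup.orderOf_coe]; exact H65.two_of_isConj F.toEmb.orderOf_t hf
    have hz : IsPGroup 2 (Subgroup.zpowers uC) :=
      IsPGroup.of_card (n := 1) (by rw [Nat.card_zpowers, hu2]; norm_num)
    obtain ⟨Q, hQ⟩ := hz.exists_le_sylow
    obtain ⟨k, hk⟩ := MulAction.exists_smul_eq F.toEmb.cx Q P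
    have hmem : k * uC * k⁻¹ ∈ F.toEmb.px := by
      rw [← hP, ← hk, Sylow.coe_subgroup_smul]
      exact Subgroup.smul_mem_pointwise_smul uC (MulAut.conj k) _ (hQ (Subgroup.mem_zpowers uC))
    obtain ⟨b, hb, hbe⟩ := F.toEmb.mem_px.mp hmem
    have hbe' : F.ι b = k.1 * u * (k.1)⁻¹ := hbe
    have hV : F.InV (F.ι b) := by
      rcases F.fused_cases hb (hf.trans (isConj_iff.mpr ⟨_, hbe'.symm⟩)) with rfl | rfl | rfl
      · exact Or.inl rfl
      · exact Or.inr (Or.inl rfl)
      · exact Or.inr (Or.inr rfl)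
    obtain ⟨i, p, hp, he⟩ := hcov k⁻¹
    have e : u = F.a ^ i.val * (p.1 * F.ι b * (p.1)⁻¹) * (F.a ^ i.val)⁻¹ := by
      have he' : (k.1)⁻¹ = F.a ^ i.val * p.1 := congrArg Subtype.val he
      calc u = (k.1)⁻¹ * (k.1 * u * (k.1)⁻¹) * k.1 := by group
        _ = _ := by rw [← hbe', he', show k.1 = (F.a ^ i.val * p.1)⁻¹ by rw [← he', inv_inv]]; group
    rw [e]
    have h1 := F.inV_conj_px hp hV
    have h2 : ∀ n : ℕ, ∀ w : G, F.InV w → F.InV (F.a ^ n * w * (F.a ^ n)⁻¹) := by
      intro n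
      induction n with
      | zero => intro w hw; simpa using hw
      | succ n ih =>
        intro w hw
        rw [pow_succ', mul_inv_rev, show F.a * F.a ^ n * w * ((F.a ^ n)⁻¹ * F.a⁻¹) =
          F.a * (F.a ^ n * w * (F.a ^ n)⁻¹) * F.a⁻¹ by group]
        exact F.inV_conj_a (ih w hw)
    exact h2 _ _ h1
  -- the two involution classes
  have hx2 : orderOf (F.ι 14) = 2 := F.toEmb.orderOf_ι.mpr (by rw [cent_u.2.2.2.1]; norm_num)
  have hall : ∀ i : G, orderOf i = 2 → IsConj F.toEmb.t i ∨ IsConj (F.ι 14) i := by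
    intro i hi
    obtain ⟨b, hb, hib⟩ := F.toEmb.exists_conj_table hi
    by_cases hcb : F.toEmb.Cl b
    · exact Or.inl (hcb.trans hib.symm)
    · refine Or.inr (IsConj.trans (isConj_iff.mpr ⟨(F.ι (wit b))⁻¹, ?_⟩) hib.symm)
      have h3 : typ b = 3 := by
        have := (typ_spec b).2.1
        by_contra h
        exact hcb ((F.toEmb.clB_iff F.cl16 b).mp (by simp [clB]; omega))
      have := congrArg F.ι ((typ_spec b).2.2.2 hb)
      rw [F.toEmb.ι_cj, h3] at this
      rw [show F.ι 14 = F.ι (rep 3) from rfl, ← this]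
      group
  have hord := Cfsg.Agent.S0213.result F.toEmb.t (F.ι 14) F.toEmb.orderOf_t hx2 F.toEmb.not_cl_x hall
  rw [F.toEmb.card_centralizer] at hord
  -- pairs with the central involution among the powers
  have hn1 : Nat.card {p : G × G // IsConj F.toEmb.t p.1 ∧ IsConj (F.ι 14) p.2 ∧
      F.toEmb.t ∈ Subgroup.zpowers (p.1 * p.2)} ≤ 240 := by
    rw [← card_zPairs, ← Fintype.card_coe, ← Nat.card_eq_fintype_card]
    refine Nat.card_le_card_of_surjective
      (fun q : zPairs => ⟨(F.ι q.1.1, F.ι q.1.2), ?_⟩) ?_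
    · obtain ⟨h1, h2⟩ := Finset.mem_filter.mp q.2
      obtain ⟨ha, hb⟩ := Finset.mem_product.mp h1
      refine ⟨(F.toEmb.clB_iff F.cl16 _).mp (Finset.mem_filter.mp ha).2, ?_, ?_⟩
      · have hb3 := (Finset.mem_filter.mp hb).2
        have := congrArg F.ι ((typ_spec q.1.2).2.2.2 (by omega))
        rw [F.toEmb.ι_cj, hb3] at this
        exact isConj_iff.mpr ⟨(F.ι (wit q.1.2))⁻¹,
          by rw [show F.ι 14 = F.ι (rep 3) from rfl, ← this]; group⟩
      · rw [← F.hom]; exact (F.toEmb.reachesOne_iff _).mp h2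
    · rintro ⟨⟨u, v⟩, hu, hv, hm⟩
      have hu2 := H65.two_of_isConj F.toEmb.orderOf_t hu
      have hv2 := H65.two_of_isConj hx2 hv
      obtain ⟨cu, cv⟩ := Emb.commute_of_inverts (H65.mul_self_of_two hu2) (H65.mul_self_of_two hv2)
        (H65.mul_self_of_two F.toEmb.orderOf_t) hm
      obtain ⟨b, rfl⟩ := F.range u cu
      obtain ⟨c, rfl⟩ := F.range v cv
      have hc0 : typ c ≠ 0 := F.toEmb.orderOf_ι.mp hv2
      have hc : typ c = 3 := by
        by_contra h
        have hcl : F.toEmb.Cl c := (F.toEmb.clB_iff F.cl16 c).mp (by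
          have := (typ_spec c).2.1
          simp [clB]; omega)
        exact F.toEmb.not_cl_x (hcl.trans hv.symm)
      refine ⟨⟨(b, c), ?_⟩, rfl⟩
      simp only [zPairs, Finset.mem_filter, Finset.mem_product, Finset.mem_univ, true_and]
      refine ⟨⟨(F.toEmb.clB_iff F.cl16 b).mpr hu, hc⟩, (F.toEmb.reachesOne_iff _).mpr ?_⟩
      rw [F.hom]; exact hm
  -- pairs with 14 among the powers
  have hn2 : Nat.card {p : G × G // IsConj F.toEmb.t p.1 ∧ IsConj (F.ι 14) p.2 ∧
      F.ι 14 ∈ Subgroup.zpowers (p.1 * p.2)} ≤ 3 := by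
    rw [← Nat.card_fin 3]
    have key : ∀ p : G × G, IsConj F.toEmb.t p.1 → IsConj (F.ι 14) p.2 →
        F.ι 14 ∈ Subgroup.zpowers (p.1 * p.2) → F.InV p.1 ∧ p.2 = p.1 * F.ι 14 := by
      rintro ⟨u, v⟩ hu hv hm
      have hu2 := H65.two_of_isConj F.toEmb.orderOf_t hu
      have hv2 := H65.two_of_isConj hx2 hv
      obtain ⟨cu, cv⟩ := Emb.commute_of_inverts (H65.mul_self_of_two hu2) (H65.mul_self_of_two hv2)
        (H65.mul_self_of_two hx2) hm
      have huV := hfus u cu hu
      refine ⟨huV, ?_⟩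
      have hvi : v⁻¹ = v := H65.inv_of_two hv2
      have hwV := hfus (v * u * v⁻¹) (Commute.mul_left (Commute.mul_left cv cu) cv.inv_left)
        (hu.trans (isConj_iff.mpr ⟨v, rfl⟩))
      -- the square lies in the four-group
      have hsq : ∃ e : Fin 192, (u * v) * (u * v) = F.ι e ∧ (e = 0 ∨ e = 1 ∨ e = 2 ∨ e = 3) := by
        have e0 : (u * v) * (u * v) = u * (v * u * v⁻¹) := by rw [hvi]; group
        rw [e0]
        rcases huV with h | h | h <;> rcases hwV with h' | h' | h' <;> rw [h', h, ← F.hom] <;>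
          exact ⟨_, rfl, by decide +kernel⟩
      obtain ⟨e, he, hee⟩ := hsq
      have hee2 : F.ι e * F.ι e = 1 := by
        rw [← F.hom, show m e e = 0 by rcases hee with rfl | rfl | rfl | rfl <;> decide +kernel,
          F.toEmb.ι_zero]
      rw [← mem_powers_iff_mem_zpowers] at hm
      obtain ⟨n, hn⟩ := hm
      have hn' : (u * v) ^ n = F.ι 14 := hn
      have hd : ∀ k, ((u * v) * (u * v)) ^ k = 1 ∨ ((u * v) * (u * v)) ^ k = F.ι e := by
        intro k
        rw [he]
        induction k with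
        | zero => exact Or.inl (pow_zero _)
        | succ k ih =>
          rw [pow_succ]
          rcases ih with h | h <;> rw [h]
          · exact Or.inr (one_mul _)
          · exact Or.inl hee2
      have huv : ∃ f : Fin 192, (f = 0 ∨ f = e) ∧ u * v = F.ι f * F.ι 14 := by
        rcases Nat.even_or_odd' n with ⟨k, rfl | rfl⟩
        · exfalso
          rw [pow_mul, pow_two] at hn'
          rcases hd k with h | h <;> rw [h] at hn'
          · exact H65.ne_one_of_two hx2 hn'.symm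
          · have := F.inj hn'
            subst this
            exact absurd hee (by decide)
        · rw [pow_add, pow_mul, pow_two, pow_one] at hn'
          rcases hd k with h | h <;> rw [h] at hn'
          · exact ⟨0, Or.inl rfl, by rw [F.toEmb.ι_zero, one_mul, ← hn', one_mul]⟩
          · exact ⟨e, Or.inr rfl, by rw [← hn', ← mul_assoc, hee2, one_mul]⟩
      obtain ⟨f, hf, hfe⟩ := huv
      have hsq1 : (u * v) * (u * v) = 1 := by
        rw [hfe, ← F.hom, ← F.hom]
        have : m (m f 14) (m f 14) = 0 := by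
          rcases hf with rfl | rfl
          · decide +kernel
          · rcases hee with rfl | rfl | rfl | rfl <;> decide +kernel
        rw [this, F.toEmb.ι_zero]
      have he1 : e = 0 := F.toEmb.ι_eq_one.mp (he ▸ hsq1)
      have hf0 : f = 0 := by rcases hf with rfl | rfl <;> [rfl; exact he1]
      rw [hf0, F.toEmb.ι_zero, one_mul] at hfe
      rw [← hfe, H65.mul_mul_self hu2]
    refine Nat.card_le_card_of_injective (fun p => if p.1.1 = F.ι 1 then (0 : Fin 3) else
      if p.1.1 = F.ι 2 then 1 else 2) ?_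
    rintro ⟨⟨u, v⟩, hu, hv, hm⟩ ⟨⟨u', v'⟩, hu', hv', hm'⟩ he
    obtain ⟨h1, h1'⟩ := key _ hu hv hm
    obtain ⟨h2, h2'⟩ := key _ hu' hv' hm'
    have huu : u = u' := by
      have d12 : F.ι 1 ≠ F.ι 2 := fun h => absurd (F.inj h) (by decide)
      have d13 : F.ι 1 ≠ F.ι 3 := fun h => absurd (F.inj h) (by decide)
      have d23 : F.ι 2 ≠ F.ι 3 := fun h => absurd (F.inj h) (by decide)
      rcases h1 with h | h | h <;> rcases h2 with h' | h' | h' <;> simp only at h h' <;>
        subst h <;> subst h' <;> first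
          | rfl
          | simp [d12, d13, d23, d12.symm, d13.symm, d23.symm] at he
    simp only at h1' h2'
    subst huu
    simp [h1', h2']
  -- many conjugates outside the centralizer
  have hlow : 192 * 288 ≤ Nat.card G := by
    have hcl : ∀ i : Fin 192, typ i = 4 → ∃ h : G, h * F.toEmb.t * h⁻¹ = F.ι i ∧
        h * F.ι i * h⁻¹ = F.toEmb.t := fun i hi =>
      F.toEmb.exists_swap ((F.toEmb.clB_iff F.cl16 i).mp (by simp [clB, hi]))
        (fun h => by subst h; exact absurd hi (by decide +kernel))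
    choose hsw hsw1 hsw2 using hcl
    have hp : ∀ q : outPairs, typ q.1.1 = 4 ∧ clB q.1.2 = true ∧
        m q.1.1 q.1.2 ≠ m q.1.2 q.1.1 ∧ reachesOne (m q.1.1 q.1.2) = true := fun q => by
      simpa [outPairs, and_assoc] using q.2
    -- the conjugate attached to a pair
    let U : outPairs → G := fun q => hsw _ (hp q).1 * F.ι q.1.2 * (hsw _ (hp q).1)⁻¹
    have hU : ∀ q, IsConj F.toEmb.t (U q) := fun q =>
      ((F.toEmb.clB_iff F.cl16 _).mp (hp q).2.1).trans (isConj_iff.mpr ⟨_, rfl⟩)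
    have hUi : ∀ q : outPairs, F.ι q.1.1 ∈ Subgroup.zpowers (F.toEmb.t * U q) := fun q => by
      have h := (F.toEmb.reachesOne_iff _).mp (hp q).2.2.2
      obtain ⟨k, hk⟩ := Subgroup.mem_zpowers_iff.mp h
      refine Subgroup.mem_zpowers_iff.mpr ⟨k, ?_⟩
      rw [F.hom] at hk
      calc (F.toEmb.t * U q) ^ k =
            (hsw _ (hp q).1 * (F.ι q.1.1 * F.ι q.1.2) * (hsw _ (hp q).1)⁻¹) ^ k := by
            congr 1
            rw [← hsw2 _ (hp q).1]
            simp only [U]; group
        _ = F.ι q.1.1 := by rw [conj_zpow, hk, hsw1]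
    have hinj : Function.Injective U := by
      intro q q' h
      have hi := hUi q
      rw [h] at hi
      have e1 : q.1.1 = q'.1.1 := F.inj (eq_of_mem_zpowers hi (hUi q')
        (F.toEmb.orderOf_ι.mpr (by rw [(hp q).1]; norm_num))
        (F.toEmb.orderOf_ι.mpr (by rw [(hp q').1]; norm_num)))
      have e2 : q.1.2 = q'.1.2 := by
        have : hsw _ (hp q).1 = hsw _ (hp q').1 := by congr 1
        simp only [U, this, mul_left_inj, mul_right_inj] at h
        exact F.inj h
      exact Subtype.ext (Prod.ext e1 e2)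
    have hk : ∀ q, ∃ k : G, k * F.toEmb.t * k⁻¹ = U q := fun q => isConj_iff.mp (hU q)
    choose K hK using hk
    have hinj2 : Function.Injective (fun p : outPairs × Fin 192 => K p.1 * F.ι p.2) := by
      rintro ⟨q, l⟩ ⟨q', l'⟩ h
      have e : ∀ (q : outPairs) (l : Fin 192),
          (K q * F.ι l) * F.toEmb.t * (K q * F.ι l)⁻¹ = U q := fun q l => by
        rw [← hK q, mul_inv_rev]
        calc _ = K q * (F.ι l * F.toEmb.t * (F.ι l)⁻¹) * (K q)⁻¹ := by group
          _ = _ := by rw [(F.toEmb.commute_t l).eq, mul_inv_cancel_right]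
      simp only at h
      have hq : q = q' := hinj (by rw [← e q l, ← e q' l', h])
      subst hq
      rw [mul_right_inj] at h
      rw [F.inj h]
    have := Nat.card_le_card_of_injective _ hinj2
    rw [Nat.card_prod, Nat.card_eq_fintype_card (α := outPairs), Fintype.card_coe, card_outPairs,
      Nat.card_fin] at this
    omega
  change Nat.card G = Nat.card F.toEmb.cx * _ + _ at hord
  rw [hord] at hlow
  have a1 := Nat.mul_le_mul hC hn1
  have a2 := Nat.mul_le_mul_left 192 hn2
  omega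

end Frame

end H78.MTwelve
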