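import Cfsg.Agent.H78.MTwelve.Icosahedral

/-! The third generator: an element of order 3 in the centralizer of 14 and 32. -/

set_option autoImplicit false

namespace H78.MTwelve

theorem x85_facts : m 85 (m 85 85) = 0 ∧ cj 85 14 = 32 ∧ cj 85 32 = m 14 32 ∧ cj 85 (m 14 32) = 14 ∧
    cj 85 1 = 1 := by decide +kernel

/-- The relations of the third generator. -/
structure IsThird {G : Type*} [Group G] (F : Frame G) (b : G) : Prop where
  cube : b * b * b = 1
  comm_x : Commute b (F.ι 14)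
  comm_s : Commute b (F.ι 32)
  inv_z : (F.ι 1 * b) * (F.ι 1 * b) = 1
  comm_X : Commute b (F.ι 85)
  twist : (F.ι 2 * F.a * b) * (F.ι 2 * F.a * b) = 1

namespace Frame

variable {G : Type*} [Group G] [Finite G] (F : Frame G)

theorem exists_std : ∃ (K : Subgroup F.toEmb.cx) (Φ : K →* Five.P5), K.Normal ∧
    Function.Injective Φ ∧ (∀ σ : Five.P5, Equiv.Perm.sign σ = 1 ↔ ∃ k : K, Φ k = σ) ∧
    (∀ c : F.toEmb.cx, ∃ k ∈ K, ∃ p ∈ F.toEmb.px, c = k * p) ∧
    ∃ z w a : K, (z : F.toEmb.cx) = F.zC ∧ (w : F.toEmb.cx) = F.wC ∧ (a : F.toEmb.cx) = F.aC ∧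
      Φ z = Five.z0 ∧ Φ w = Five.w0 ∧ Φ a = Five.a0 := by
  obtain ⟨K, Φ, hKn, hinj, hran, hz, hw, ha, hcov⟩ := F.exists_icos
  let z : K := ⟨F.zC, hz⟩
  let w : K := ⟨F.wC, hw⟩
  let a : K := ⟨F.aC, ha⟩
  obtain ⟨m1, m2, m3⟩ := F.a_maps
  have hzw : z * w = w * z := Subtype.ext (Subtype.ext ((F.toEmb.commute_t 2).symm))
  have ne_one : ∀ (k : K) (i : Fin 192), ((k : F.toEmb.cx) : G) = F.ι i → i ≠ 0 → Φ k ≠ 1 := by
    intro k i hk hi h
    rw [← map_one Φ] at h
    apply hi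
    rw [← F.toEmb.ι_eq_one, ← hk, hinj h]
    rfl
  have hsq : ∀ (k : K) (i : Fin 192), ((k : F.toEmb.cx) : G) = F.ι i → m i i = 0 → k * k = 1 := by
    intro k i hk hi
    apply Subtype.ext; apply Subtype.ext
    show ((k : F.toEmb.cx) : G) * ((k : F.toEmb.cx) : G) = 1
    rw [hk, ← F.hom, hi, F.toEmb.ι_zero]
  have hz2 : z * z = 1 := hsq z 1 rfl (by decide +kernel)
  have hw2 : w * w = 1 := hsq w 2 rfl (by decide +kernel)
  have hev : ∀ k, Equiv.Perm.sign (Φ k) = 1 := fun k => (hran _).mpr ⟨k, rfl⟩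
  obtain ⟨σ1, h1⟩ := Five.step_z (Φ z) (by rw [← map_mul, hz2, map_one])
    (ne_one z 1 rfl (by decide)) (hev z)
  let Φ1 : K →* Five.P5 := (MulAut.conj σ1).toMonoidHom.comp Φ
  have hz1 : Φ1 z = Five.z0 := by
    show σ1 * Φ z * σ1⁻¹ = Five.z0
    rw [h1, mul_inv_cancel_right]
  have hev1 : ∀ k, Equiv.Perm.sign (Φ1 k) = 1 := fun k => by
    show Equiv.Perm.sign (σ1 * Φ k * σ1⁻¹) = 1
    rw [map_mul, map_mul, hev, mul_one, ← map_mul, mul_inv_cancel, map_one]
  have inj1 : Function.Injective Φ1 := (MulAut.conj σ1).injective.comp hinj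
  obtain ⟨σ2, h2z, h2w⟩ := Five.step_w (Φ1 w) (by rw [← map_mul, hw2, map_one])
    (fun h => ne_one w 2 rfl (by decide) (by
      rw [inj1 (h.trans (map_one Φ1).symm), map_one]))
    (fun h => absurd (F.inj (congrArg (fun y : K => ((y : F.toEmb.cx) : G)) (inj1 (h.trans hz1.symm))))
      (by decide))
    (hev1 w) (by rw [← hz1, ← map_mul, ← map_mul, hzw])
  let Φ2 : K →* Five.P5 := (MulAut.conj σ2).toMonoidHom.comp Φ1
  have inj2 : Function.Injective Φ2 := (MulAut.conj σ2).injective.comp inj1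
  have hz2' : Φ2 z = Five.z0 := by
    show σ2 * Φ1 z * σ2⁻¹ = Five.z0
    rw [hz1, h2z, mul_inv_cancel_right]
  have hw2' : Φ2 w = Five.w0 := by
    show σ2 * Φ1 w * σ2⁻¹ = Five.w0
    rw [h2w, mul_inv_cancel_right]
  have hv : z * w = ⟨F.vC, by
      have : F.vC = F.zC * F.wC := Subtype.ext (by
        show F.ι 3 = F.ι 1 * F.ι 2
        rw [← F.hom]
        exact congrArg F.ι (by decide +kernel))
      rw [this]; exact K.mul_mem hz hw⟩ := Subtype.ext (Subtype.ext (by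
        show F.ι 1 * F.ι 2 = F.ι 3
        rw [← F.hom]
        exact congrArg F.ι (by decide +kernel)))
  have hrot : Five.IsRot (Φ2 a) := by
    refine ⟨?_, fun h => ?_, ?_, ?_⟩
    · rw [← map_mul, ← map_mul, show a * a * a = 1 from Subtype.ext (Subtype.ext F.a_cube), map_one]
    · have ha1 : a = 1 := inj2 (h.trans (map_one Φ2).symm)
      have : F.a = 1 := congrArg (fun y : K => ((y : F.toEmb.cx) : G)) ha1
      have m1' : F.a * F.ι 1 * F.a⁻¹ = F.ι 2 := m1
      rw [this, one_mul, inv_one, mul_one] at m1'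
      exact absurd (F.inj m1') (by decide)
    · rw [← hz2', ← hw2', ← map_mul, ← map_mul]
      exact congrArg Φ2 (Subtype.ext (Subtype.ext (mul_inv_eq_iff_eq_mul.mp m1)))
    · rw [← hw2', ← hz2', ← map_mul, ← map_mul, ← map_mul]
      refine congrArg Φ2 ?_
      rw [hv]
      exact Subtype.ext (Subtype.ext (mul_inv_eq_iff_eq_mul.mp m2))
  obtain ⟨σ3, h3z, h3w, h3a⟩ := Five.step_a (Φ2 a) hrot
  let Φ3 : K →* Five.P5 := (MulAut.conj σ3).toMonoidHom.comp Φ2
  refine ⟨K, Φ3, hKn, (MulAut.conj σ3).injective.comp inj2, fun σ => ⟨fun hσ => ?_, ?_⟩, hcov,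
    z, w, a, rfl, rfl, rfl, ?_, ?_, ?_⟩
  · obtain ⟨k, hk⟩ := (hran (σ1⁻¹ * (σ2⁻¹ * (σ3⁻¹ * σ * σ3) * σ2) * σ1)).mp (by
      simp [hσ])
    refine ⟨k, ?_⟩
    show σ3 * (σ2 * (σ1 * Φ k * σ1⁻¹) * σ2⁻¹) * σ3⁻¹ = σ
    rw [hk]; group
  · rintro ⟨k, rfl⟩
    show Equiv.Perm.sign (σ3 * (σ2 * Φ1 k * σ2⁻¹) * σ3⁻¹) = 1
    simp [hev1]
  · show σ3 * Φ2 z * σ3⁻¹ = Five.z0
    rw [hz2', h3z, mul_inv_cancel_right]
  · show σ3 * Φ2 w * σ3⁻¹ = Five.w0
    rw [hw2', h3w, mul_inv_cancel_right]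
  · show σ3 * Φ2 a * σ3⁻¹ = Five.a0
    rw [h3a, mul_inv_cancel_right]

theorem exists_third : ∃ b : G, IsThird F b ∧
    ∀ H : Subgroup G, (∀ i, F.ι i ∈ H) → F.g ∈ H → b ∈ H → F.toEmb.cx ≤ H := by
  obtain ⟨K, Φ, hKn, hinj, hran, hcov, z, w, a, ez, ew, ea, pz, pw, pa⟩ := F.exists_std
  obtain ⟨-, -, -, -, e3, e0, ec0, ezc, ewac, -⟩ := Five.basic
  obtain ⟨b, hb⟩ := (hran Five.c0).mp ec0
  have hev : ∀ k, Equiv.Perm.sign (Φ k) = 1 := fun k => (hran _).mpr ⟨k, rfl⟩
  -- conjugation by 32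
  let τ : K →* K :=
    { toFun := fun k => ⟨F.sC * k.1 * F.sC⁻¹, hKn.conj_mem _ k.2 F.sC⟩
      map_one' := Subtype.ext (by simp)
      map_mul' := fun k l => Subtype.ext (by push_cast; group) }
  have hτz : τ z = z := by
    apply Subtype.ext
    show F.sC * (z : F.toEmb.cx) * F.sC⁻¹ = z
    rw [ez]
    apply Subtype.ext
    show F.ι 32 * F.ι 1 * (F.ι 32)⁻¹ = F.ι 1
    rw [← F.toEmb.ι_cj, s_facts.2.2.2.2.1]
  have hτw : τ w = z * w := by
    apply Subtype.ext
    show F.sC * (w : F.toEmb.cx) * F.sC⁻¹ = (z : F.toEmb.cx) * w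
    rw [ew, ez]
    apply Subtype.ext
    show F.ι 32 * F.ι 2 * (F.ι 32)⁻¹ = F.ι 1 * F.ι 2
    rw [← F.toEmb.ι_cj, s_facts.2.2.1, ← F.hom]
    exact congrArg F.ι (by decide +kernel)
  have hτa : τ a = a * a := by
    apply Subtype.ext
    show F.sC * (a : F.toEmb.cx) * F.sC⁻¹ = (a : F.toEmb.cx) * a
    rw [ea]
    apply Subtype.ext
    show F.ι 32 * F.a * (F.ι 32)⁻¹ = F.a * F.a
    rw [F.s_conj_a, inv_eq_iff_mul_eq_one, ← mul_assoc]
    exact F.a_cube
  have hb3 : b * b * b = 1 := hinj (by rw [map_mul, map_mul, hb, map_one, e3])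
  have hzb : (z * b) * (z * b) = 1 := hinj (by rw [map_mul, map_mul, pz, hb, map_one, ezc])
  have hwab : (w * a * b) * (w * a * b) = 1 :=
    hinj (by rw [map_mul, map_mul, map_mul, pw, pa, hb, map_one, ewac])
  have hbs : τ b = b := by
    apply hinj
    rw [hb]
    refine Five.c_unique _ ?_ ?_ (hev _) ?_ ?_
    · rw [← map_mul, ← map_mul, ← map_mul τ, ← map_mul τ, hb3, map_one, map_one]
    · intro h
      have h' := hinj (h.trans (map_one Φ).symm)
      have hb1 : b = 1 := by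
        apply Subtype.ext
        have : F.sC * b.1 * F.sC⁻¹ = 1 := congrArg Subtype.val h'
        exact conj_eq_one_iff.mp this
      rw [hb1, map_one] at hb
      exact e0 hb.symm
    · rw [← pz, ← map_mul, ← map_mul, show z * τ b = τ (z * b) by rw [map_mul, hτz], ← map_mul τ,
        hzb, map_one, map_one]
    · rw [← pz, ← pw, ← pa]
      simp only [← map_mul]
      rw [show z * w * (a * a) * τ b = τ (w * a * b) by rw [map_mul, map_mul, hτw, hτa], ← map_mul τ,
        hwab, map_one, map_one]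
  have gb : ∀ k : K, ((k : F.toEmb.cx) : G) = (k : F.toEmb.cx).1 := fun _ => rfl
  set B : G := ((b : F.toEmb.cx) : G) with hB
  have hBx : Commute B (F.ι 14) := F.toEmb.mem_cx.mp b.1.2
  have hBs : Commute B (F.ι 32) := by
    have : F.ι 32 * B * (F.ι 32)⁻¹ = B := congrArg (fun y : K => ((y : F.toEmb.cx) : G)) hbs
    exact (mul_inv_eq_iff_eq_mul.mp this).symm
  have hzB : (F.ι 1 * B) * (F.ι 1 * B) = 1 := by
    have h := congrArg (fun y : K => ((y : F.toEmb.cx) : G)) hzb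
    simp only [Subgroup.coe_mul, Subgroup.coe_one, ez] at h
    exact h
  have hwaB : (F.ι 2 * F.a * B) * (F.ι 2 * F.a * B) = 1 := by
    have h := congrArg (fun y : K => ((y : F.toEmb.cx) : G)) hwab
    simp only [Subgroup.coe_mul, Subgroup.coe_one, ew, ea] at h
    exact h
  have hB3 : B * B * B = 1 := by
    have h := congrArg (fun y : K => ((y : F.toEmb.cx) : G)) hb3
    simpa only [Subgroup.coe_mul, Subgroup.coe_one] using h
  refine ⟨B, ⟨hB3, hBx, hBs, hzB, ?_, hwaB⟩, ?_⟩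
  · -- the element of order 3 normalizing 14 and 32
    obtain ⟨hX3, hX14, hX32, hXp, hX1⟩ := x85_facts
    have c1 : Commute B (F.ι (m 14 32)) := by rw [F.hom]; exact hBx.mul_right hBs
    set Y := F.ι 85
    have hY : Y * (Y * Y) = 1 := by rw [← F.hom, ← F.hom, hX3, F.toEmb.ι_zero]
    set B' := Y * B * Y⁻¹ with hB'
    have hB'x : Commute B' (F.ι 14) := by
      rw [show F.ι 14 = Y * F.ι (m 14 32) * Y⁻¹ by rw [← F.toEmb.ι_cj, hXp]]
      exact (Commute.conj_iff Y).mpr c1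
    have hB's : Commute B' (F.ι 32) := by
      rw [show F.ι 32 = Y * F.ι 14 * Y⁻¹ by rw [← F.toEmb.ι_cj, hX14]]
      exact (Commute.conj_iff Y).mpr hBx
    have hB'3 : B' * B' * B' = 1 := by
      rw [hB', show Y * B * Y⁻¹ * (Y * B * Y⁻¹) * (Y * B * Y⁻¹) = Y * (B * B * B) * Y⁻¹ by group, hB3]
      group
    -- it lies in the normal subgroup of index a power of 2
    set c : F.toEmb.cx := ⟨B', F.toEmb.mem_cx.mpr hB'x⟩
    have hcK : c ∈ K := by
      haveI := hKn
      obtain ⟨k, hk, p, hp, he⟩ := hcov c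
      have hc3 : c * c * c = 1 := Subtype.ext hB'3
      have h16 : p ^ 16 = 1 := by
        rw [← F.toEmb.card_px]
        exact congrArg Subtype.val (pow_card_eq_one' (x := (⟨p, hp⟩ : F.toEmb.px)))
      have hq : ((c : F.toEmb.cx) : F.toEmb.cx ⧸ K) = (p : F.toEmb.cx ⧸ K) := by
        rw [he, QuotientGroup.mk_mul, (QuotientGroup.eq_one_iff k).mpr hk, one_mul]
      rw [← QuotientGroup.eq_one_iff]
      have h1 : ((c : F.toEmb.cx) : F.toEmb.cx ⧸ K) ^ 16 = 1 := by
        rw [hq, ← QuotientGroup.mk_pow, h16, QuotientGroup.mk_one]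
      have h2 : ((c : F.toEmb.cx) : F.toEmb.cx ⧸ K) ^ 3 = 1 := by
        rw [← QuotientGroup.mk_pow, pow_succ, pow_two, hc3, QuotientGroup.mk_one]
      have h := pow_gcd_eq_one.mpr ⟨h1, h2⟩
      rwa [show Nat.gcd 16 3 = 1 from rfl, pow_one] at h
    let c' : K := ⟨c, hcK⟩
    have hc3' : c' * c' * c' = 1 := Subtype.ext (Subtype.ext hB'3)
    have hc1' : Φ c' ≠ 1 := fun h => by
      have h' : B' = 1 := congrArg (fun y : K => ((y : F.toEmb.cx) : G)) (hinj (h.trans (map_one Φ).symm))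
      have hb1 : b = 1 := Subtype.ext (Subtype.ext (conj_eq_one_iff.mp h'))
      rw [hb1, map_one] at hb
      exact e0 hb.symm
    have hzc : (z * c') * (z * c') = 1 := by
      apply Subtype.ext; apply Subtype.ext
      simp only [Subgroup.coe_mul, Subgroup.coe_one, ez]
      show (F.ι 1 * B') * (F.ι 1 * B') = 1
      have e : F.ι 1 = Y * F.ι 1 * Y⁻¹ := by rw [← F.toEmb.ι_cj, hX1]
      rw [hB', e, show Y * F.ι 1 * Y⁻¹ * (Y * B * Y⁻¹) * (Y * F.ι 1 * Y⁻¹ * (Y * B * Y⁻¹)) =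
        Y * ((F.ι 1 * B) * (F.ι 1 * B)) * Y⁻¹ by group, hzB]
      group
    have hτc : τ c' = c' := by
      apply Subtype.ext; apply Subtype.ext
      show F.ι 32 * B' * (F.ι 32)⁻¹ = B'
      rw [hB's.symm.eq, mul_inv_cancel_right]
    have hiff : (a * c') * (a * c') = 1 ↔ (a * a * c') * (a * a * c') = 1 := by
      have e : τ (a * c') = a * a * c' := by rw [map_mul, hτa, hτc]
      constructor
      · intro h
        rw [← e, ← map_mul, h, map_one]
      · intro h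
        rw [← e, ← map_mul] at h
        have h' : F.sC * ((a * c' * (a * c') : K) : F.toEmb.cx) * F.sC⁻¹ = 1 := congrArg Subtype.val h
        exact Subtype.ext (conj_eq_one_iff.mp h')
    have hfix : Five.IsFixedThree (Φ c') := by
      refine ⟨?_, hc1', hev _, ?_, ?_⟩
      · rw [← map_mul, ← map_mul, hc3', map_one]
      · rw [← pz, ← map_mul, ← map_mul, hzc, map_one]
      · rw [← pa, ← map_mul, ← map_mul, ← map_mul, ← map_mul, ← map_mul, ← map_one Φ, hinj.eq_iff,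
          hinj.eq_iff]
        exact hiff
    rcases Five.three_cent _ hfix with h | h
    · rw [← hb] at h
      have e : B' = B := congrArg (fun y : K => ((y : F.toEmb.cx) : G)) (hinj h)
      exact (mul_inv_eq_iff_eq_mul.mp e).symm
    · rw [← hb, ← map_mul] at h
      have e : B' = B * B := congrArg (fun y : K => ((y : F.toEmb.cx) : G)) (hinj h)
      have e2 : Y * Y * B * (Y * Y)⁻¹ = B := by
        calc Y * Y * B * (Y * Y)⁻¹ = Y * B' * Y⁻¹ := by rw [hB']; group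
          _ = (Y * B * Y⁻¹) * (Y * B * Y⁻¹) := by rw [e]; group
          _ = (B * B) * (B * B) := by rw [← hB', e]
          _ = (B * B * B) * B := by group
          _ = B := by rw [hB3, one_mul]
      have hc : Commute B (Y * Y) := (mul_inv_eq_iff_eq_mul.mp e2).symm
      rw [show Y = (Y * Y)⁻¹ from eq_inv_of_mul_eq_one_left hY]
      exact hc.inv_right
  · intro H hι hg hBH g hgC
    obtain ⟨k, hk, p, hp, he⟩ := hcov ⟨g, hgC⟩
    have hp' : (p : G) ∈ H := by
      obtain ⟨i, -, hi⟩ := F.toEmb.mem_px.mp hp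
      exact hi ▸ hι i
    have hgen : ∀ σ : Five.P5, σ ∈ Subgroup.closure ({Five.z0, Five.w0, Five.a0, Five.c0} : Set Five.P5) →
        ∀ j : K, Φ j = σ → ((j : F.toEmb.cx) : G) ∈ H := by
      intro σ hσ
      let S : Subgroup K := H.comap ((Subgroup.subtype _).comp K.subtype)
      have hle : Subgroup.closure ({Five.z0, Five.w0, Five.a0, Five.c0} : Set Five.P5) ≤ S.map Φ := by
        rw [Subgroup.closure_le]
        intro τ0 hτ0
        simp only [Set.mem_insert_iff, Set.mem_singleton_iff] at hτ0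
        rcases hτ0 with rfl | rfl | rfl | rfl
        · refine ⟨z, ?_, pz⟩
          show ((z : F.toEmb.cx) : G) ∈ H
          rw [ez]; exact hι 1
        · refine ⟨w, ?_, pw⟩
          show ((w : F.toEmb.cx) : G) ∈ H
          rw [ew]; exact hι 2
        · refine ⟨a, ?_, pa⟩
          show ((a : F.toEmb.cx) : G) ∈ H
          rw [ea]; exact H.mul_mem hg (hι 32)
        · exact ⟨b, hBH, hb⟩
      intro j hj
      obtain ⟨j', hj', he'⟩ := hle hσ
      rw [hinj (hj.trans he'.symm)]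
      exact hj'
    have hk' : (k : G) ∈ H :=
      hgen (Φ ⟨k, hk⟩) (Five.even_mem_closure _ (hev _)) ⟨k, hk⟩ rfl
    have : g = (k : G) * (p : G) := congrArg Subtype.val he
    rw [this]
    exact H.mul_mem hk' hp'

end Frame

end H78.MTwelve
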